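import Groth.Agent.EtPBCq.SepExt

/-!
# Proper base change in every degree
-/

set_option autoImplicit false
set_option linter.style.haveILetI false
set_option backward.isDefEq.respectTransparency false
set_option backward.isDefEq.respectTransparency.types false
set_option maxHeartbeats 1000000

universe u

open CategoryTheory CategoryTheory.Limits AlgebraicGeometry Opposite TopologicalSpace

namespace Groth.Agent.EtPBCq

theorem bcInv_comp {Y S T U : Scheme.{u}} (a : Y ⟶ S) (σ : T ⟶ S) (ρ : U ⟶ T)
    (h₁ : BCInv a σ) (h₂ : BCInv (pullback.snd a σ) ρ) : BCInv a (ρ ≫ σ) := by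
  intro P p b c _ F hF q
  have c₁ := IsPullback.of_hasPullback a σ
  let m : P ⟶ pullback a σ := c₁.lift p (b ≫ ρ) (c.w.trans (Category.assoc _ _ _).symm)
  have hm : IsPullback m b (pullback.snd a σ) ρ :=
    IsPullback.of_right (by rw [c₁.lift_fst]; exact c) (c₁.lift_snd _ _ _) c₁
  haveI := EtFound.pull_preservesFiniteLimits m
  haveI := EtFound.pull_preservesFiniteLimits (pullback.fst a σ)
  exact bijective_Hpull_comp m _ p (c₁.lift_fst _ _ _)
    (h₂ _ m b hm _ (GalTorLib.isTorsion_pull _ F hF) q) (h₁ _ _ _ c₁ F hF q)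

/-- Local homomorphisms of strictly henselian rings. -/
theorem bcInv_localHom {RS RX : Type u} [CommRing RS] [HenselianLocalRing RS] [CommRing RX] [HenselianLocalRing RX]
    [IsSepClosed (IsLocalRing.ResidueField RS)] [IsSepClosed (IsLocalRing.ResidueField RX)]
    (ψ : RS →+* RX) [IsLocalHom ψ] {P : Scheme.{u}} (b : P ⟶ Spec (CommRingCat.of RS)) [IsProper b] :
    BCInv b (Spec.map (CommRingCat.ofHom ψ)) := by
  refine bcInv_of_closed b RX _ ?_
  let κ := Spec.map (CommRingCat.ofHom (IsLocalRing.ResidueField.map ψ))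
  let cpt := Spec.map (CommRingCat.ofHom (IsLocalRing.residue RS))
  have e : Spec.map (CommRingCat.ofHom (IsLocalRing.residue RX)) ≫ Spec.map (CommRingCat.ofHom ψ) = κ ≫ cpt := by
    simp only [κ, cpt, ← Spec.map_comp]
    exact congrArg Spec.map (CommRingCat.hom_ext (RingHom.ext fun _ => rfl))
  rw [e]
  haveI : IsProper (pullback.snd b cpt) := MorphismProperty.pullback_snd _ _ ‹IsProper b›
  exact bcInv_comp b cpt κ
    (fun P₀ i b₀ c _ F hF q => bijective_Hpull_residue RS b i b₀ c F hF q) (bcInv_sepClosed _ κ)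

/-- Proper base change: the base change maps in all degrees are isomorphisms for torsion sheaves. -/
theorem isIso_bcQ_proper {X Y X' Y' : Scheme.{u}} (f : X ⟶ Y) (g : Y' ⟶ Y) (f' : X' ⟶ Y') (g' : X' ⟶ X)
    (c : IsPullback g' f' f g) [IsProper f] [PreservesFiniteLimits (EtCoh.pull g')] (F : EtCoh.Ab X)
    (hF : EtCoh.IsTorsion F) (q : ℕ) : IsIso (EtBC.bcQ f g f' g' c.w q F) := by
  refine (EtStrictBC.isIso_bcQ_iff_strict g f f' g' c F q).1 ?_
  intro y RS _ _ _ _ _ RX _ _ _ _ _ ψ _ hψ PS PX aS bS cS aX bX cX m w hm _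
  haveI : HenselianLocalRing RS := Hensel.IsStrictHenselization.henselian (R := Y.presheaf.stalk (g.base y))
  haveI : IsSepClosed (IsLocalRing.ResidueField RS) :=
    (Hensel.IsStrictHenselization.isSepClosure (R := Y.presheaf.stalk (g.base y)) (S := RS)).sep_closed
  haveI : HenselianLocalRing RX := Hensel.IsStrictHenselization.henselian (R := Y'.presheaf.stalk y)
  haveI : IsSepClosed (IsLocalRing.ResidueField RX) :=
    (Hensel.IsStrictHenselization.isSepClosure (R := Y'.presheaf.stalk y) (S := RX)).sep_closed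
  haveI : IsProper bS := MorphismProperty.of_isPullback cS ‹IsProper f›
  have sq : IsPullback m bX bS (Spec.map (CommRingCat.ofHom ψ)) := by
    refine IsPullback.of_right ?_ hm cS
    rw [w, ← EtPBC0.specOf_comp g y RS RX ψ hψ]
    exact cX
  exact EtAcycBC.bijective_HpullVia_of_Hpull m aS aX w F q
    (bcInv_localHom ψ bS PX m bX sq _ (GalTorLib.isTorsion_pull aS F hF) q)

end Groth.Agent.EtPBCq
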