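import Groth.Agent.EtTorLib.InjTors
import Groth.Agent.EtTorLib.SepAcyclic
import Groth.Agent.EtFound.Immersion

/-!
# Injective sheaves among those killed by an integer have no higher direct images
-/

set_option autoImplicit false
set_option linter.style.haveILetI false
set_option backward.isDefEq.respectTransparency false
set_option backward.isDefEq.respectTransparency.types false

universe u

open CategoryTheory CategoryTheory.Limits AlgebraicGeometry Opposite

namespace Groth.Agent.EtPBCq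

variable {X Y : Scheme.{u}}

theorem isSepAcyclic_kernel_nsmul (J : EtCoh.Ab X) [Injective J] {n : ℕ} (hn : 0 < n) :
    EtTorLib.IsSepAcyclic (kernel (n • 𝟙 J)) := fun T _ i hi => by
  haveI : AlgebraicGeometry.Etale T.hom := T.prop
  haveI := EtFound.jCont T.hom
  haveI := EtFound.pull_preservesFiniteLimits T.hom
  haveI : Injective ((EtCoh.pull T.hom).obj J) := EtLC12.AffineLocalAcyclic.injective_pull T.hom J
  haveI : (EtCoh.pull T.hom).Additive := (EtCoh.pullPushAdj T.hom).left_adjoint_additive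
  obtain ⟨q, rfl⟩ := Nat.exists_eq_add_of_le hi
  rw [add_comm 1 q]
  let e : (EtCoh.pull T.hom).obj (kernel (n • 𝟙 J)) ≅ kernel (n • 𝟙 ((EtCoh.pull T.hom).obj J)) :=
    PreservesKernel.iso (EtCoh.pull T.hom) (n • 𝟙 J) ≪≫
      kernelIsoOfEq (((EtCoh.pull T.hom).map_nsmul).trans (congrArg (n • ·) ((EtCoh.pull T.hom).map_id J)))
  exact @Equiv.subsingleton _ _ ((EtCoh.HF T.left (q + 1)).mapIso e).addCommGroupIsoToAddEquiv.toEquiv
    (EtTorLib.subsingleton_H_kernel_nsmul _ hn q)

theorem isZero_Rpush_of_killedBy_injective (f : X ⟶ Y) [EtCoh.BCCont f] {n : ℕ} (hn : 0 < n) (I : EtCoh.Ab X)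
    (hI : EtCoh.KilledBy n I)
    (hinj : ∀ (G : EtCoh.Ab X), EtCoh.KilledBy n G → ∀ (a : G ⟶ I) {G' : EtCoh.Ab X} (m : G ⟶ G'),
      EtCoh.KilledBy n G' → Mono m → ∃ b : G' ⟶ I, m ≫ b = a)
    (q : ℕ) (hq : 0 < q) : IsZero ((EtCoh.Rpush f q).obj I) := by
  obtain ⟨⟨J, _, ι, _⟩⟩ := EnoughInjectives.presentation I
  have hzero : n • 𝟙 I = 0 := (EtFound.killedBy_iff_nsmul n I).1 hI
  let j : I ⟶ kernel (n • 𝟙 J) := kernel.lift _ ι (by
    rw [Preadditive.comp_nsmul, Category.comp_id, ← Category.id_comp ι, ← Preadditive.nsmul_comp, hzero, zero_comp])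
  haveI : Mono (j ≫ kernel.ι (n • 𝟙 J)) := by rw [kernel.lift_ι]; infer_instance
  haveI : Mono j := mono_of_mono j (kernel.ι (n • 𝟙 J))
  have hK : EtCoh.KilledBy n (kernel (n • 𝟙 J)) := (EtFound.killedBy_iff_nsmul n _).2 (by
    rw [← cancel_mono (kernel.ι (n • 𝟙 J)), zero_comp, Preadditive.nsmul_comp, Category.id_comp]
    have := kernel.condition (n • 𝟙 J)
    rwa [Preadditive.comp_nsmul, Category.comp_id] at this)
  obtain ⟨b, hb⟩ := hinj I hI (𝟙 I) j hK inferInstance
  have h0 := EtTorLib.isZero_Rpush_of_isSepAcyclic f (isSepAcyclic_kernel_nsmul J hn) q hq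
  rw [IsZero.iff_id_eq_zero, ← CategoryTheory.Functor.map_id, ← hb, Functor.map_comp, h0.eq_of_tgt ((EtCoh.Rpush f q).map j) 0,
    zero_comp]

end Groth.Agent.EtPBCq
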