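import Groth.Agent.EtPBCq.BigEtale
import Groth.Agent.EtPBCq.InjAcyclic
import Groth.Agent.S4329

/-!
# The torsion subsheaf and torsion representatives of bounded below complexes

The torsion subsheaf of an injective sheaf has no higher direct images along quasi-compact
quasi-separated morphisms; a bounded below object of the derived category with torsion cohomology
is represented by a bounded below complex of such sheaves.
-/

set_option autoImplicit false
set_option linter.style.haveILetI false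
set_option backward.isDefEq.respectTransparency false
set_option backward.isDefEq.respectTransparency.types false
set_option maxHeartbeats 1000000

universe u

open CategoryTheory CategoryTheory.Limits AlgebraicGeometry Opposite

attribute [local instance] HasDerivedCategory.standard

namespace Groth.Agent.EtPBCq

variable {X Y : Scheme.{u}}

/-- The indices of the torsion subsheaves. -/
abbrev posSet : Set ℕ := {n : ℕ | 0 < n}

/-- The torsion subsheaf. -/
noncomputable def torsFun : EtCoh.Ab X ⥤ EtCoh.Ab X where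
  obj F := colimit (EtTorLib.torsDiagram F posSet)
  map {F G} a := colimMap
    { app := fun i => kernel.map (i.n • 𝟙 F) (i.n • 𝟙 G) a a (by simp [Preadditive.nsmul_comp, Preadditive.comp_nsmul])
      naturality := fun i k b => by
        refine (cancel_mono (kernel.ι (k.n • 𝟙 G))).1 ?_
        simp [EtTorLib.torsDiagram, kernel.map] }
  map_id F := colimit.hom_ext fun i => by
    rw [ι_colimMap]
    refine ((congrArg (· ≫ colimit.ι (EtTorLib.torsDiagram F posSet) i) ?_).trans (Category.id_comp _)).trans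
      (Category.comp_id _).symm
    refine (cancel_mono (kernel.ι (i.n • 𝟙 F))).1 ?_
    simp [EtTorLib.torsDiagram, kernel.map]
  map_comp {F G H} a b := colimit.hom_ext fun i => by
    rw [ι_colimMap, ι_colimMap_assoc, ι_colimMap]
    refine (congrArg (· ≫ colimit.ι (EtTorLib.torsDiagram H posSet) i) ?_).trans (Category.assoc _ _ _)
    refine (cancel_mono (kernel.ι (i.n • 𝟙 H))).1 ?_
    simp [EtTorLib.torsDiagram, kernel.map]

/-- The inclusion of the torsion subsheaf. -/
noncomputable def torsι : torsFun (X := X) ⟶ 𝟭 _ where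
  app F := colimit.desc _ (EtTorLib.torsCocone F posSet)
  naturality {F G} a := colimit.hom_ext fun i => by
    simp [torsFun, EtTorLib.torsCocone, kernel.map]

instance : (torsFun (X := X)).PreservesZeroMorphisms where
  map_zero F G := colimit.hom_ext fun i => by
    rw [comp_zero]
    simp only [torsFun, ι_colimMap]
    refine (congrArg (· ≫ colimit.ι (EtTorLib.torsDiagram G posSet) i) ?_).trans zero_comp
    refine (cancel_mono (kernel.ι (i.n • 𝟙 G))).1 ?_
    simp [EtTorLib.torsDiagram, kernel.map]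

theorem isTorsion_torsFun (F : EtCoh.Ab X) : EtCoh.IsTorsion ((torsFun).obj F) := fun U s x => by
  haveI := EtTorLib.isFiltered_tidx.{u} (M := posSet) Nat.one_pos EtTorLib.pos_mul
  let D := EtTorLib.torsDiagram F posSet
  obtain ⟨W, g, hW, w, hw⟩ := EtTorLib.exists_affine_nhd U x
  let Γ := sheafToPresheaf X.smallEtaleTopology AddCommGrpCat.{u + 1} ⋙
    (evaluation X.Etaleᵒᵖ AddCommGrpCat.{u + 1}).obj (op W)
  haveI : PreservesColimitsOfShape (EtTorLib.TIdx.{u} posSet) Γ :=
    EtFound.preservesColimitsOfShape_sections_qcqs_ab W (haveI := hW; EtFound.isQcqsObj_of_isAffine W) _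
  obtain ⟨i, t, ht⟩ := Types.jointly_surjective _ (isColimitOfPreserves (forget AddCommGrpCat.{u + 1})
    (isColimitOfPreserves Γ (colimit.isColimit D))) ((colimit D).obj.map g.op s)
  let φ := (colimit.ι D i).hom.app (op W)
  change φ.hom t = _ at ht
  refine ⟨W, g, ⟨w, hw⟩, isOfFinAddOrder_iff_nsmul_eq_zero.2 ⟨i.n, i.mem, ?_⟩⟩
  exact (congrArg (i.n • ·) ht.symm).trans ((map_nsmul φ.hom i.n t).symm.trans
    ((congrArg φ.hom (EtTorLib.nsmul_app_eq_zero (EtTorLib.torsDiagram_nsmul F i) W t)).trans (map_zero _)))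

instance mono_torsι (F : EtCoh.Ab X) : Mono (torsι.app F) := by
  haveI := EtTorLib.isFiltered_tidx.{u} (M := posSet) Nat.one_pos EtTorLib.pos_mul
  refine EtTorLib.mono_of_affine _ fun U _ s hs => ?_
  let D := EtTorLib.torsDiagram F posSet
  let Γ := sheafToPresheaf X.smallEtaleTopology AddCommGrpCat.{u + 1} ⋙
    (evaluation X.Etaleᵒᵖ AddCommGrpCat.{u + 1}).obj (op U)
  haveI : PreservesColimitsOfShape (EtTorLib.TIdx.{u} posSet) Γ :=
    EtFound.preservesColimitsOfShape_sections_qcqs_ab U (EtFound.isQcqsObj_of_isAffine U) _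
  obtain ⟨i, t, ht⟩ := Types.jointly_surjective _
    (isColimitOfPreserves (forget AddCommGrpCat.{u + 1}) (isColimitOfPreserves Γ (colimit.isColimit D))) s
  change (colimit.ι D i).hom.app (op U) t = s at ht
  have h1 : (torsι.app F).hom.app (op U) ((colimit.ι D i).hom.app (op U) t) = (kernel.ι (i.n • 𝟙 F)).hom.app (op U) t :=
    ConcreteCategory.congr_hom (congrArg (fun q : D.obj i ⟶ F => q.hom.app (op U))
      (colimit.ι_desc (EtTorLib.torsCocone F posSet) i)) t
  have : t = 0 := SiteBase.sheaf_app_injective (kernel.ι (i.n • 𝟙 F)) U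
    ((h1.symm.trans ((congrArg _ ht).trans hs)).trans (map_zero _).symm)
  rw [← ht, this]
  exact map_zero _

/-- A morphism from a torsion sheaf factors through the torsion subsheaf. -/
theorem exists_lift_torsFun {A F : EtCoh.Ab X} (hA : EtCoh.IsTorsion A) (a : A ⟶ F) :
    ∃ b : A ⟶ torsFun.obj F, b ≫ torsι.app F = a := by
  obtain ⟨hc⟩ := EtTorLib.nonempty_isColimit_torsCocone A (M := posSet) Nat.one_pos EtTorLib.pos_mul
    (EtTorLib.isTorsion_cond hA)
  refine ⟨hc.desc ⟨_, ?_⟩ ≫ torsFun.map a, ?_⟩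
  · exact (colimit.cocone (EtTorLib.torsDiagram A posSet)).ι
  · refine hc.hom_ext fun i => ?_
    rw [Category.assoc, torsι.naturality, hc.fac_assoc]
    simp [torsι, EtTorLib.torsCocone]

theorem hom_eq_zero_of_torsion {A G : EtCoh.Ab X} (hA : EtCoh.IsTorsion A)
    (hG : ∀ n : ℕ, 0 < n → Mono (n • 𝟙 G)) (a : A ⟶ G) : a = 0 := by
  obtain ⟨hc⟩ := EtTorLib.nonempty_isColimit_torsCocone A (M := posSet) Nat.one_pos EtTorLib.pos_mul
    (EtTorLib.isTorsion_cond hA)
  refine hc.hom_ext fun i => ?_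
  haveI := hG i.n i.mem
  rw [comp_zero, ← cancel_mono (i.n • 𝟙 G), zero_comp, Preadditive.comp_nsmul, Category.comp_id,
    ← Category.id_comp ((EtTorLib.torsCocone A posSet).ι.app i ≫ a), ← Preadditive.nsmul_comp,
    EtTorLib.torsDiagram_nsmul A i, zero_comp]

theorem isTorsion_of_epi {A B : EtCoh.Ab X} (p : A ⟶ B) [Epi p] (hA : EtCoh.IsTorsion A) : EtCoh.IsTorsion B := by
  obtain ⟨b, hb⟩ := exists_lift_torsFun hA p
  haveI : Epi (b ≫ torsι.app B) := by rw [hb]; infer_instance
  haveI : Epi (torsι.app B) := epi_of_epi b _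
  haveI : IsIso (torsι.app B) := isIso_of_mono_of_epi _
  exact CurveCd.isTorsion_of_mono (inv (torsι.app B)) (isTorsion_torsFun B)

/-- The torsion subsheaf of an injective sheaf has no higher direct images. -/
theorem isZero_Rpush_torsFun (f : X ⟶ Y) [QuasiCompact f] [QuasiSeparated f] (I : EtCoh.Ab X) [Injective I] (a : ℕ) :
    IsZero ((EtCoh.Rpush f (a + 1)).obj (torsFun.obj I)) := by
  haveI := EtTorLib.isFiltered_tidx.{u} (M := posSet) Nat.one_pos EtTorLib.pos_mul
  haveI := EtTorLib.preservesColimitsOfShape_Rpush f (a + 1) (EtTorLib.TIdx.{u} posSet)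
  refine EtLeray.isZero_colimit_obj (EtCoh.Rpush f (a + 1)) (EtTorLib.torsDiagram I posSet) fun i => ?_
  haveI := EtTorLib.epi_nsmul I i.mem
  let Sq := ShortComplex.mk (kernel.ι (i.n • 𝟙 I)) (i.n • 𝟙 I) (kernel.condition _)
  have hS : Sq.ShortExact := { exact := ShortComplex.exact_of_f_is_kernel _ (kernelIsKernel _) }
  haveI : Injective Sq.X₂ := ‹Injective I›
  haveI : Injective Sq.X₃ := ‹Injective I›
  haveI : (EtCoh.push f).IsRightAdjoint := (EtCoh.pullPushAdj f).isRightAdjoint
  haveI := EtFound.pull_preservesFiniteLimits f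
  haveI : (EtCoh.pull f).PreservesMonomorphisms := preservesMonomorphisms_of_preservesLimitsOfShape _
  haveI : Injective ((EtCoh.push f).obj I) := Injective.injective_of_adjoint (EtCoh.pullPushAdj f) I
  haveI : Epi ((EtCoh.push f).map Sq.g) := by
    show Epi ((EtCoh.push f).map (i.n • 𝟙 I))
    rw [Functor.map_nsmul, CategoryTheory.Functor.map_id]
    exact EtTorLib.epi_nsmul _ i.mem
  exact EtBCQ.isZero_rightDerived_kernel (EtCoh.push f) hS a

/-- The inclusion, with plain types. -/
noncomputable abbrev torsι₀ (F : EtCoh.Ab X) : torsFun.obj F ⟶ F := torsι.app F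

/-- The map from a torsion stage. -/
noncomputable def torsIncl (F : EtCoh.Ab X) (i : EtTorLib.TIdx.{u} posSet) : kernel (i.n • 𝟙 F) ⟶ torsFun.obj F :=
  colimit.ι (EtTorLib.torsDiagram F posSet) i

theorem torsIncl_ι (F : EtCoh.Ab X) (i : EtTorLib.TIdx.{u} posSet) : torsIncl F i ≫ torsι₀ F = kernel.ι _ :=
  colimit.ι_desc (EtTorLib.torsCocone F posSet) i

theorem isIso_nsmul_cokernel (I : EtCoh.Ab X) [Injective I] {n : ℕ} (hn : 0 < n) :
    IsIso (n • 𝟙 (cokernel (torsι₀ I))) := by
  haveI := EtTorLib.epi_nsmul I hn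
  let g : I ⟶ cokernel (torsι₀ I) := cokernel.π (torsι₀ I)
  haveI : Epi (g ≫ (n • 𝟙 (cokernel (torsι₀ I)))) := by
    rw [Preadditive.comp_nsmul, Category.comp_id, ← Category.id_comp g, ← Preadditive.nsmul_comp]
    exact epi_comp _ _
  haveI : Epi (n • 𝟙 (cokernel (torsι₀ I))) := epi_of_epi g _
  haveI : Mono (n • 𝟙 (cokernel (torsι₀ I))) := by
    refine Preadditive.mono_of_cancel_zero _ fun {P} x hx => ?_
    obtain ⟨P₁, π₁, _, y, hy⟩ := surjective_up_to_refinements_of_epi g x
    rw [Preadditive.comp_nsmul, Category.comp_id] at hx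
    have h1 : (n • y) ≫ g = 0 := by rw [Preadditive.nsmul_comp, ← hy, ← Preadditive.comp_nsmul, hx, comp_zero]
    let S := ShortComplex.mk (torsι₀ I) g (cokernel.condition _)
    obtain ⟨P₂, π₂, _, t, ht⟩ :=
      (ShortComplex.exact_of_g_is_cokernel S (cokernelIsCokernel _)).exact_up_to_refinements (n • y) h1
    haveI : Epi (n • 𝟙 (torsFun.obj I)) := by
      refine Preadditive.epi_of_cancel_zero _ fun {Q} z hz => colimit.hom_ext fun i => ?_
      obtain ⟨k, hk⟩ : ∃ k : EtTorLib.TIdx.{u} posSet, k.n = n * i.n := ⟨⟨⟨_, Nat.mul_pos hn i.mem⟩⟩, rfl⟩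
      obtain ⟨P₃, π₃, _, w, hw⟩ := surjective_up_to_refinements_of_epi (n • 𝟙 I) (kernel.ι (i.n • 𝟙 I))
      rw [Preadditive.comp_nsmul, Category.comp_id] at hw
      have hw0 : w ≫ (k.n • 𝟙 I) = 0 := by
        rw [hk, Preadditive.comp_nsmul, Category.comp_id, mul_nsmul, ← hw, ← Category.comp_id (π₃ ≫ _),
          ← Preadditive.comp_nsmul, Category.assoc, kernel.condition, comp_zero]
      let l := kernel.lift (k.n • 𝟙 I) w hw0
      have e : π₃ ≫ torsIncl I i = (l ≫ torsIncl I k) ≫ (n • 𝟙 (torsFun.obj I)) := by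
        rw [← cancel_mono (torsι₀ I), Category.assoc, torsIncl_ι, Preadditive.comp_nsmul, Category.comp_id,
          Preadditive.nsmul_comp, Category.assoc, torsIncl_ι, kernel.lift_ι, hw]
      rw [comp_zero, ← cancel_epi π₃, comp_zero]
      refine (Category.assoc _ _ _).symm.trans ((congrArg (· ≫ z) e).trans ?_)
      rw [Category.assoc, hz, comp_zero]
    obtain ⟨P₃, π₃, _, t', ht'⟩ := surjective_up_to_refinements_of_epi (n • 𝟙 (torsFun.obj I)) t
    rw [Preadditive.comp_nsmul, Category.comp_id] at ht'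
    change π₂ ≫ (n • y) = t ≫ torsι₀ I at ht
    let v := π₃ ≫ π₂ ≫ y - t' ≫ torsι₀ I
    have hv : v ≫ (n • 𝟙 I) = 0 := by
      rw [Preadditive.comp_nsmul, Category.comp_id, smul_sub, ← Preadditive.comp_nsmul, ← Preadditive.comp_nsmul,
        ht, ← Category.assoc, ht', Preadditive.nsmul_comp, sub_self]
    let i : EtTorLib.TIdx.{u} posSet := ⟨⟨n, hn⟩⟩
    have hv' : v = (kernel.lift (i.n • 𝟙 I) v hv ≫ torsIncl I i) ≫ torsι₀ I := by
      rw [Category.assoc, torsIncl_ι, kernel.lift_ι]
    have h2 : v ≫ g = 0 := by rw [hv', Category.assoc, cokernel.condition, comp_zero]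
    rw [Preadditive.sub_comp, Category.assoc, Category.assoc, ← hy, Category.assoc, cokernel.condition, comp_zero,
      sub_zero] at h2
    rw [← cancel_epi π₁, ← cancel_epi π₂, ← cancel_epi π₃, h2, comp_zero, comp_zero, comp_zero]
  exact isIso_of_mono_of_epi _

/-- A bounded below complex of injectives with torsion cohomology is quasi-isomorphic to its torsion part. -/
theorem quasiIso_torsι (I : CochainComplex (EtCoh.Ab X) ℤ) [∀ m, Injective (I.X m)]
    (ht : ∀ m, EtCoh.IsTorsion (I.homology m)) :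
    QuasiIso ((NatTrans.mapHomologicalComplex torsι (ComplexShape.up ℤ)).app I :
      (torsFun.mapHomologicalComplex (ComplexShape.up ℤ)).obj I ⟶ I) := by
  let φ : (torsFun.mapHomologicalComplex (ComplexShape.up ℤ)).obj I ⟶ I :=
    (NatTrans.mapHomologicalComplex torsι (ComplexShape.up ℤ)).app I
  show QuasiIso φ
  haveI : ∀ m, Mono (φ.f m) := fun m => mono_torsι _
  haveI : Mono φ := HomologicalComplex.mono_of_mono_f φ inferInstance
  let Q := cokernel φ
  haveI := @CategoryTheory.categoryWithHomology_of_abelian (CochainComplex (EtCoh.Ab X) ℤ) _ _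
  let S := ShortComplex.mk φ (cokernel.π φ) (cokernel.condition φ)
  have hS : S.ShortExact := { exact := ShortComplex.exact_of_g_is_cokernel _ (cokernelIsCokernel _) }
  have hn : ∀ m (n : ℕ), 0 < n → IsIso (n • 𝟙 (Q.X m)) := fun m n hn => by
    let e : Q.X m ≅ cokernel (torsι.app (I.X m)) :=
      PreservesCokernel.iso (HomologicalComplex.eval (EtCoh.Ab X) (ComplexShape.up ℤ) m) φ
    haveI := isIso_nsmul_cokernel (I.X m) hn
    have : n • 𝟙 (Q.X m) = e.hom ≫ (n • 𝟙 _) ≫ e.inv := by
      rw [Preadditive.nsmul_comp, Category.id_comp, Preadditive.comp_nsmul, e.hom_inv_id]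
    rw [this]
    infer_instance
  have hH : ∀ m (n : ℕ), 0 < n → IsIso (n • 𝟙 (Q.homology m)) := fun m n h => by
    haveI : ∀ m, IsIso ((n • 𝟙 Q : Q ⟶ Q).f m) := fun m => by
      rw [HomologicalComplex.nsmul_f_apply, HomologicalComplex.id_f]; exact hn m n h
    haveI : IsIso (n • 𝟙 Q) := HomologicalComplex.Hom.isIso_of_components _
    have : n • 𝟙 (Q.homology m) = (HomologicalComplex.homologyFunctor _ _ m).map (n • 𝟙 Q) := by
      rw [Functor.map_nsmul, CategoryTheory.Functor.map_id]; rfl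
    rw [this]
    infer_instance
  have hT : ∀ m, EtCoh.IsTorsion (S.X₁.homology m) := fun m =>
    isTorsion_of_epi (S.X₁.homologyπ m)
      (CurveCd.isTorsion_of_mono (S.X₁.iCycles m) (isTorsion_torsFun _))
  have hz : ∀ m, IsZero (Q.homology m) := fun m => by
    have hrel : (ComplexShape.up ℤ).Rel m (m + 1) := rfl
    have hg : HomologicalComplex.homologyMap (cokernel.π φ) m = 0 :=
      hom_eq_zero_of_torsion (ht m) (fun n h => @IsIso.mono_of_iso _ _ _ _ _ (hH m n h)) _
    haveI : Mono (hS.δ m (m + 1) hrel) := (hS.homology_exact₃ m (m + 1) hrel).mono_g hg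
    rw [IsZero.iff_id_eq_zero]
    exact hom_eq_zero_of_torsion (CurveCd.isTorsion_of_mono (hS.δ m (m + 1) hrel) (hT (m + 1)))
      (fun n h => @IsIso.mono_of_iso _ _ _ _ _ (hH m n h)) _
  refine ⟨fun m => ?_⟩
  rw [quasiIsoAt_iff_isIso_homologyMap]
  haveI : Mono (HomologicalComplex.homologyMap φ m) :=
    (hS.homology_exact₁ (m - 1) m (by simp)).mono_g ((hz (m - 1)).eq_of_src _ _)
  haveI : Epi (HomologicalComplex.homologyMap φ m) :=
    (hS.homology_exact₂ m).epi_f ((hz m).eq_of_tgt _ _)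
  exact isIso_of_mono_of_epi _

theorem exists_inj_rep (L : CochainComplex (EtCoh.Ab X) ℤ) (a : ℤ) [L.IsStrictlyGE a] :
    ∃ M : CochainComplex (EtCoh.Ab X) ℤ, (∀ m, Injective (M.X m)) ∧ M.IsStrictlyGE a ∧
      ∃ φ : L ⟶ M, IsIso (DerivedCategory.Q.map φ) := by
  obtain ⟨M, i, hi, hM, hMa⟩ := CochainComplex.Plus.modelCategoryQuillen.exists_quasiIso_injective L a
  haveI := hi
  exact ⟨M, hM, hMa, i, inferInstance⟩

/-- Torsion representatives without higher direct images. -/
theorem exists_torsion_rep (K : DCoh.DEt X) (a : ℤ) (hb : ∀ n : ℤ, n < a → IsZero (DCoh.HDEt K n))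
    (ht : ∀ n : ℤ, EtCoh.IsTorsion (DCoh.HDEt K n)) :
    ∃ T : CochainComplex (EtCoh.Ab X) ℤ, T.IsStrictlyGE a ∧ (∀ n, EtCoh.IsTorsion (T.X n)) ∧
      (∀ (n : ℤ) {Y : Scheme.{u}} (f : X ⟶ Y) [QuasiCompact f] [QuasiSeparated f] (q : ℕ),
        IsZero ((EtCoh.Rpush f (q + 1)).obj (T.X n))) ∧
      Nonempty (DerivedCategory.Q.obj T ≅ K) := by
  haveI : K.IsGE a := (DerivedCategory.isGE_iff K a).2 hb
  obtain ⟨L, _, ⟨e⟩⟩ := DerivedCategory.exists_iso_Q_obj_of_isGE K a
  obtain ⟨M, hM, hMa, ⟨φ, hφ⟩⟩ := exists_inj_rep L a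
  haveI := hMa
  haveI := hM
  let eM : DerivedCategory.Q.obj M ≅ K := (asIso (DerivedCategory.Q.map φ)).symm ≪≫ e.symm
  have hH : ∀ m, EtCoh.IsTorsion (M.homology m) := fun m =>
    CurveCd.isTorsion_of_mono (((DerivedCategory.homologyFunctorFactors (EtCoh.Ab X) m).app M).inv ≫
      ((DerivedCategory.homologyFunctor (EtCoh.Ab X) m).mapIso eM).hom) (ht m)
  haveI := quasiIso_torsι M hH
  refine ⟨(torsFun.mapHomologicalComplex (ComplexShape.up ℤ)).obj M, inferInstance, fun n => isTorsion_torsFun _,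
    fun n Y f _ _ q => isZero_Rpush_torsFun f (M.X n) q,
    ⟨asIso (DerivedCategory.Q.map ((NatTrans.mapHomologicalComplex torsι (ComplexShape.up ℤ)).app M :
      (torsFun.mapHomologicalComplex (ComplexShape.up ℤ)).obj M ⟶ M)) ≪≫ eM⟩⟩

end Groth.Agent.EtPBCq
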