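import Groth.Agent.EtPBCq.ShriekPush
import Groth.Agent.EtPBCq.TorsPart
import Groth.Agent.EtPBCq.ProperBC
import Groth.Agent.EtFound.AbRecollement
import Groth.Agent.EtLeray.CompN
import Groth.Agent.EtBCQ.Sq
import Groth.Agent.EtBCFib.ViaSquare
import Groth.Agent.GalTorLib.Basic
import Groth.Agent.BigSiteLib.HofPushEt
import Groth.Agent.S0071
import Groth.Agent.S0156
import Groth.Agent.S0171
import Groth.Agent.S0621
import Groth.Agent.S14389

/-!
# The long exact sequence of an abstract blow-up square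
-/

set_option autoImplicit false
set_option linter.style.haveILetI false
set_option backward.isDefEq.respectTransparency false
set_option backward.isDefEq.respectTransparency.types false
set_option maxHeartbeats 1000000

universe u

open CategoryTheory CategoryTheory.Limits AlgebraicGeometry Opposite CategoryTheory.Abelian

namespace Groth.Agent.EtPBCq

variable {X X' : Scheme.{u}} (b : X' ⟶ X)

theorem isIso_pullback_snd_of_isIso_restrict (U : X.Opens) [IsIso (b ∣_ U)] {T : Scheme.{u}} (ξ : T ⟶ X)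
    (h : Set.range ξ.base ⊆ (U : Set X)) : IsIso (pullback.snd b ξ) := by
  let ξ' : T ⟶ U := IsOpenImmersion.lift U.ι ξ (by rw [Scheme.Opens.range_ι]; exact h)
  have hξ : ξ' ≫ U.ι = ξ := IsOpenImmersion.lift_fac _ _ _
  have sq := isPullback_morphismRestrict b U
  let r : T ⟶ pullback b ξ := pullback.lift (ξ' ≫ inv (b ∣_ U) ≫ (b ⁻¹ᵁ U).ι) (𝟙 _) (by
    rw [Category.assoc, Category.assoc, ← sq.w, IsIso.inv_hom_id_assoc, hξ, Category.id_comp])
  refine ⟨r, ?_, pullback.lift_snd _ _ _⟩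
  refine pullback.hom_ext ?_ (by simp [r])
  have hl : (pullback.snd b ξ ≫ ξ') ≫ U.ι = pullback.fst b ξ ≫ b := by
    rw [Category.assoc, hξ, pullback.condition]
  simp only [r, Category.assoc, pullback.lift_fst, Category.id_comp]
  have h1 := sq.lift_fst _ _ hl
  have h2 := sq.lift_snd _ _ hl
  generalize sq.lift _ _ hl = l at h1 h2
  rw [← h2, ← Category.assoc (pullback.snd b ξ) ξ', ← h1]
  simp

/-- A morphism of sheaves inverted by inverse image to a geometric point is inverted on that stalk. -/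
theorem isIso_stalk_map_of_pull {Ω : Type u} [Field Ω] [IsSepClosed Ω] (ξ : Spec (CommRingCat.of Ω) ⟶ X)
    {A B : EtCoh.Ab X} (α : A ⟶ B) [IsIso ((EtCoh.pull ξ).map α)] : IsIso ((EtCoh.stalk ξ).map α) := by
  have : IsIso ((EtCoh.stalk (𝟙 _ ≫ ξ)).map α) :=
    (NatIso.isIso_map_iff (EtFound.stalkPullIso ξ (𝟙 _)) α).1
      (inferInstanceAs (IsIso ((EtCoh.stalk (𝟙 _)).map ((EtCoh.pull ξ).map α))))
  rwa [Category.id_comp] at this

variable {Z : Set X} (K : EtCoh.Ab X) (hK : EtCoh.IsTorsion K)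
  (hKZ : ∀ (Ω : Type u) [Field Ω] [IsSepClosed Ω] (ξ : Spec (CommRingCat.of Ω) ⟶ X),
    ξ.base default ∈ Z → IsZero ((EtCoh.stalk ξ).obj K))

include hKZ in
theorem isZero_pull_of_range_subset {W : Scheme.{u}} (g : W ⟶ X) (h : ∀ w, g.base w ∈ Z) :
    IsZero ((EtCoh.pull g).obj K) := by
  refine (EtFound.isZero_iff_stalks _).2 fun Ω _ _ ζ => ?_
  refine IsZero.of_iso (hKZ Ω (ζ ≫ g) ?_) ((EtFound.stalkPullIso g ζ).app K)
  rw [Scheme.Hom.comp_apply]
  exact h _

variable [IsProper b] (U : X.Opens) (hU : (U : Set X) = Zᶜ) [IsIso (b ∣_ U)]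

include hK hKZ hU

/-- A torsion sheaf vanishing on the centre has the same cohomology on the blow-up. -/
theorem bijective_Hpull_of_zero_on_centre [PreservesFiniteLimits (EtCoh.pull b)] (p : ℕ) :
    Function.Bijective (EtCore.Hpull b K p) := by
  have hT : EtCoh.IsTorsion ((EtCoh.pull b).obj K) := GalTorLib.isTorsion_pull b K hK
  have hzero : ∀ {Ω : Type u} [Field Ω] [IsSepClosed Ω] (ξ : Spec (CommRingCat.of Ω) ⟶ X), ξ.base default ∈ Z →
      IsZero ((EtCoh.pull (pullback.fst b ξ)).obj ((EtCoh.pull b).obj K)) := fun ξ hξ =>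
    (isZero_pull_of_range_subset K hKZ (pullback.fst b ξ ≫ b) fun w => by
      rw [pullback.condition, Scheme.Hom.comp_apply, Subsingleton.elim ((pullback.snd b ξ).base w) default]
      exact hξ).of_iso ((EtCore.pullComp (pullback.fst b ξ) b).app K).symm
  have hR : ∀ q : ℕ, IsZero ((EtCoh.Rpush b (q + 1)).obj ((EtCoh.pull b).obj K)) := fun q => by
    refine (EtFound.isZero_iff_stalks _).2 fun Ω _ _ ξ => ?_
    obtain ⟨e⟩ := S0156.result b ξ _ hT (q + 1)
    refine IsZero.of_iso ?_ e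
    by_cases hξ : ξ.base default ∈ Z
    · exact (EtCoh.HF (pullback b ξ) (q + 1)).map_isZero (hzero ξ hξ)
    · haveI := isIso_pullback_snd_of_isIso_restrict b U ξ (by
        rintro _ ⟨x, rfl⟩
        rw [Subsingleton.elim x default, SetLike.mem_coe, ← SetLike.mem_coe, hU]; exact hξ)
      haveI : Subsingleton ↥(pullback b ξ) :=
        (pullback.snd b ξ).homeomorph.injective.subsingleton
      haveI := S0171.result (pullback b ξ) (pullback.snd b ξ) ((EtCoh.pull (pullback.fst b ξ)).obj ((EtCoh.pull b).obj K))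
        (fun x _ => by
          have : ({x} : Set ↥(pullback b ξ)) = Set.univ := Set.eq_univ_of_forall fun _ => Subsingleton.elim _ _
          rw [this]; exact isClosed_univ) (q + 1) q.succ_pos
      exact AddCommGrpCat.isZero_of_subsingleton _
  haveI : IsIso ((EtCoh.pullPushAdj b).unit.app K) := (EtFound.isIso_iff_stalks _).2 fun Ω _ _ ξ => by
    by_cases hξ : ξ.base default ∈ Z
    · refine IsZero.isIso (hKZ Ω ξ hξ) ?_ _
      obtain ⟨e⟩ := S0156.result b ξ _ hT 0
      refine IsZero.of_iso (IsZero.of_iso ?_ e) ((EtCoh.stalk ξ).mapIso (((EtCoh.push b).rightDerivedZeroIsoSelf).app _).symm)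
      exact (EtCoh.HF (pullback b ξ) 0).map_isZero (hzero ξ hξ)
    · haveI := isIso_pullback_snd_of_isIso_restrict b U ξ (by
        rintro _ ⟨x, rfl⟩
        rw [Subsingleton.elim x default, SetLike.mem_coe, ← SetLike.mem_coe, hU]; exact hξ)
      let fs := pullback.fst b ξ
      let sn := pullback.snd b ξ
      have c : IsPullback fs sn b ξ := IsPullback.of_hasPullback b ξ
      haveI := EtFound.pull_preservesFiniteLimits fs
      haveI := isIso_bcQ_proper b ξ sn fs c ((EtCoh.pull b).obj K) hT 0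
      haveI := EtLeray.isIso_baseChange0_of_bcQ ξ b fs sn c.w ((EtCoh.pull b).obj K)
        (isIso_bcQ_proper b ξ sn fs c ((EtCoh.pull b).obj K) hT 0)
      haveI : IsIso (EtBCQ.sqPull b ξ sn fs c.w K) :=
        ⟨EtBCQ.sqPull ξ b fs sn c.w.symm K, EtBCQ.sqPull_comp b ξ sn fs c.w K, EtBCQ.sqPull_comp ξ b fs sn c.w.symm K⟩
      haveI : IsIso ((EtCoh.pullPushAdj sn).unit.app ((EtCoh.pull ξ).obj K)) :=
        EtFound.unit_isIso_of_surjective sn _
      have h1 : (EtCoh.pull ξ).map ((EtCoh.pullPushAdj b).unit.app K) ≫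
          EtCoh.baseChange0 b ξ sn fs c.w ((EtCoh.pull b).obj K) =
          (EtCoh.pullPushAdj sn).unit.app ((EtCoh.pull ξ).obj K) ≫ (EtCoh.push sn).map (EtBCQ.sqPull b ξ sn fs c.w K) := by
        refine Eq.trans ?_ (Adjunction.homEquiv_unit (EtCoh.pullPushAdj sn) _ _ _)
        exact (Equiv.apply_symm_apply _ _).symm
      haveI : IsIso ((EtCoh.pull ξ).map ((EtCoh.pullPushAdj b).unit.app K) ≫
          EtCoh.baseChange0 b ξ sn fs c.w ((EtCoh.pull b).obj K)) := by rw [h1]; infer_instance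
      haveI := IsIso.of_isIso_comp_right ((EtCoh.pull ξ).map ((EtCoh.pullPushAdj b).unit.app K))
        (EtCoh.baseChange0 b ξ sn fs c.w ((EtCoh.pull b).obj K))
      exact isIso_stalk_map_of_pull ξ _
  have e : ⇑(EtCore.Hpull b K p) = ⇑(EtLim.HofPush b ((EtCoh.pull b).obj K) p) ∘
      ((EtCoh.HF X p).map ((EtCoh.pullPushAdj b).unit.app K)) := funext fun α => (GalTorLib.hofPush_unit b K p α).symm
  rw [e]
  exact (BigSiteLib.hofPush_bijective b _ (fun q hq => by
    obtain ⟨q', rfl⟩ := Nat.exists_eq_succ_of_ne_zero hq.ne'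
    exact hR q') p).comp (ConcreteCategory.bijective_of_isIso _)

omit hK hKZ hU

end Groth.Agent.EtPBCq

namespace Groth.Agent.EtPBCq

open EtBCFib EtContLib

variable {X X' Z₀ E : Scheme.{u}}

theorem ext_sub_comp {C : Type*} [Category C] [Abelian C] [HasExt C] {A B D : C} {n m p : ℕ} (α β : Ext A B n) (γ : Ext B D m)
    (h : n + m = p) : (α - β).comp γ h = α.comp γ h - β.comp γ h :=
  map_sub (AddMonoidHom.mk' (fun t : Ext A B n => t.comp γ h) fun _ _ => Ext.add_comp _ _ _ _) α β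

theorem viaHom_square (b : X' ⟶ X) (i : Z₀ ⟶ X) (π : E ⟶ Z₀) (k : E ⟶ X') (w : π ≫ i = k ≫ b) (F : EtCoh.Ab X) :
    viaHom k b (k ≫ b) rfl F =
      ((EtCoh.pull k).map ((EtCoh.pull b).map ((EtCoh.pullPushAdj i).unit.app F) ≫
        EtCoh.baseChange0 i b k π w ((EtCoh.pull i).obj F)) ≫ (EtCoh.pullPushAdj k).counit.app _) ≫
        viaHom π i (k ≫ b) w F := by
  let bb : (EtCoh.pull b).obj F ⟶ (EtCoh.push k).obj ((EtCoh.pull π).obj ((EtCoh.pull i).obj F)) :=
    (EtCoh.pull b).map ((EtCoh.pullPushAdj i).unit.app F) ≫ EtCoh.baseChange0 i b k π w ((EtCoh.pull i).obj F)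
  let ε : (EtCoh.pull k).obj ((EtCoh.push k).obj ((EtCoh.pull π).obj ((EtCoh.pull i).obj F))) ⟶
      (EtCoh.pull π).obj ((EtCoh.pull i).obj F) :=
    (EtCoh.pullPushAdj k).counit.app _
  haveI : IsIso (viaHom π i (k ≫ b) w F) := inferInstance
  let c : (EtCoh.pull (k ≫ b)).obj F ⟶ (EtCoh.pull π).obj ((EtCoh.pull i).obj F) := inv (viaHom π i (k ≫ b) w F)
  suffices key : viaHom k b (k ≫ b) rfl F ≫ c = (EtCoh.pull k).map bb ≫ ε by
    show _ = ((EtCoh.pull k).map bb ≫ ε) ≫ _
    rw [← key, Category.assoc, IsIso.inv_hom_id, Category.comp_id]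
  refine (cancel_epi ((EtCore.pullComp k b).hom.app F)).1 ?_
  have hsimp : ∀ β : (EtCoh.pull k).obj ((EtCoh.pull b).obj F) ⟶ (EtCoh.pull π).obj ((EtCoh.pull i).obj F),
      (EtCore.pullComp k b).hom.app F ≫ β = comp2 k b (k ≫ b) rfl (𝟙 _) β := fun β => by
    simp [comp2, EtCore.pullCongr]
  refine (hsimp _).trans (Eq.trans ?_ (hsimp _).symm)
  rw [comp2_viaHom]
  have hc : c = comp2 π i (k ≫ b) w (𝟙 _) (𝟙 _) := by
    have := comp2_viaHom π i (k ≫ b) w F c
    rw [IsIso.hom_inv_id] at this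
    exact this.symm
  rw [hc]
  apply ((EtCoh.pullPushAdj (k ≫ b)).homEquiv _ _).injective
  rw [homEquiv_comp2', EtContLib.homEquiv_comp2]
  have e1 : (EtCoh.pullPushAdj k).homEquiv _ _ ((EtCoh.pull k).map bb ≫ ε) = bb := by
    rw [Adjunction.homEquiv_naturality_left]
    simp [ε, Adjunction.homEquiv_unit]
  have e2 : (EtCoh.pullPushAdj b).homEquiv _ _ (𝟙 _) ≫ (EtCoh.push b).map bb =
      (EtCoh.pullPushAdj i).unit.app F ≫ (EtCoh.push i).map ((EtCoh.pullPushAdj π).unit.app ((EtCoh.pull i).obj F)) ≫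
        (EtCoh.pushComp i π).hom.app _ ≫
          (EtCoh.pushCongr w).hom.app _ ≫ (EtCoh.pushComp b k).inv.app _ := by
    rw [← Adjunction.homEquiv_naturality_right, Category.id_comp]
    exact (Adjunction.homEquiv_naturality_left _ _ _).trans
      (congrArg ((EtCoh.pullPushAdj i).unit.app F ≫ ·) (Equiv.apply_symm_apply _ _))
  rw [e1, reassoc_of% e2, Iso.inv_hom_id_app]
  simp [Adjunction.homEquiv_unit]

section Ladder

variable {K F G Z K' F' G' E : ℕ → Type*} [∀ p, AddCommGroup (K p)] [∀ p, AddCommGroup (F p)] [∀ p, AddCommGroup (G p)]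
  [∀ p, AddCommGroup (Z p)] [∀ p, AddCommGroup (K' p)] [∀ p, AddCommGroup (F' p)] [∀ p, AddCommGroup (G' p)]
  [∀ p, AddCommGroup (E p)]

/-- A map of long exact sequences which is bijective on one term gives a Mayer-Vietoris sequence. -/
theorem exists_ladder (ι : ∀ p, K p →+ F p) (r : ∀ p, F p →+ G p) (d : ∀ p, G p →+ K (p + 1))
    (ι' : ∀ p, K' p →+ F' p) (r' : ∀ p, F' p →+ G' p) (d' : ∀ p, G' p →+ K' (p + 1))
    (a : ∀ p, K p →+ K' p) (ha : ∀ p, Function.Bijective (a p)) (f : ∀ p, F p →+ F' p) (g : ∀ p, G p →+ G' p)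
    (c₁ : ∀ p x, f p (ι p x) = ι' p (a p x)) (c₂ : ∀ p x, g p (r p x) = r' p (f p x))
    (c₃ : ∀ p x, a (p + 1) (d p x) = d' p (g p x))
    (x₀ : Function.Injective (ι' 0))
    (e₁ : ∀ p, Function.Exact (ι p) (r p)) (e₂ : ∀ p, Function.Exact (r p) (d p))
    (e₃ : ∀ p, Function.Exact (d p) (ι (p + 1)))
    (e₁' : ∀ p, Function.Exact (ι' p) (r' p)) (e₂' : ∀ p, Function.Exact (r' p) (d' p))
    (e₃' : ∀ p, Function.Exact (d' p) (ι' (p + 1)))
    (u : ∀ p, G p →+ Z p) (hu : ∀ p, Function.Bijective (u p)) (v : ∀ p, G' p →+ E p) (hv : ∀ p, Function.Bijective (v p))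
    (R : ∀ p, F p →+ Z p) (hR : ∀ p x, R p x = u p (r p x)) (R' : ∀ p, F' p →+ E p) (hR' : ∀ p x, R' p x = v p (r' p x))
    (P : ∀ p, Z p →+ E p) (hP : ∀ p x, P p (u p x) = v p (g p x)) :
    ∃ δ : ∀ p, E p →+ F (p + 1),
      Function.Injective (fun x : F 0 => (f 0 x, R 0 x)) ∧
      ∀ p, Function.Exact (fun x : F p => (f p x, R p x)) (fun w : F' p × Z p => R' p w.1 - P p w.2) ∧
        Function.Exact (fun w : F' p × Z p => R' p w.1 - P p w.2) (δ p) ∧
        Function.Exact (δ p) (fun x : F (p + 1) => (f (p + 1) x, R (p + 1) x)) := by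
  let δ : ∀ p, E p →+ F (p + 1) := fun p => (ι (p + 1)).comp
    ((AddEquiv.ofBijective _ (ha (p + 1))).symm.toAddMonoidHom.comp
      ((d' p).comp (AddEquiv.ofBijective _ (hv p)).symm.toAddMonoidHom))
  have hδ : ∀ p z q, a (p + 1) q = d' p z → δ p (v p z) = ι (p + 1) q := fun p z q hq => by
    show ι (p + 1) ((AddEquiv.ofBijective _ (ha (p + 1))).symm (d' p ((AddEquiv.ofBijective _ (hv p)).symm (v p z)))) = _
    rw [show (AddEquiv.ofBijective _ (hv p)).symm (v p z) = z from (AddEquiv.ofBijective _ (hv p)).symm_apply_apply z, ← hq]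
    exact congrArg _ ((AddEquiv.ofBijective _ (ha (p + 1))).symm_apply_apply q)
  refine ⟨δ, fun x y hxy => sub_eq_zero.1 ?_, fun p => ⟨?_, ?_, ?_⟩⟩
  · rw [Prod.mk.injEq] at hxy
    obtain ⟨h₁, h₂⟩ : f 0 (x - y) = 0 ∧ R 0 (x - y) = 0 :=
      ⟨by rw [map_sub, hxy.1, sub_self], by rw [map_sub, hxy.2, sub_self]⟩
    generalize x - y = w at h₁ h₂ ⊢
    obtain ⟨q, rfl⟩ := (e₁ 0 w).1 ((hu 0).1 ((hR 0 w).symm.trans (h₂.trans (map_zero _).symm)))
    have : a 0 q = 0 := x₀ (by rw [← c₁, h₁, map_zero])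
    rw [(ha 0).1 (this.trans (map_zero _).symm), map_zero]
  · rintro ⟨y', z⟩
    constructor
    · intro h
      obtain ⟨y, rfl⟩ := (hu p).2 z
      have h' : R' p y' = P p (u p y) := sub_eq_zero.1 h
      rw [hP, hR'] at h'
      have h1 : r' p y' = g p y := (hv p).1 h'
      have h2 : d p y = 0 := (ha (p + 1)).1 (by rw [c₃, ← h1, (e₂' p).apply_apply_eq_zero, map_zero])
      obtain ⟨x, rfl⟩ := (e₂ p y).1 h2
      obtain ⟨q', hq'⟩ := (e₁' p (f p x - y')).1 (by rw [map_sub, ← c₂, h1, sub_self])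
      obtain ⟨q, rfl⟩ := (ha p).2 q'
      refine ⟨x - ι p q, Prod.ext ?_ ?_⟩
      · show f p _ = y'
        rw [map_sub, c₁, hq', sub_sub_cancel]
      · show R p _ = _
        rw [hR, map_sub, (e₁ p).apply_apply_eq_zero, sub_zero]
    · rintro ⟨x, hx⟩
      have h₁ : f p x = y' := congrArg Prod.fst hx
      have h₂ : R p x = z := congrArg Prod.snd hx
      show R' p y' - P p z = 0
      rw [← h₁, ← h₂, hR, hP, hR', c₂, sub_self]
  · intro e
    constructor
    · intro he
      obtain ⟨z, rfl⟩ := (hv p).2 e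
      obtain ⟨q, hq⟩ := (ha (p + 1)).2 (d' p z)
      rw [hδ p z q hq] at he
      obtain ⟨y, rfl⟩ := (e₃ p q).1 he
      obtain ⟨w, hw⟩ := (e₂' p (z - g p y)).1 (by rw [map_sub, ← hq, c₃, sub_self])
      refine ⟨(w, - u p y), ?_⟩
      show R' p w - P p (- u p y) = _
      rw [map_neg, sub_neg_eq_add, hR', hP, ← map_add, hw, sub_add_cancel]
    · rintro ⟨⟨y', z⟩, rfl⟩
      obtain ⟨y, rfl⟩ := (hu p).2 z
      show δ p (R' p y' - P p (u p y)) = 0
      rw [hR', hP, ← map_sub, hδ p _ (- d p y) (by rw [map_neg, c₃, map_sub, (e₂' p).apply_apply_eq_zero, zero_sub]),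
        map_neg, (e₃ p).apply_apply_eq_zero, neg_zero]
  · intro x
    constructor
    · intro hx
      have h₁ : f (p + 1) x = 0 := congrArg Prod.fst hx
      have h₂ : R (p + 1) x = 0 := congrArg Prod.snd hx
      obtain ⟨q, rfl⟩ := (e₁ (p + 1) x).1 ((hu (p + 1)).1 ((hR (p + 1) x).symm.trans (h₂.trans (map_zero _).symm)))
      obtain ⟨z, hz⟩ := (e₃' p (a (p + 1) q)).1 (by rw [← c₁, h₁])
      exact ⟨v p z, hδ p z q hz.symm⟩
    · rintro ⟨e, rfl⟩
      obtain ⟨z, rfl⟩ := (hv p).2 e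
      obtain ⟨q, hq⟩ := (ha (p + 1)).2 (d' p z)
      rw [hδ p z q hq]
      refine Prod.ext ?_ ?_
      · show f (p + 1) _ = 0
        rw [c₁, hq, (e₃' p).apply_apply_eq_zero]
      · show R (p + 1) _ = 0
        rw [hR, (e₁ (p + 1)).apply_apply_eq_zero, map_zero]

end Ladder

section ExtSeq

variable {C : Type*} [Category C] [Abelian C] [HasExt C] (A : C) {S : ShortComplex C} (hS : S.ShortExact)

/-- Postcomposition with a morphism. -/
noncomputable def postM {M N : C} (φ : M ⟶ N) (p : ℕ) : Ext A M p →+ Ext A N p :=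
  (Ext.mk₀ φ).postcomp A (add_zero p)

theorem postM_apply {M N : C} (φ : M ⟶ N) (p : ℕ) (x : Ext A M p) :
    postM A φ p x = x.comp (Ext.mk₀ φ) (add_zero p) := rfl

/-- The connecting map. -/
noncomputable def connM (p : ℕ) : Ext A S.X₃ p →+ Ext A S.X₁ (p + 1) := hS.extClass.postcomp A rfl

include hS in
theorem exact_postM (p : ℕ) : Function.Exact (postM A S.f p) (postM A S.g p) := fun x => by
  constructor
  · exact fun h => Ext.covariant_sequence_exact₂ _ hS x h
  · rintro ⟨y, rfl⟩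
    rw [postM_apply, postM_apply, Ext.comp_assoc_of_second_deg_zero, Ext.mk₀_comp_mk₀, S.zero, Ext.mk₀_zero, Ext.comp_zero]

theorem exact_postM_connM (p : ℕ) : Function.Exact (postM A S.g p) (connM A hS p) := fun x => by
  constructor
  · exact fun h => Ext.covariant_sequence_exact₃ _ hS x rfl h
  · rintro ⟨y, rfl⟩
    show ((y.comp (Ext.mk₀ S.g) (add_zero p)).comp hS.extClass rfl) = 0
    rw [Ext.comp_assoc_of_second_deg_zero, hS.comp_extClass, Ext.comp_zero]

theorem exact_connM_postM (p : ℕ) : Function.Exact (connM A hS p) (postM A S.f (p + 1)) := fun x => by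
  constructor
  · exact fun h => Ext.covariant_sequence_exact₁ _ hS x h rfl
  · rintro ⟨y, rfl⟩
    show ((y.comp hS.extClass rfl).comp (Ext.mk₀ S.f) (add_zero (p + 1))) = 0
    rw [Ext.comp_assoc_of_third_deg_zero, hS.extClass_comp, Ext.comp_zero]

include hS in
theorem injective_postM_zero : Function.Injective (postM A S.f 0) := by
  haveI := hS.mono_f
  intro x y h
  obtain ⟨x, rfl⟩ := (Ext.mk₀_bijective A S.X₁).2 x
  obtain ⟨y, rfl⟩ := (Ext.mk₀_bijective A S.X₁).2 y
  rw [postM_apply, postM_apply, Ext.mk₀_comp_mk₀, Ext.mk₀_comp_mk₀] at h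
  rw [(cancel_mono S.f).1 ((Ext.mk₀_bijective _ _).1 h)]

end ExtSeq

theorem HpullVia_eq_map {A B C : Scheme.{u}} (f : A ⟶ B) (t : B ⟶ C) (h : A ⟶ C) (e : f ≫ t = h)
    [PreservesFiniteLimits (EtCoh.pull f)] (F : EtCoh.Ab C) (q : ℕ) (β : EtCoh.H B ((EtCoh.pull t).obj F) q) :
    EtCore.HpullVia f t h e F q β =
      ((EtCoh.HF A q).map (viaHom f t h e F)).hom (EtCore.Hpull f ((EtCoh.pull t).obj F) q β) := rfl

section Parts

variable (b : X' ⟶ X) (i : Z₀ ⟶ X) (π : E ⟶ Z₀) (k : E ⟶ X') (w : π ≫ i = k ≫ b) (F : EtCoh.Ab X)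
  [PreservesFiniteLimits (EtCoh.pull b)] [PreservesFiniteLimits (EtCoh.pull i)]
  [PreservesFiniteLimits (EtCoh.pull k)] [PreservesFiniteLimits (EtCoh.pull π)]

/-- The comparison of the cohomology of the pulled back closed part with the cohomology over the exceptional part. -/
noncomputable def psiMap (p : ℕ) :
    EtCoh.H X' ((EtCoh.pull b).obj ((EtCoh.push i).obj ((EtCoh.pull i).obj F))) p →+
      EtCoh.H E ((EtCoh.pull (k ≫ b)).obj F) p :=
  (((EtCoh.HF E p).map (viaHom π i (k ≫ b) w F)).hom.comp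
    (EtLim.HofPush k ((EtCoh.pull π).obj ((EtCoh.pull i).obj F)) p)).comp
      ((EtCoh.HF X' p).map (EtCoh.baseChange0 i b k π w ((EtCoh.pull i).obj F))).hom

omit [PreservesFiniteLimits (EtCoh.pull b)] [PreservesFiniteLimits (EtCoh.pull i)] [PreservesFiniteLimits (EtCoh.pull π)] in
theorem psiMap_apply (p : ℕ) (z : EtCoh.H X' ((EtCoh.pull b).obj ((EtCoh.push i).obj ((EtCoh.pull i).obj F))) p) :
    psiMap b i π k w F p z = ((EtCoh.HF E p).map (viaHom π i (k ≫ b) w F)).hom
      (EtLim.HofPush k ((EtCoh.pull π).obj ((EtCoh.pull i).obj F)) p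
        (((EtCoh.HF X' p).map (EtCoh.baseChange0 i b k π w ((EtCoh.pull i).obj F))).hom z)) := rfl

theorem HpullVia_HofPush_eq_psiMap (p : ℕ) (y : EtCoh.H X ((EtCoh.push i).obj ((EtCoh.pull i).obj F)) p) :
    EtCore.HpullVia π i (k ≫ b) w F p (EtLim.HofPush i _ p y) = psiMap b i π k w F p (EtCore.Hpull b _ p y) := by
  rw [HpullVia_eq_map, psiMap_apply]
  exact congrArg ((EtCoh.HF E p).map (viaHom π i (k ≫ b) w F)).hom (S14389.result i b k π w ((EtCoh.pull i).obj F) p y)

theorem psiMap_unit (p : ℕ) (u : EtCoh.H X' ((EtCoh.pull b).obj F) p) :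
    psiMap b i π k w F p (Ext.comp u (Ext.mk₀ ((EtCoh.pull b).map ((EtCoh.pullPushAdj i).unit.app F))) (add_zero p)) =
      EtCore.HpullVia k b (k ≫ b) rfl F p u := by
  rw [HpullVia_eq_then, viaHom_square b i π k w F]
  refine Eq.trans ?_ (HpullThen_map_target k _ (viaHom π i (k ≫ b) w F) p u).symm
  exact congrArg ((EtCoh.HF E p).map (viaHom π i (k ≫ b) w F)).hom (HofPush_map_map k _
    ((EtCoh.pull b).map ((EtCoh.pullPushAdj i).unit.app F))
    (EtCoh.baseChange0 i b k π w ((EtCoh.pull i).obj F)) p u)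

theorem bijective_psiMap [IsClosedImmersion k] [IsIso (EtCoh.baseChange0 i b k π w ((EtCoh.pull i).obj F))] (p : ℕ) :
    Function.Bijective (psiMap b i π k w F p) :=
  ((ConcreteCategory.bijective_of_isIso ((EtCoh.HF E p).map (viaHom π i (k ≫ b) w F))).comp
    (BigSiteLib.hofPush_bijective k _ (fun q hq => S0071.result k _ q hq) p)).comp
      (ConcreteCategory.bijective_of_isIso ((EtCoh.HF X' p).map (EtCoh.baseChange0 i b k π w ((EtCoh.pull i).obj F))))

omit [PreservesFiniteLimits (EtCoh.pull b)] [PreservesFiniteLimits (EtCoh.pull i)]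
  [PreservesFiniteLimits (EtCoh.pull k)] [PreservesFiniteLimits (EtCoh.pull π)] in
theorem exists_unit_seq [IsClosedImmersion i] :
    ∃ (K : EtCoh.Ab X) (ι : K ⟶ F) (h : ι ≫ (EtCoh.pullPushAdj i).unit.app F = 0),
      (ShortComplex.mk ι _ h).ShortExact ∧ Mono ι ∧
      ∀ (Ω : Type u) [Field Ω] [IsSepClosed Ω] (ξ : Spec (CommRingCat.of Ω) ⟶ X),
        ξ.base default ∈ Set.range i.base → IsZero ((EtCoh.stalk ξ).obj K) := by
  let η : F ⟶ (EtCoh.push i).obj ((EtCoh.pull i).obj F) := (EtCoh.pullPushAdj i).unit.app F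
  haveI : Epi η := (EtFound.epi_iff_stalks η).2 fun Ω _ _ ξ => by
    by_cases hξ : ξ.base default ∈ Set.range i.base
    · haveI := EtFound.isIso_stalk_unit_closed i F ξ hξ
      exact (ConcreteCategory.bijective_of_isIso ((EtCoh.stalk ξ).map η)).2
    · haveI := AddCommGrpCat.subsingleton_of_isZero (EtFound.isZero_stalk_push_closed i ((EtCoh.pull i).obj F) ξ hξ)
      exact fun x => ⟨0, Subsingleton.elim _ _⟩
  let S := ShortComplex.mk (kernel.ι η) η (kernel.condition η)
  have hS : S.ShortExact := { exact := ShortComplex.exact_of_f_is_kernel _ (kernelIsKernel η) }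
  refine ⟨kernel η, kernel.ι η, kernel.condition η, hS, inferInstance, fun Ω _ _ ξ hξ => ?_⟩
  haveI := EtFound.isIso_stalk_unit_closed i F ξ hξ
  have h := hS.map_of_exact (EtCoh.stalk ξ)
  haveI := h.mono_f
  exact IsZero.of_mono_eq_zero ((EtCoh.stalk ξ).map (kernel.ι η))
    ((cancel_mono ((EtCoh.stalk ξ).map η)).1 ((S.map (EtCoh.stalk ξ)).zero.trans zero_comp.symm))

end Parts

set_option maxHeartbeats 4000000 in
/-- The long exact sequence of an abstract blow-up square, for torsion sheaves. -/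
theorem exists_longExact (b : X' ⟶ X) (i : Z₀ ⟶ X) (π : E ⟶ Z₀) (k : E ⟶ X') (sq : IsPullback π k i b)
    [IsClosedImmersion i] [IsProper b] (U : X.Opens) (hU : (U : Set X) = (Set.range i.base)ᶜ) [IsIso (b ∣_ U)]
    [PreservesFiniteLimits (EtCoh.pull b)] [PreservesFiniteLimits (EtCoh.pull i)]
    [PreservesFiniteLimits (EtCoh.pull k)] [PreservesFiniteLimits (EtCoh.pull π)]
    (F : EtCoh.Ab X) (hF : EtCoh.IsTorsion F) :
    ∃ δ : ∀ p : ℕ, EtCoh.H E ((EtCoh.pull (k ≫ b)).obj F) p →+ EtCoh.H X F (p + 1),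
      Function.Injective (fun e : EtCoh.H X F 0 => (EtCore.Hpull b F 0 e, EtCore.Hpull i F 0 e)) ∧
      ∀ p : ℕ,
        Function.Exact (fun e : EtCoh.H X F p => (EtCore.Hpull b F p e, EtCore.Hpull i F p e))
          (fun uv : EtCoh.H X' ((EtCoh.pull b).obj F) p × EtCoh.H Z₀ ((EtCoh.pull i).obj F) p =>
            EtCore.HpullVia k b (k ≫ b) rfl F p uv.1 - EtCore.HpullVia π i (k ≫ b) sq.w F p uv.2) ∧
        Function.Exact
          (fun uv : EtCoh.H X' ((EtCoh.pull b).obj F) p × EtCoh.H Z₀ ((EtCoh.pull i).obj F) p =>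
            EtCore.HpullVia k b (k ≫ b) rfl F p uv.1 - EtCore.HpullVia π i (k ≫ b) sq.w F p uv.2) (δ p) ∧
        Function.Exact (δ p)
          (fun e : EtCoh.H X F (p + 1) => (EtCore.Hpull b F (p + 1) e, EtCore.Hpull i F (p + 1) e)) := by
  haveI : IsClosedImmersion k := MorphismProperty.of_isPullback sq ‹IsClosedImmersion i›
  obtain ⟨K, ι, h, hS, hι, hKZ⟩ := exists_unit_seq i F
  have hS' := hS.map_of_exact (EtCoh.pull b)
  haveI := hι
  haveI : IsIso (EtCoh.baseChange0 i b k π sq.w ((EtCoh.pull i).obj F)) := S0621.result i b k π sq _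
  refine exists_ladder (K := fun p => EtCoh.H X K p) (F := fun p => EtCoh.H X F p)
    (G := fun p => EtCoh.H X ((EtCoh.push i).obj ((EtCoh.pull i).obj F)) p)
    (Z := fun p => EtCoh.H Z₀ ((EtCoh.pull i).obj F) p)
    (K' := fun p => EtCoh.H X' ((EtCoh.pull b).obj K) p) (F' := fun p => EtCoh.H X' ((EtCoh.pull b).obj F) p)
    (G' := fun p => EtCoh.H X' ((EtCoh.pull b).obj ((EtCoh.push i).obj ((EtCoh.pull i).obj F))) p)
    (E := fun p => EtCoh.H E ((EtCoh.pull (k ≫ b)).obj F) p)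
    (fun p => postM (EtCoh.const X ℤ) ι p) (fun p => postM _ ((EtCoh.pullPushAdj i).unit.app F) p) (fun p => connM _ hS p)
    (fun p => postM (EtCoh.const X' ℤ) ((EtCoh.pull b).map ι) p)
    (fun p => postM _ ((EtCoh.pull b).map ((EtCoh.pullPushAdj i).unit.app F)) p)
    (fun p => connM _ hS' p)
    (fun p => EtCore.Hpull b K p) ?ha (fun p => EtCore.Hpull b F p) (fun p => EtCore.Hpull b _ p)
    ?c1 ?c2 ?c3 ?x0 ?e1 ?e2 ?e3 ?e1' ?e2' ?e3'
    (fun p => EtLim.HofPush i ((EtCoh.pull i).obj F) p) ?hi (fun p => psiMap b i π k sq.w F p) ?hv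
    (fun p => EtCore.Hpull i F p) ?hr
    (fun p => EtCore.HpullVia k b (k ≫ b) rfl F p) ?hR'
    (fun p => EtCore.HpullVia π i (k ≫ b) sq.w F p) ?hP
  case hP => exact fun p x => HpullVia_HofPush_eq_psiMap b i π k sq.w F p x
  case hR' => exact fun p x => (psiMap_unit b i π k sq.w F p x).symm
  case hr => exact fun p x => (GalTorLib.hofPush_unit i F p x).symm
  case hv => exact fun p => bijective_psiMap b i π k sq.w F p
  case c3 => exact fun p x => EtLeray.Hpull_extClass b hS p x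
  case e1 => exact fun p => exact_postM _ hS p
  case e1' => exact fun p => exact_postM _ hS' p
  case c1 => exact fun p x => EtLeray.Hpull_map b ι p x
  case c2 => exact fun p x => EtLeray.Hpull_map b _ p x
  case ha => exact fun p => bijective_Hpull_of_zero_on_centre b K (CurveCd.isTorsion_of_mono ι hF) hKZ U hU p
  case hi => exact fun p => BigSiteLib.hofPush_bijective i _ (fun q hq => S0071.result i _ q hq) p
  case x0 =>
    haveI := hS'.mono_f
    intro x y h
    obtain ⟨x, rfl⟩ := (Ext.mk₀_bijective _ _).2 x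
    obtain ⟨y, rfl⟩ := (Ext.mk₀_bijective _ _).2 y
    simp only [postM_apply, Ext.mk₀_comp_mk₀] at h
    have h' : x ≫ (EtCoh.pull b).map ι = y ≫ (EtCoh.pull b).map ι := (Ext.mk₀_bijective _ _).1 h
    haveI : Mono ((EtCoh.pull b).map ι) := inferInstance
    rw [(cancel_mono ((EtCoh.pull b).map ι)).1 h']
  case e2 => exact fun p => exact_postM_connM _ hS p
  case e3 => exact fun p => exact_connM_postM _ hS p
  case e2' => exact fun p => exact_postM_connM _ hS' p
  case e3' => exact fun p => exact_connM_postM _ hS' p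

end Groth.Agent.EtPBCq
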