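import Groth.Agent.EtPBCq.Components
import Groth.Agent.S0655
import Groth.Agent.S3054
import Groth.Agent.EtH1Lib.Proper

/-!
# Restriction of direct images from products of fields to the closed part
-/

set_option autoImplicit false
set_option linter.style.haveILetI false
set_option backward.isDefEq.respectTransparency false
set_option backward.isDefEq.respectTransparency.types false
set_option maxHeartbeats 2000000

universe u

open CategoryTheory CategoryTheory.Limits AlgebraicGeometry Opposite TopologicalSpace

namespace Groth.Agent.EtPBCq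

variable {ι : Type u} {K : ι → Type u} [∀ i, Field (K i)] [∀ i, IsAlgClosed (K i)]
  {X : Scheme.{u}} (e : Spec (CommRingCat.of (∀ i, K i)) ⟶ X)
  {A : Type u} [CommRing A] (I : Ideal A) [HenselianRing A I] (f : X ⟶ Spec (CommRingCat.of A)) [IsProper f]
  (M : Type) [AddCommGroup M]

theorem nonempty_push_const_iso [QuasiCompact e] [QuasiSeparated e] :
    Nonempty ((EtCoh.push e).obj (EtCoh.const _ M) ≅
      (EtCoh.push e.fromNormalization).obj (EtCoh.const e.normalization M)) := by
  let η := e.toNormalization
  haveI := EtTorLib.isIso_unit_of_connectedNear η M (connectedNear_toNormalization e)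
  let u : EtCoh.const e.normalization M ≅ (EtCoh.push η).obj (EtCoh.const _ M) :=
    asIso ((EtCoh.pullPushAdj η).unit.app (EtCoh.const e.normalization M)) ≪≫
      (EtCoh.push η).mapIso (EtCore.pullConst η M)
  exact ⟨((EtCoh.push e.fromNormalization).mapIso u ≪≫ (EtCoh.pushComp e.fromNormalization η).app _ ≪≫
    (EtCoh.pushCongr e.toNormalization_fromNormalization).app _).symm⟩

theorem subsingleton_H_closedPart_push [Finite M] (q : ℕ) :
    Subsingleton (EtCoh.H (pullback f (Spec.map (CommRingCat.ofHom (Ideal.Quotient.mk I))))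
      ((EtCoh.pull (EtH1Lib.closedIncl I f)).obj ((EtCoh.push e).obj (EtCoh.const _ M))) (q + 1)) := by
  haveI : IsSeparated f := inferInstance
  haveI : IsAffineHom (e ≫ f) := isAffineHom_of_isAffine _
  haveI : IsAffineHom e := IsAffineHom.of_comp e f
  haveI : IsClosedImmersion (Spec.map (CommRingCat.ofHom (Ideal.Quotient.mk I))) :=
    IsClosedImmersion.spec_of_surjective _ Ideal.Quotient.mk_surjective
  let i := EtH1Lib.closedIncl I f
  haveI : IsClosedImmersion i := MorphismProperty.pullback_fst _ _ inferInstance
  let ν := e.fromNormalization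
  let j := pullback.fst ν i
  let ν₀ := pullback.snd ν i
  haveI : IsIntegralHom ν₀ := MorphismProperty.pullback_snd _ _ inferInstance
  obtain ⟨u⟩ := nonempty_push_const_iso e M
  let T : Closeds e.normalization := ⟨EtH0Lib.Zof (ν ≫ f) I, EtH0Lib.isClosed_Zof _ I⟩
  obtain ⟨w⟩ := EtAICLib.nonempty_H_quot_closed M T j (by
    rw [show Set.range (pullback.fst ν i).base = _ from Scheme.Pullback.range_fst _ _,
      show Set.range i.base = _ from EtH0Lib.range_fst_mk' I f]
    rfl) (q + 1)
  haveI := subsingleton_H_closedPart e M I f T rfl q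
  haveI := w.symm.toEquiv.subsingleton
  haveI := S0655.result ν i ν₀ j (IsPullback.of_hasPullback ν i) (EtCoh.const e.normalization M)
  haveI := EtFound.pull_preservesFiniteLimits ν₀
  haveI hG : Subsingleton (EtCoh.H (pullback ν i) ((EtCoh.pull j).obj (EtCoh.const e.normalization M)) (q + 1)) :=
    @Equiv.subsingleton _ _
      ((Abelian.extFunctorObj _ (q + 1)).mapIso (EtCore.pullConst j M)).addCommGroupIsoToAddEquiv.toEquiv
      (w.symm.toEquiv.subsingleton)
  have hpush : Subsingleton (EtCoh.H _ ((EtCoh.push ν₀).obj ((EtCoh.pull j).obj (EtCoh.const e.normalization M))) (q + 1)) :=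
    @Equiv.subsingleton _ _ (AddEquiv.ofBijective (EtLim.HofPush ν₀ ((EtCoh.pull j).obj (EtCoh.const e.normalization M)) (q + 1))
      (BigSiteLib.hofPush_bijective ν₀ _ (fun p hp => S3054.result ν₀ _ p hp) (q + 1))).toEquiv hG
  exact @Equiv.subsingleton _ _ (((EtCoh.HF _ (q + 1)).mapIso ((EtCoh.pull i).mapIso u ≪≫
    asIso (EtCoh.baseChange0 ν i ν₀ j pullback.condition (EtCoh.const e.normalization M)))).addCommGroupIsoToAddEquiv.toEquiv) hpush

end Groth.Agent.EtPBCq
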