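import Groth.Agent.EtPBCq.TorsPart
import Groth.Agent.TriCat.AcyclicObj
import Groth.Agent.TriCat.Resolve
import Groth.Agent.TriCat.Adapted

/-!
# Derived direct images of bounded below complexes of acyclic sheaves
-/

set_option autoImplicit false
set_option linter.style.haveILetI false
set_option backward.isDefEq.respectTransparency false
set_option backward.isDefEq.respectTransparency.types false
set_option maxHeartbeats 1000000

universe u

open CategoryTheory CategoryTheory.Limits AlgebraicGeometry ZeroObject

attribute [local instance] HasDerivedCategory.standard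

namespace Groth.Agent.EtPBCq

variable {X Y : Scheme.{u}} (f : X ⟶ Y) [DCoh.HasRpushEt X f]

/-- A bounded below complex of acyclic sheaves computes the derived direct image. -/
theorem nonempty_RpushEt_Q_iso (T : CochainComplex (EtCoh.Ab X) ℤ) (a : ℤ) [T.IsStrictlyGE a]
    (hT : ∀ (n : ℤ) (q : ℕ), IsZero ((EtCoh.Rpush f (q + 1)).obj (T.X n))) :
    Nonempty ((DCoh.RpushEt X f).obj (DerivedCategory.Q.obj T) ≅
      DerivedCategory.Q.obj (((EtCoh.push f).mapHomologicalComplex (ComplexShape.up ℤ)).obj T)) := by
  haveI : PreservesFiniteLimits (EtCoh.push f) :=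
    haveI : PreservesLimitsOfSize.{0, 0} (EtCoh.push f) := (EtCoh.pullPushAdj f).rightAdjoint_preservesLimits
    PreservesLimitsOfSize.preservesFiniteLimits _
  obtain ⟨I, s, hI, hinj, hm, hs⟩ := TriCat.exists_quasiIso_resolution (A := EtCoh.Ab X) Injective
    ⟨_, isZero_zero (EtCoh.Ab X), IsZero.injective (isZero_zero _)⟩
    (fun M => ⟨Injective.under M, Injective.ι M, inferInstance, inferInstance⟩) T a
  haveI := hI
  haveI := hinj
  haveI := hs
  haveI : I.IsKInjective := CochainComplex.isKInjective_of_injective _ a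
  haveI := TriCat.quasiIso_map_of_adapted
    (TriCat.isAdapted_isRightAcyclic (F := EtCoh.push f)) s hm a
    (fun n i hi => by obtain ⟨q, rfl⟩ := Nat.exists_eq_succ_of_ne_zero hi.ne'; exact hT n q)
    (fun n => TriCat.isRightAcyclic_of_injective _)
  haveI := S4329.Aux.isIso_unit f I
  exact ⟨(DCoh.RpushEt X f).mapIso (asIso (DerivedCategory.Q.map s) ≪≫
      ((DerivedCategory.quotientCompQhIso _).app I).symm) ≪≫
    (asIso (((DCoh.pushEtKh X f).totalRightDerivedUnit DerivedCategory.Qh
      (HomotopyCategory.quasiIso (EtCoh.Ab X) (ComplexShape.up ℤ))).app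
      ((HomotopyCategory.quotient (EtCoh.Ab X) (ComplexShape.up ℤ)).obj I))).symm ≪≫
    (DerivedCategory.quotientCompQhIso _).app (((EtCoh.push f).mapHomologicalComplex (ComplexShape.up ℤ)).obj I) ≪≫
    (asIso (DerivedCategory.Q.map (((EtCoh.push f).mapHomologicalComplex (ComplexShape.up ℤ)).map s))).symm⟩

end Groth.Agent.EtPBCq
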