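import Groth.Agent.FlatMisc.DimConstr
import Groth.Agent.H9Misc.WayOut
import Groth.Agent.EtBCQ.DerivedLocal

/-!
# Amplitude of images under triangulated functors; bound on fibre dimensions
-/

set_option autoImplicit false
set_option linter.style.haveILetI false
set_option backward.isDefEq.respectTransparency false
set_option backward.isDefEq.respectTransparency.types false
set_option maxHeartbeats 1000000

universe w w' v v' u u'

open CategoryTheory CategoryTheory.Limits CategoryTheory.Pretriangulated AlgebraicGeometry DerivedCategory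

namespace Groth.Agent.EtPBCq

section

variable {A : Type u} [Category.{v} A] [Abelian A] [HasDerivedCategory.{w} A]
    {B : Type u'} [Category.{v'} B] [Abelian B] [HasDerivedCategory.{w'} B]
    (F : DerivedCategory A ⥤ DerivedCategory B) [F.CommShift ℤ] [F.IsTriangulated]
    (P : ObjectProperty A) [P.IsClosedUnderIsomorphisms] (hP : ∀ Z : A, IsZero Z → P Z) (N : ℕ)
    (hs : ∀ Y : A, P Y → ∀ i : ℤ, (i < 0 ∨ (N : ℤ) < i) → IsZero ((homologyFunctor B i).obj (F.obj ((singleFunctor A 0).obj Y))))

include hP hs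

/-- A triangulated functor of cohomological amplitude `[0, N]` on objects in degree zero maps
amplitude `[a, b]` to amplitude `[a, b + N]`. -/
theorem isZero_homology_obj_of_amplitude :
    ∀ (k : ℕ) (K : DerivedCategory A) (a b : ℤ), b ≤ a + k → K.IsGE a → K.IsLE b →
      (∀ i : ℤ, P ((homologyFunctor A i).obj K)) → ∀ i : ℤ, (i < a ∨ b + (N : ℤ) < i) →
        IsZero ((homologyFunctor B i).obj (F.obj K)) := by
  intro k
  induction k with
  | zero =>
    intro K a b hk hGE hLE hK i hi
    haveI := hGE
    rcases lt_or_ge b a with hba | hba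
    · haveI := hLE
      exact (homologyFunctor B i).map_isZero (F.map_isZero (TStructure.t.isZero K b a hba))
    · obtain rfl : a = b := by omega
      haveI := hLE
      obtain ⟨Y, ⟨e⟩⟩ := exists_iso_singleFunctor_obj_of_isGE_of_isLE K a
      have hY : P Y := P.prop_of_iso ((homologyFunctor A a).mapIso e ≪≫
        (singleFunctorCompHomologyFunctorIso A a).app Y) (hK a)
      let e' : F.obj K ≅ (F.obj ((singleFunctor A 0).obj Y))⟦-a⟧ :=
        F.mapIso (e ≪≫ (((singleFunctors A).shiftIso (-a) a 0 (by omega)).app Y).symm) ≪≫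
          (F.commShiftIso (-a)).app _
      refine ((hs Y hY (i - a) (by omega)).of_iso
        (((homologyFunctor B 0).shiftIso (-a) i (i - a) (by omega)).app _)).of_iso ?_
      exact (homologyFunctor B i).mapIso e'
  | succ k ih =>
    intro K a b hk hGE hLE hK i hi
    haveI := hGE; haveI := hLE
    rcases le_or_gt b (a + k) with h | h
    · exact ih K a b h hGE hLE hK i hi
    let T := (TStructure.t.triangleLTGE (a + 1)).obj K
    have hT : T ∈ distinguishedTriangles := TStructure.t.triangleLTGE_distinguished (a + 1) K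
    have h1 : IsZero ((homologyFunctor B i).obj (F.obj T.obj₁)) :=
      ih _ a a (by omega) (KFlatLib.isGE_truncLT K a (a + 1))
        (inferInstanceAs (TStructure.t.IsLE ((TStructure.t.truncLT (a + 1)).obj K) a))
        (H9Misc.WayOut.P_truncLT P (hP := hP) hK (a + 1)) i (by omega)
    have h3 : IsZero ((homologyFunctor B i).obj (F.obj T.obj₃)) := by
      refine ih _ (a + 1) b (by omega)
        (inferInstanceAs (TStructure.t.IsGE ((TStructure.t.truncGE (a + 1)).obj K) (a + 1))) ?_
        (H9Misc.WayOut.P_truncGE P (hP := hP) hK (a + 1)) i (by omega)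
      rw [isLE_iff]
      intro j hj
      rcases lt_or_ge j (a + 1) with h | h
      · haveI : DerivedCategory.IsGE ((TStructure.t.truncGE (a + 1)).obj K) (a + 1) :=
          inferInstanceAs (TStructure.t.IsGE ((TStructure.t.truncGE (a + 1)).obj K) (a + 1))
        exact isZero_of_isGE _ (a + 1) j h
      · haveI := H9Misc.WayOut.isIso_H_truncGE K (a + 1) j h
        exact (isZero_of_isLE K b j hj).of_iso
          (asIso ((homologyFunctor A j).map ((TStructure.t.truncGEπ (a + 1)).app K))).symm
    exact (HomologySequence.exact₂ (F.mapTriangle.obj T) (F.map_distinguished _ hT) i).isZero_of_both_zeros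
      (h1.eq_of_src _ _) (h3.eq_of_tgt _ _)

end

variable {X Y : Scheme.{u}} (f : X ⟶ Y) [LocallyOfFiniteType f] [CompactSpace X]

/-- The fibre dimension of a morphism of finite type from a quasi-compact scheme is bounded. -/
theorem exists_forall_fiber_dim_le : ∃ n : ℕ, ∀ y : Y, topologicalKrullDim ↥(f.fiber y) ≤ (n : WithBot ℕ∞) := by
  obtain ⟨n, hn⟩ := isCompact_univ.elim_directed_cover (fun n : ℕ => {x : X | FlatMor.fibreDimAt f x ≤ n})
    (fun n => FibDim.isOpen_fibreDimAt_le f n)
    (fun x _ => by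
      obtain ⟨z, -, -, -, he⟩ := FibDim.exists_fibMax_generization f x
      exact Set.mem_iUnion.mpr ⟨FibDim.rd f z, by rw [Set.mem_setOf_eq, he]; rfl⟩)
    (fun a b => ⟨max a b, fun x (hx : FlatMor.fibreDimAt f x ≤ a) => show _ ≤ _ from hx.trans (by exact_mod_cast le_max_left a b),
      fun x (hx : FlatMor.fibreDimAt f x ≤ b) => show _ ≤ _ from hx.trans (by exact_mod_cast le_max_right a b)⟩)
  refine ⟨n, fun y => ?_⟩
  rw [FibDim.topologicalKrullDim_fiber]
  exact iSup_le fun z => (FibDim.fibreDimAt_ge_rd f (specializes_refl _)).trans (hn trivial)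

section

attribute [local instance] HasDerivedCategory.standard

variable {X Y Z : Scheme.{u}} (j : X ⟶ Y) [IsOpenImmersion j] [PreservesFiniteLimits (EtShriek.extZero j)]
  (p : Y ⟶ Z) [DCoh.HasRpushEt Y p]

/-- `Rp_* ∘ j_!` is isomorphic to a triangulated functor. -/
theorem exists_triangulated_iso :
    ∃ (G : DCoh.DEt X ⥤ DCoh.DEt Z) (_ : G.CommShift ℤ), G.IsTriangulated ∧
      Nonempty (G ≅ DEt.extZeroD j ⋙ DCoh.RpushEt Y p) := by
  haveI := Groth.Agent.TriCat.qh_isLeftAdjoint_of_exists_resolution (S4329.Aux.exists_kInj Y)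
  let adjQ := Adjunction.ofIsLeftAdjoint (DerivedCategory.Qh (C := EtCoh.Ab Y))
  let ρ := (DerivedCategory.Qh (C := EtCoh.Ab Y)).rightAdjoint
  let W := HomotopyCategory.quasiIso (EtCoh.Ab Y) (ComplexShape.up ℤ)
  haveI : (ρ ⋙ DCoh.pushEtKh Y p).IsRightDerivedFunctor
      (Functor.whiskerRight adjQ.unit (DCoh.pushEtKh Y p)) W :=
    TriCat.isRightDerivedFunctor_of_adjunction adjQ W (DCoh.pushEtKh Y p)
  let e : ρ ⋙ DCoh.pushEtKh Y p ≅ DCoh.RpushEt Y p :=
    Functor.rightDerivedUnique _ _ (Functor.whiskerRight adjQ.unit (DCoh.pushEtKh Y p))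
      ((DCoh.pushEtKh Y p).totalRightDerivedUnit DerivedCategory.Qh W) W
  letI := adjQ.rightAdjointCommShift ℤ
  haveI := adjQ.commShift_of_leftAdjoint ℤ
  haveI : ρ.IsTriangulated := adjQ.isTriangulated_rightAdjoint
  haveI : (DEt.extZeroD j).IsTriangulated := inferInstance
  haveI : (DCoh.pushEtKh Y p).IsTriangulated := inferInstance
  haveI : (ρ ⋙ DCoh.pushEtKh Y p).IsTriangulated := inferInstance
  let G₁ := DEt.extZeroD j
  let G₂ := ρ ⋙ DCoh.pushEtKh Y p
  haveI h : (G₁ ⋙ G₂).IsTriangulated := by
    set_option synthInstance.maxHeartbeats 400000 in infer_instance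
  exact ⟨DEt.extZeroD j ⋙ (ρ ⋙ DCoh.pushEtKh Y p), inferInstance, h,
    ⟨Functor.isoWhiskerLeft _ e⟩⟩

end

end Groth.Agent.EtPBCq
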