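import Groth.Agent.EtPBCq.ProperBC
import Groth.Agent.EtLeray.LTors
import Groth.Agent.EtPBC0.BigComm
import Groth.Agent.SiteBase.SESResLib
import Groth.Agent.BigSiteLib.Along

/-!
# Proper direct images of torsion sheaves commute with pullback to the big etale site
-/

set_option autoImplicit false
set_option linter.style.haveILetI false
set_option backward.isDefEq.respectTransparency false
set_option backward.isDefEq.respectTransparency.types false
set_option maxHeartbeats 1000000

universe u v₁ u₁ v₂ u₂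

open CategoryTheory CategoryTheory.Limits AlgebraicGeometry Opposite

namespace Groth.Agent.EtPBCq

section Delta

variable {A : Type u₁} [Category.{v₁} A] [Abelian A] [EnoughInjectives A] {D : Type u₂} [Category.{v₂} D] [Abelian D]
  (Φ : A ⥤ D) [Φ.Additive] {S : ShortComplex A} (hS : S.ShortExact)

include hS in
/-- A dimension shift. -/
theorem nonempty_shift (q : ℕ) (h₀ : IsZero ((Φ.rightDerived q).obj S.X₂))
    (h₁ : IsZero ((Φ.rightDerived (q + 1)).obj S.X₂)) :
    Nonempty ((Φ.rightDerived q).obj S.X₃ ≅ (Φ.rightDerived (q + 1)).obj S.X₁) := by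
  let L := SESResLib.derivedLES Φ
  haveI : Mono (L.δ S hS q (q + 1) rfl) := (L.exact₃ S hS q (q + 1) rfl).mono_g (h₀.eq_of_src _ _)
  haveI : Epi (L.δ S hS q (q + 1) rfl) := (L.exact₁ S hS q (q + 1) rfl).epi_f (h₁.eq_of_tgt _ _)
  haveI : IsIso (L.δ S hS q (q + 1) rfl) := isIso_of_mono_of_epi _
  exact ⟨asIso (L.δ S hS q (q + 1) rfl)⟩

include hS in
/-- The first derived functor as a cokernel. -/
theorem nonempty_coker_iso (h₁ : IsZero ((Φ.rightDerived 1).obj S.X₂)) :
    Nonempty (cokernel ((Φ.rightDerived 0).map S.g) ≅ (Φ.rightDerived 1).obj S.X₁) := by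
  let L := SESResLib.derivedLES Φ
  haveI : Epi (L.δ S hS 0 1 rfl) := (L.exact₁ S hS 0 1 rfl).epi_f (h₁.eq_of_tgt _ _)
  exact ⟨(cokernelIsCokernel _).coconePointUniqueUpToIso (L.exact₃ S hS 0 1 rfl).gIsCokernel⟩

end Delta

variable {X Y : Scheme.{u}} (f : X ⟶ Y)

/-- A torsion hull without higher direct images along quasi-compact quasi-separated morphisms. -/
theorem exists_hull_Rpush [QuasiCompact f] [QuasiSeparated f] (F : EtCoh.Ab X) (hF : EtCoh.IsTorsion F) :
    ∃ (G : EtCoh.Ab X) (j : F ⟶ G), Mono j ∧ EtCoh.IsTorsion G ∧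
      ∀ a : ℕ, IsZero ((EtCoh.Rpush f (a + 1)).obj G) := by
  obtain ⟨⟨I, _, ι, _⟩⟩ := EnoughInjectives.presentation F
  haveI := EtTorLib.isFiltered_tidx.{u} (EtLeray.one_mem_MSet (L := Set.univ)) EtLeray.mul_mem_MSet
  obtain ⟨hc⟩ := EtTorLib.nonempty_isColimit_torsCocone F (EtLeray.one_mem_MSet (L := Set.univ)) EtLeray.mul_mem_MSet
    (isLTorsion_univ hF)
  let D := EtTorLib.torsDiagram I (EtLeray.MSet Set.univ)
  let α : EtTorLib.torsDiagram F (EtLeray.MSet Set.univ) ⟶ D :=
    { app := fun i => kernel.map _ _ ι ι (by simp [Preadditive.nsmul_comp, Preadditive.comp_nsmul])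
      naturality := fun i k a => by
        refine (cancel_mono (kernel.ι (k.n • 𝟙 I))).1 ?_
        simp [D, EtTorLib.torsDiagram, kernel.map] }
  let j : F ⟶ colimit D := hc.map (colimit.cocone D) α
  have hj : j ≫ colimit.desc D (EtTorLib.torsCocone I (EtLeray.MSet Set.univ)) = ι := hc.hom_ext fun i => by
    rw [IsColimit.ι_map_assoc, colimit.cocone_ι, colimit.ι_desc]
    exact kernel.lift_ι _ _ _
  refine ⟨colimit D, j, mono_of_mono_fac hj, fun U s x => ?_, fun a => ?_⟩
  · obtain ⟨W, g, hW, w, hw⟩ := EtTorLib.exists_affine_nhd U x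
    let Γ := sheafToPresheaf X.smallEtaleTopology AddCommGrpCat.{u + 1} ⋙
      (evaluation X.Etaleᵒᵖ AddCommGrpCat.{u + 1}).obj (op W)
    haveI : PreservesColimitsOfShape (EtTorLib.TIdx.{u} (EtLeray.MSet Set.univ)) Γ :=
      EtFound.preservesColimitsOfShape_sections_qcqs_ab W (haveI := hW; EtFound.isQcqsObj_of_isAffine W) _
    obtain ⟨i, t, ht⟩ := Types.jointly_surjective _ (isColimitOfPreserves (forget AddCommGrpCat.{u + 1})
      (isColimitOfPreserves Γ (colimit.isColimit D))) ((colimit D).obj.map g.op s)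
    let φ := (colimit.ι D i).hom.app (op W)
    change φ.hom t = _ at ht
    refine ⟨W, g, ⟨w, hw⟩, isOfFinAddOrder_iff_nsmul_eq_zero.2 ⟨i.n, i.mem.1, ?_⟩⟩
    exact (congrArg (i.n • ·) ht.symm).trans ((map_nsmul φ.hom i.n t).symm.trans
      ((congrArg φ.hom (EtTorLib.nsmul_app_eq_zero (EtTorLib.torsDiagram_nsmul I i) W t)).trans (map_zero _)))
  · haveI := EtTorLib.preservesColimitsOfShape_Rpush f (a + 1) (EtTorLib.TIdx.{u} (EtLeray.MSet Set.univ))
    refine EtLeray.isZero_colimit_obj (EtCoh.Rpush f (a + 1)) D fun i => ?_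
    haveI := EtTorLib.epi_nsmul I i.mem.1
    let Sq := ShortComplex.mk (kernel.ι (i.n • 𝟙 I)) (i.n • 𝟙 I) (kernel.condition _)
    have hS : Sq.ShortExact := { exact := ShortComplex.exact_of_f_is_kernel _ (kernelIsKernel _) }
    haveI : Injective Sq.X₂ := ‹Injective I›
    haveI : Injective Sq.X₃ := ‹Injective I›
    haveI : (EtCoh.push f).IsRightAdjoint := (EtCoh.pullPushAdj f).isRightAdjoint
    haveI := EtFound.pull_preservesFiniteLimits f
    haveI : (EtCoh.pull f).PreservesMonomorphisms := preservesMonomorphisms_of_preservesLimitsOfShape _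
    haveI : Injective ((EtCoh.push f).obj I) := Injective.injective_of_adjoint (EtCoh.pullPushAdj f) I
    haveI : Epi ((EtCoh.push f).map Sq.g) := by
      show Epi ((EtCoh.push f).map (i.n • 𝟙 I))
      rw [Functor.map_nsmul, CategoryTheory.Functor.map_id]
      exact EtTorLib.epi_nsmul _ i.mem.1
    exact EtBCQ.isZero_rightDerived_kernel (EtCoh.push f) hS a

/-- Big direct images are acyclic where small ones are. -/
theorem isZero_RpushBig [IsProper f] (G : EtCoh.Ab X) (hG : EtCoh.IsTorsion G) (q : ℕ)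
    (h : IsZero ((EtCoh.Rpush f q).obj G)) :
    IsZero ((BigSite.RpushBig Scheme.etalePrecoverage f q).obj ((BigSite.piEtPull Scheme.etalePrecoverage X).obj G)) := by
  refine BigSiteLib.isZero_of_resEtAlong _ fun {T} g => ?_
  have hsq := IsPullback.of_hasPullback f g
  haveI := EtFound.pull_preservesFiniteLimits (pullback.fst f g)
  haveI := EtFound.pull_preservesFiniteLimits g
  haveI := isIso_bcQ_proper f g (pullback.snd f g) (pullback.fst f g) hsq G hG q
  exact ((((EtCoh.pull g).map_isZero h).of_iso (asIso (EtBC.bcQ f g _ _ hsq.w q G)).symm).of_iso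
    ((EtCoh.Rpush (pullback.snd f g) q).mapIso (BigSiteLib.resAlongPiPullIso (pullback.fst f g) G)).symm).of_iso
      ((BigSiteLib.resAlongRpushIso f hsq q).app _)

theorem theta_naturality {F F' : EtCoh.Ab X} (a : F ⟶ F') :
    (BigSite.piEtPull Scheme.etalePrecoverage Y).map ((EtCoh.push f).map a) ≫ BigSiteLib.theta f F' =
      BigSiteLib.theta f F ≫ (BigSite.pushBig Scheme.etalePrecoverage f AddCommGrpCat.{u + 1}).map
        ((BigSite.piEtPull Scheme.etalePrecoverage X).map a) := by
  simp only [BigSiteLib.theta]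
  rw [← Adjunction.homEquiv_naturality_left_symm, ← Adjunction.homEquiv_naturality_right_symm]
  refine congrArg _ ?_
  simp only [BigSiteLib.pushToRes, Category.assoc]
  have h1 := (BigSite.piEtAdj Scheme.etalePrecoverage X).unit.naturality a
  have h2 := (BigSiteLib.pushResIso f).inv.naturality ((BigSite.piEtPull Scheme.etalePrecoverage X).map a)
  simp only [Functor.id_map, Functor.comp_map] at h1 h2
  rw [← Functor.map_comp_assoc, h1, Functor.map_comp, Category.assoc]
  exact whisker_eq _ h2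

/-- Higher direct images of torsion sheaves along proper morphisms commute with pullback to the big etale site. -/
theorem nonempty_piEtPull_Rpush_iso [IsProper f] (q : ℕ) : ∀ (F : EtCoh.Ab X), EtCoh.IsTorsion F →
    Nonempty ((BigSite.piEtPull Scheme.etalePrecoverage Y).obj ((EtCoh.Rpush f q).obj F) ≅
      (BigSite.RpushBig Scheme.etalePrecoverage f q).obj ((BigSite.piEtPull Scheme.etalePrecoverage X).obj F)) := by
  let πX := BigSite.piEtPull Scheme.etalePrecoverage X
  let πY := BigSite.piEtPull Scheme.etalePrecoverage Y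
  let P := BigSite.pushBig Scheme.etalePrecoverage f AddCommGrpCat.{u + 1}
  haveI : (EtCoh.push f).IsRightAdjoint := (EtCoh.pullPushAdj f).isRightAdjoint
  haveI : P.IsRightAdjoint := (BigSite.bigAdj Scheme.etalePrecoverage f AddCommGrpCat.{u + 1}).isRightAdjoint
  haveI := BigSiteLib.piEtPull_exact X Scheme.etalePrecoverage
  haveI := BigSiteLib.piEtPull_exact Y Scheme.etalePrecoverage
  haveI : πX.IsLeftAdjoint := (BigSite.piEtAdj Scheme.etalePrecoverage X).isLeftAdjoint
  haveI : πY.IsLeftAdjoint := (BigSite.piEtAdj Scheme.etalePrecoverage Y).isLeftAdjoint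
  haveI : PreservesFiniteColimits πX := inferInstance
  haveI : πX.Additive := Functor.additive_of_preserves_binary_products _
  haveI : πY.Additive := Functor.additive_of_preserves_binary_products _
  haveI : ∀ G, IsIso (BigSiteLib.theta f G) := fun G => EtPBC0.isIso_theta_proper f G
  let e₀ : ∀ G, πY.obj ((EtCoh.Rpush f 0).obj G) ≅ (BigSite.RpushBig Scheme.etalePrecoverage f 0).obj (πX.obj G) :=
    fun G => πY.mapIso ((EtCoh.push f).rightDerivedZeroIsoSelf.app G) ≪≫ asIso (BigSiteLib.theta f G) ≪≫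
      (P.rightDerivedZeroIsoSelf.app _).symm
  have he₀ : ∀ {G G' : EtCoh.Ab X} (a : G ⟶ G'), πY.map ((EtCoh.Rpush f 0).map a) ≫ (e₀ G').hom =
      (e₀ G).hom ≫ (BigSite.RpushBig Scheme.etalePrecoverage f 0).map (πX.map a) := fun {G G'} a => by
    have h1 := (EtCoh.push f).rightDerivedZeroIsoSelf.hom.naturality a
    have h2 := P.rightDerivedZeroIsoSelf.inv.naturality (πX.map a)
    have h3 := theta_naturality f a
    simp only [e₀, Iso.trans_hom, Iso.symm_hom, Functor.mapIso_hom, asIso_hom, Iso.app_hom, Iso.app_inv, Category.assoc]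
    rw [← πY.map_comp_assoc, h1, πY.map_comp_assoc, reassoc_of% h3]
    exact whisker_eq _ (whisker_eq _ h2)
  induction q with
  | zero => exact fun F _ => ⟨e₀ F⟩
  | succ q ih =>
    intro F hF
    obtain ⟨G, j, hj, hG, hac⟩ := exists_hull_Rpush f F hF
    let S := ShortComplex.mk j (cokernel.π j) (cokernel.condition j)
    have hS : S.ShortExact := { exact := ShortComplex.exact_of_g_is_cokernel _ (cokernelIsCokernel j) }
    have hQ : EtCoh.IsTorsion S.X₃ := by
      have := EtLeray.isLTorsion_of_epi (cokernel.π j) (isLTorsion_univ hG)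
      intro U s x
      obtain ⟨V, g, m, hv, hm, hms⟩ := this U s x
      exact ⟨V, g, hv, isOfFinAddOrder_iff_nsmul_eq_zero.2 ⟨m, hm.1, hms⟩⟩
    have hSb : (S.map πX).ShortExact := hS.map_of_exact πX
    have hb := fun a => isZero_RpushBig f G hG (a + 1) (hac a)
    rcases q with _ | q
    · obtain ⟨a⟩ := nonempty_coker_iso (EtCoh.push f) hS (hac 0)
      obtain ⟨b⟩ := nonempty_coker_iso P hSb (hb 0)
      exact ⟨πY.mapIso a.symm ≪≫ PreservesCokernel.iso πY _ ≪≫
        cokernel.mapIso _ _ (e₀ S.X₂) (e₀ S.X₃) (he₀ S.g) ≪≫ b⟩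
    · obtain ⟨a⟩ := nonempty_shift (EtCoh.push f) hS (q + 1) (hac q) (hac (q + 1))
      obtain ⟨b⟩ := nonempty_shift P hSb (q + 1) (hb q) (hb (q + 1))
      obtain ⟨e⟩ := ih S.X₃ hQ
      exact ⟨πY.mapIso a.symm ≪≫ e ≪≫ b⟩

end Groth.Agent.EtPBCq
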