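import Groth.Agent.EtFound.GermSupp
import Groth.Agent.EtStrictBC.Square
import Groth.Agent.EtContLib.StalkPush
import Groth.Agent.EtLARel.Main
import Mathlib.AlgebraicGeometry.Morphisms.Finite

/-!
# Morphisms of etale sheaves on Jacobson schemes are detected at closed points
-/

set_option autoImplicit false
set_option linter.style.haveILetI false
set_option backward.isDefEq.respectTransparency false
set_option backward.isDefEq.respectTransparency.types false
set_option maxHeartbeats 1000000

universe u

open CategoryTheory CategoryTheory.Limits AlgebraicGeometry Opposite TopologicalSpace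

namespace Groth.Agent.EtPBCq

variable {X : Scheme.{u}} [JacobsonSpace X]

/-- A sheaf whose stalks vanish over all closed points is zero. -/
theorem isZero_of_stalks_closed (K : EtCoh.Ab X)
    (H : ∀ (Ω : Type u) [Field Ω] [IsSepClosed Ω] (ξ : Spec (CommRingCat.of Ω) ⟶ X),
      IsClosed ({ξ.base default} : Set X) → IsZero ((EtCoh.stalk ξ).obj K)) : IsZero K := by
  refine (EtFound.isZero_iff_stalks K).2 fun Ω _ _ ξ => ?_
  haveI : Subsingleton ((EtCoh.stalk ξ).obj K) := by
    refine subsingleton_of_forall_eq 0 fun c => ?_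
    obtain ⟨U, u, s, rfl⟩ := (Scheme.pointSmallEtale ξ).toPresheafFiber_jointly_surjective (P := K.obj) c
    by_contra hne
    have hmem : EtFound.ptOf u ∈ EtFound.germSupp K U s := (EtFound.mem_germSupp_iff s u).2 hne
    haveI : AlgebraicGeometry.Etale U.hom := U.prop
    haveI : JacobsonSpace ↥((Functor.fromPUnit X).obj U.right) := ‹JacobsonSpace X›
    haveI : JacobsonSpace U.left := LocallyOfFiniteType.jacobsonSpace U.hom
    obtain ⟨q, hq, hqc⟩ := nonempty_inter_closedPoints ⟨_, hmem⟩
      (EtFound.isClosed_germSupp K U s).isLocallyClosed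
    obtain ⟨k, _, _, ζ, z, hz⟩ := EtFound.exists_algClosed_point U q
    have hcl : IsClosed ({ζ.base default} : Set X) := by
      rw [← EtFound.base_of_point z, hz]
      exact U.hom.closePoints_subset_preimage_closedPoints hqc
    haveI := AddCommGrpCat.subsingleton_of_isZero (H k ζ hcl)
    exact hq k ζ z hz (@Subsingleton.elim ((EtCoh.stalk ζ).obj K) _ _ _)
  exact AddCommGrpCat.isZero_of_subsingleton _

/-- A morphism of sheaves bijective on the strict localizations at closed points is an isomorphism. -/
theorem isIso_of_gsec_strict_closed {F G : EtCoh.Ab X} (φ : F ⟶ G)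
    (H : ∀ (x : X), IsClosed ({x} : Set X) →
      Function.Bijective ((EtCore.gsec (Spec (CommRingCat.of (Hensel.StrictHenz (X.presheaf.stalk x))))).map
        ((EtCoh.pull (Hens2.specOf X x (Hensel.StrictHenz (X.presheaf.stalk x)))).map φ))) : IsIso φ := by
  have hst : ∀ (Ω : Type u) [Field Ω] [IsSepClosed Ω] (ξ : Spec (CommRingCat.of Ω) ⟶ X),
      IsClosed ({ξ.base default} : Set X) → IsIso ((EtCoh.stalk ξ).map φ) := fun Ω _ _ ξ hξ => by
    obtain ⟨x, τ, hτ⟩ := EtPBC0.exists_fac_strictHenz ξ
    let R := Hensel.StrictHenz (X.presheaf.stalk x)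
    haveI : IsSepClosed (IsLocalRing.ResidueField R) :=
      (Hensel.isSepClosure_residueField_strictHenz (X.presheaf.stalk x)).sep_closed
    have hx : x = ξ.base default := by
      have e := congrArg (fun m => m.base (default : Spec (CommRingCat.of Ω))) hτ
      rw [← e]
      show x = (Hens2.specOf X x R).base ((Spec.map (CommRingCat.ofHom (IsLocalRing.residue R))).base _)
      rw [EtLARel.closedPoint_of_field, EtLARel.specOf_closedPoint]
    exact EtLARel.isIso_stalk_of_strict x R φ
      ((ConcreteCategory.isIso_iff_bijective _).2 (H x (hx ▸ hξ))) Ω τ ξ hτ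
  have hm : IsZero (kernel φ) := isZero_of_stalks_closed _ fun Ω _ _ ξ hξ => by
    haveI := hst Ω ξ hξ
    exact (isZero_kernel_of_mono ((EtCoh.stalk ξ).map φ)).of_iso (PreservesKernel.iso (EtCoh.stalk ξ) φ)
  have he : IsZero (cokernel φ) := isZero_of_stalks_closed _ fun Ω _ _ ξ hξ => by
    haveI := hst Ω ξ hξ
    exact (isZero_cokernel_of_epi ((EtCoh.stalk ξ).map φ)).of_iso (PreservesCokernel.iso (EtCoh.stalk ξ) φ)
  haveI : Mono φ := Preadditive.mono_of_isZero_kernel φ hm
  haveI : Epi φ := Preadditive.epi_of_isZero_cokernel φ he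
  exact isIso_of_mono_of_epi φ

end Groth.Agent.EtPBCq
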