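import Groth.Agent.EtPBCq.Eta
import Groth.Agent.EtAICLib.Birational
import Groth.Agent.EtTorLib.GabberConst

/-!
# The closed part of a normalization in a product of fields has no higher cohomology
-/

set_option autoImplicit false
set_option linter.style.haveILetI false
set_option backward.isDefEq.respectTransparency false
set_option backward.isDefEq.respectTransparency.types false
set_option maxHeartbeats 2000000

universe u

open CategoryTheory CategoryTheory.Limits AlgebraicGeometry Opposite TopologicalSpace

namespace Groth.Agent.EtPBCq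

open EtTorLib

variable {ι : Type u} {K : ι → Type u} [∀ i, Field (K i)] [∀ i, IsAlgClosed (K i)]
  {X : Scheme.{u}} (e : Spec (CommRingCat.of (∀ i, K i)) ⟶ X) [QuasiCompact e] [QuasiSeparated e]

/-- the generic point over a point -/
noncomputable def gen (y : e.normalization) : PrimeSpectrum (∀ i, K i) :=
  Classical.choose (FDescent.exists_specializes_of_mem_closure_range e.toNormalization (e.toNormalization.denseRange y))

theorem gen_specializes (y : e.normalization) : e.toNormalization (gen e y) ⤳ y :=
  Classical.choose_spec (FDescent.exists_specializes_of_mem_closure_range e.toNormalization (e.toNormalization.denseRange y))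

theorem gen_eq {y : e.normalization} {p : PrimeSpectrum (∀ i, K i)} (h : e.toNormalization p ⤳ y) : gen e y = p :=
  eq_of_specializes e (gen_specializes e y) h

/-- the closed subset over a set of indices -/
noncomputable def part (S : Set ι) : Closeds e.normalization :=
  ⟨{y | chi K S ∉ (gen e y).asIdeal}, by
    have : {y | chi K S ∉ (gen e y).asIdeal} = closure (Set.range (piece (K := K) S ≫ e.toNormalization).base) := by
      ext y
      constructor
      · intro hy
        obtain ⟨z, hz⟩ := (mem_range_piece S _).2 hy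
        refine (gen_specializes e y).mem_closed isClosed_closure (subset_closure ⟨z, ?_⟩)
        exact (Scheme.Hom.comp_apply _ _ _).trans (congrArg e.toNormalization.base hz)
      · intro hy
        haveI : QuasiCompact (piece (K := K) S ≫ e.toNormalization) := inferInstance
        obtain ⟨z, hz⟩ := FDescent.exists_specializes_of_mem_closure_range _ hy
        rw [Scheme.Hom.comp_apply] at hz
        show chi K S ∉ (gen e y).asIdeal
        rw [gen_eq e hz]
        exact (mem_range_piece S _).1 ⟨z, rfl⟩
    rw [this]
    exact isClosed_closure⟩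

theorem mem_part {S : Set ι} {y : e.normalization} : y ∈ part e S ↔ chi K S ∉ (gen e y).asIdeal := Iff.rfl

/-- intersection with a closed subset -/
noncomputable def cut (T : Closeds e.normalization) (S : Set ι) : Closeds e.normalization := T ⊓ part e S

theorem cut_le (T : Closeds e.normalization) (S : Set ι) : cut e T S ≤ T := fun _ h => h.1

theorem cut_mono (T : Closeds e.normalization) {S S' : Set ι} (h : S ⊆ S') : cut e T S ≤ cut e T S' := fun y hy =>
  ⟨hy.1, ((chi_notMem_iff_inter S S' _).1 (by rw [Set.inter_eq_left.2 h]; exact hy.2)).2⟩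

variable (M : Type) [AddCommGroup M]

theorem subsingleton_H_quot_empty (T : Closeds e.normalization) (hT : (T : Set e.normalization) = ∅) (q : ℕ) :
    Subsingleton (EtCoh.H e.normalization (quotSheaf (EtCoh.const e.normalization M) T) q) := by
  have hz : IsZero (quotSheaf (EtCoh.const e.normalization M) T) := by
    rw [IsZero.iff_id_eq_zero]
    exact EtFound.eq_of_stalks _ _ fun Ω _ _ ξ =>
      (isZero_stalk_quot ξ (Set.eq_empty_iff_forall_notMem.1 hT _)).eq_of_src _ _
  exact subsingleton_of_forall_eq 0 fun x => by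
    rw [← Abelian.Ext.comp_mk₀_id x, hz.eq_of_src (𝟙 _) 0, Abelian.Ext.mk₀_zero, Abelian.Ext.comp_zero]

variable {A : Type u} [CommRing A] (I : Ideal A) [HenselianRing A I] (f : X ⟶ Spec (CommRingCat.of A)) [IsProper f]

/-- the closed part of the component of a point -/
theorem closure_eq (p : PrimeSpectrum (∀ i, K i)) :
    (closure {e.toNormalization p} : Set e.normalization) = {y | gen e y = p} := by
  ext y
  refine ⟨fun hy => gen_eq e (specializes_iff_mem_closure.2 hy), fun hy => ?_⟩
  rw [← (hy : gen e y = p)]
  exact specializes_iff_mem_closure.1 (gen_specializes e y)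

theorem subsingleton_H_component [Finite M] (p : PrimeSpectrum (∀ i, K i)) (T' : Closeds e.normalization)
    (hT' : (T' : Set e.normalization) = EtH0Lib.Zof (e.fromNormalization ≫ f) I ∩ closure {e.toNormalization p})
    (q : ℕ) (hq : 0 < q) :
    Subsingleton (EtCoh.H e.normalization (quotSheaf (EtCoh.const e.normalization M) T') q) := by
  let C : Closeds e.normalization := ⟨closure {e.toNormalization p}, isClosed_closure⟩
  let κ := redSubι C
  haveI : IsReduced (redSub C) := inferInstanceAs (IsReduced (Scheme.IdealSheafData.vanishingIdeal C).subscheme)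
  haveI : IrreducibleSpace (redSub C) := by
    have h : IsIrreducible (Set.range κ.base) := by rw [range_redSubι]; exact isIrreducible_singleton.closure
    obtain ⟨⟨_, z, _⟩, hpre⟩ := h
    haveI : Nonempty (redSub C) := ⟨z⟩
    haveI : PreirreducibleSpace (redSub C) := ⟨fun u v hu hv ⟨a, _, ha⟩ ⟨b, _, hb⟩ => by
      obtain ⟨u', hu', rfl⟩ := κ.isClosedEmbedding.isInducing.isOpen_iff.1 hu
      obtain ⟨v', hv', rfl⟩ := κ.isClosedEmbedding.isInducing.isOpen_iff.1 hv
      obtain ⟨_, ⟨w, rfl⟩, hw⟩ := hpre u' v' hu' hv' ⟨_, ⟨a, rfl⟩, ha⟩ ⟨_, ⟨b, rfl⟩, hb⟩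
      exact ⟨w, trivial, hw⟩⟩
    exact ⟨inferInstance⟩
  haveI : IsIntegral (redSub C) := isIntegral_of_irreducibleSpace_of_isReduced _
  let Z : Closeds e.normalization := ⟨EtH0Lib.Zof (e.fromNormalization ≫ f) I, EtH0Lib.isClosed_Zof _ I⟩
  let j := redSubι Z
  have hV := EtAICLib.vanish_of_integral_proper I ((EtAICLib.aics_normalization_of_pi e).of_isPreimmersion κ)
    (κ ≫ e.fromNormalization) f
  haveI := hV M _ (pullback.fst κ j) (by
    rw [show Set.range (pullback.fst κ j).base = _ from Scheme.Pullback.range_fst _ _, range_redSubι]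
    rfl) q hq
  obtain ⟨u⟩ := EtAICLib.nonempty_H_quot_closed M T' (pullback.fst κ j ≫ κ) (by
    rw [Scheme.Hom.comp_base, TopCat.coe_comp, Set.range_comp,
      show Set.range (pullback.fst κ j).base = _ from Scheme.Pullback.range_fst _ _, Set.image_preimage_eq_inter_range,
      range_redSubι, range_redSubι, hT']
    rfl) q
  exact u.toEquiv.subsingleton

theorem subsingleton_H_closedPart [Finite M] (T : Closeds e.normalization)
    (hT : (T : Set e.normalization) = EtH0Lib.Zof (e.fromNormalization ≫ f) I) (q : ℕ) :
    Subsingleton (EtCoh.H e.normalization (quotSheaf (EtCoh.const e.normalization M) T) (q + 1)) := by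
  classical
  haveI : CompactSpace X := QuasiCompact.compactSpace_of_compactSpace f
  haveI : QuasiSeparatedSpace X := quasiSeparatedSpace_of_quasiSeparated f
  haveI : CompactSpace e.normalization := QuasiCompact.compactSpace_of_compactSpace e.fromNormalization
  haveI : QuasiSeparatedSpace e.normalization := quasiSeparatedSpace_of_quasiSeparated e.fromNormalization
  refine subsingleton_of_forall_eq 0 fun c => ?_
  let F := EtCoh.const e.normalization M
  let dies : Set ι → Prop := fun S => (EtCoh.HF e.normalization (q + 1)).map (quotMap F (cut_le e T S)) c = 0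
  have hsub : ∀ S S', S ⊆ S' → dies S' → dies S := fun S S' h hd => by
    show (EtCoh.HF e.normalization (q + 1)).map (quotMap F (cut_le e T S)) c = 0
    rw [← quotMap_comp F (cut_mono e T h) (cut_le e T S'), Functor.map_comp, ConcreteCategory.comp_apply, hd, map_zero]
  have hempty : ∀ S, (cut e T S : Set e.normalization) = ∅ → dies S := fun S h =>
    @Subsingleton.elim _ (subsingleton_H_quot_empty e M _ h (q + 1)) _ _
  have hpt : ∀ p : PrimeSpectrum (∀ i, K i), ∃ S, chi K S ∉ p.asIdeal ∧ dies S := by
    intro p
    let J := {S : (Set ι)ᵒᵈ // chi K (OrderDual.ofDual S) ∉ p.asIdeal}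
    haveI : Nonempty J := ⟨⟨OrderDual.toDual Set.univ, by
      show chi K Set.univ ∉ p.asIdeal
      rw [chi_univ]
      exact fun h => p.2.ne_top ((Ideal.eq_top_iff_one _).2 h)⟩⟩
    haveI : IsDirectedOrder J := ⟨fun a b => ⟨⟨OrderDual.toDual (OrderDual.ofDual a.1 ∩ OrderDual.ofDual b.1),
      (chi_notMem_iff_inter _ _ p).2 ⟨a.2, b.2⟩⟩,
      (Set.inter_subset_left : OrderDual.ofDual a.1 ∩ OrderDual.ofDual b.1 ⊆ OrderDual.ofDual a.1),
      (Set.inter_subset_right : OrderDual.ofDual a.1 ∩ OrderDual.ofDual b.1 ⊆ OrderDual.ofDual b.1)⟩⟩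
    let TJ : J → Closeds e.normalization := fun S => cut e T (OrderDual.ofDual S.1)
    let T₀ : Closeds e.normalization := T ⊓ ⟨closure {e.toNormalization p}, isClosed_closure⟩
    have h₀ : (T₀ : Set e.normalization) = ⋂ S, (TJ S : Set e.normalization) := by
      ext y
      constructor
      · rintro ⟨hy, hy'⟩
        refine Set.mem_iInter.2 fun S => ⟨hy, ?_⟩
        show chi K (OrderDual.ofDual S.1) ∉ (gen e y).asIdeal
        rw [((closure_eq e p).le hy' : gen e y = p)]
        exact S.2
      · intro hy
        refine ⟨(Set.mem_iInter.1 hy (Classical.arbitrary J)).1, (closure_eq e p).ge ?_⟩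
        refine (eq_of_chi (gen e y) p fun S hS => ?_)
        by_contra hS'
        exact (Set.mem_iInter.1 hy ⟨OrderDual.toDual S, hS'⟩).2 hS
    have hsing := subsingleton_H_component e M I f p T₀ (by
      show (T : Set e.normalization) ∩ closure {e.toNormalization p} = _
      rw [hT]) (q + 1) q.succ_pos
    obtain ⟨k, hk, hk'⟩ := exists_dies_at_stage F TJ (fun a b h => cut_mono e T h) T₀ h₀ (q + 1) (Classical.arbitrary J)
      ((EtCoh.HF e.normalization (q + 1)).map (quotMap F (cut_le e T _)) c) fun h => @Subsingleton.elim _ hsing _ _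
    refine ⟨OrderDual.ofDual k.1, k.2, ?_⟩
    rw [← ConcreteCategory.comp_apply, ← Functor.map_comp, quotMap_comp] at hk'
    exact hk'
  choose S hS hd using hpt
  obtain ⟨t, ht⟩ := (isCompact_univ (X := PrimeSpectrum (∀ i, K i))).elim_finite_subcover
    (fun p : PrimeSpectrum (∀ i, K i) => (PrimeSpectrum.basicOpen (chi K (S p)) : Set (PrimeSpectrum (∀ i, K i))))
    (fun p => (PrimeSpectrum.basicOpen _).2)
    fun p _ => Set.mem_iUnion (s := fun p => (PrimeSpectrum.basicOpen (chi K (S p)) : Set (PrimeSpectrum (∀ i, K i)))).2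
      ⟨p, hS p⟩
  have hunion : ∀ t : Finset (PrimeSpectrum (∀ i, K i)), dies (⋃ p ∈ t, S p) := by
    intro t
    induction t using Finset.induction_on with
    | empty =>
      refine hempty _ (Set.eq_empty_of_forall_notMem fun y hy => hy.2 ?_)
      simp only [Finset.notMem_empty, Set.iUnion_of_empty, Set.iUnion_empty, chi_empty]
      exact (gen e y).asIdeal.zero_mem
    | @insert p t hp ih =>
      let A := S p
      let B := (⋃ x ∈ t, S x) \ S p
      have hAB : (⋃ x ∈ insert p t, S x) = A ∪ B := by
        rw [Finset.set_biUnion_insert, Set.union_diff_self]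
      rw [hAB]
      have hA : A ⊆ A ∪ B := Set.subset_union_left
      have hB : B ⊆ A ∪ B := Set.subset_union_right
      have hor : ∀ (x : PrimeSpectrum (∀ i, K i)) (U V : Set ι), chi K (U ∪ V) ∉ x.asIdeal →
          chi K U ∉ x.asIdeal ∨ chi K V ∉ x.asIdeal := by
        intro x U V h
        by_contra hne
        push_neg at hne
        refine h ?_
        rw [show chi K (U ∪ V) = chi K U + chi K V - chi K U * chi K V from funext fun i => by
          by_cases hU : i ∈ U <;> by_cases hW : i ∈ V <;> simp [chi, hU, hW]]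
        exact x.asIdeal.sub_mem (x.asIdeal.add_mem hne.1 hne.2) (x.asIdeal.mul_mem_right _ hne.1)
      refine dies_of_union (T := cut e T (A ∪ B)) (T₁ := cut e T A) (T₂ := cut e T B)
        (T₁₂ := cut e T (A ∩ B)) (cut_mono e T hA) (cut_mono e T hB) ?_
        (cut_mono e T Set.inter_subset_left) (cut_mono e T Set.inter_subset_right) ?_ q ?_ _ ?_ ?_
      · ext y
        refine ⟨fun hy => (hor _ A B hy.2).imp (fun h => ⟨hy.1, h⟩) fun h => ⟨hy.1, h⟩, ?_⟩
        rintro (hy | hy)
        · exact cut_mono e T hA hy
        · exact cut_mono e T hB hy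
      · ext y
        exact ⟨fun hy => ⟨⟨hy.1, ((chi_notMem_iff_inter A B _).1 hy.2).1⟩, ⟨hy.1, ((chi_notMem_iff_inter A B _).1 hy.2).2⟩⟩,
          fun hy => ⟨hy.1.1, (chi_notMem_iff_inter A B _).2 ⟨hy.1.2, hy.2.2⟩⟩⟩
      · refine subsingleton_H_quot_empty e M _ (Set.eq_empty_of_forall_notMem fun y (hy : y ∈ cut e T (A ∩ B)) => hy.2 ?_) q
        rw [show A ∩ B = ∅ from Set.inter_sdiff_self _ _, chi_empty]
        exact (gen e y).asIdeal.zero_mem
      · rw [← ConcreteCategory.comp_apply, ← Functor.map_comp, quotMap_comp]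
        exact hd p
      · rw [← ConcreteCategory.comp_apply, ← Functor.map_comp, quotMap_comp]
        exact hsub _ _ Set.sdiff_subset ih
  have htop : (T : Set e.normalization) ⊆ cut e T (⋃ p ∈ t, S p) := fun y hy => by
    obtain ⟨p, hp, hpy⟩ := Set.mem_iUnion₂.1 (ht (Set.mem_univ (gen e y)))
    exact cut_mono e T (Set.subset_biUnion_of_mem hp) ⟨hy, hpy⟩
  have e0 := hunion t
  have hid : quotMap F (cut_le e T (⋃ p ∈ t, S p)) ≫ quotMap F htop = 𝟙 _ := by
    rw [quotMap_comp]; exact quotMap_self F
  calc c = (EtCoh.HF e.normalization (q + 1)).map (𝟙 _) c := by rw [CategoryTheory.Functor.map_id]; rfl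
    _ = 0 := by rw [← hid, Functor.map_comp, ConcreteCategory.comp_apply, e0, map_zero]

end Groth.Agent.EtPBCq
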