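import Groth.Agent.EtPBCq.ProdField
import Groth.Agent.AICCover.Scheme
import Groth.Agent.EtFound.Strata
import Groth.Agent.EtFound.FieldExt
import Groth.Agent.EtFound.PullStalk
import Groth.Agent.IsoNatLib.TrivLocus
import Groth.Agent.EtH1Lib.Basic

/-!
# Constructible sheaves embed in direct images of constant sheaves from products of fields
-/

set_option autoImplicit false
set_option linter.style.haveILetI false
set_option backward.isDefEq.respectTransparency false
set_option backward.isDefEq.respectTransparency.types false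
set_option maxHeartbeats 2000000

universe u

open CategoryTheory CategoryTheory.Limits AlgebraicGeometry Opposite TopologicalSpace

namespace Groth.Agent.EtPBCq

variable {X : Scheme.{u}}

/-- all points of an affine open, geometrically -/
noncomputable def pts (V : X.Opens) (hV : IsAffineOpen V) :
    Spec (CommRingCat.of (AICCover.PR X V)) ⟶ X :=
  Spec.map (CommRingCat.ofHom (AICCover.evalAll X V)) ≫ hV.fromSpec

theorem mem_range_pts (V : X.Opens) (hV : IsAffineOpen V) (x : X) (hx : x ∈ V) :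
    x ∈ Set.range (pts V hV).base := by
  classical
  let p : PrimeSpectrum (AICCover.PR X V) :=
    ⟨RingHom.ker (AICCover.projPt X V ⟨x, hx⟩), RingHom.ker_isPrime _⟩
  refine ⟨p, (Scheme.Hom.comp_apply _ _ _).trans ?_⟩
  set q := Spec.map (CommRingCat.ofHom (AICCover.evalAll X V)) p with hq
  have hy : hV.fromSpec q ∈ V := by rw [← SetLike.mem_coe, ← hV.range_fromSpec]; exact ⟨q, rfl⟩
  have key : ∀ a : Γ(X, V), hV.fromSpec q ∈ X.basicOpen a ↔ x ∈ X.basicOpen a := fun a => by
    have h1 : hV.fromSpec q ∈ X.basicOpen a ↔ q ∈ hV.fromSpec ⁻¹ᵁ X.basicOpen a := Iff.rfl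
    rw [h1, hV.fromSpec_preimage_basicOpen, ← Scheme.evaluation_ne_zero_iff_mem_basicOpen X x hx a]
    show ¬ (algebraMap (X.residueField x) (AlgebraicClosure (X.residueField x))
      (X.evaluation V x hx a) = 0) ↔ _
    rw [map_eq_zero]
  refine ((inseparable_iff_forall_isOpen.2 fun W hW => ?_).eq)
  constructor
  · intro hv
    obtain ⟨a, ha, hva⟩ := hV.exists_basicOpen_le (V := ⟨W, hW⟩) ⟨_, hv⟩ hy
    exact ha ((key a).1 hva)
  · intro hv
    obtain ⟨a, ha, hva⟩ := hV.exists_basicOpen_le (V := ⟨W, hW⟩) ⟨_, hv⟩ hx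
    exact ha ((key a).2 hva)

/-- one morphism from a product of fields on which a sheaf is constant -/
structure Piece (F : EtCoh.Ab X) where
  ι : Type u
  K : ι → Type u
  [field : ∀ i, Field (K i)]
  [closed : ∀ i, IsAlgClosed (K i)]
  e : Spec (CommRingCat.of (∀ i, K i)) ⟶ X
  M : Type
  [addCommGroup : AddCommGroup M]
  [finite : Finite M]
  iso : Nonempty ((EtCoh.pull e).obj F ≅ EtCoh.const _ M)

attribute [instance] Piece.field Piece.closed Piece.addCommGroup Piece.finite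

theorem mem_range_sigma {F : EtCoh.Ab X} {α : Type*} {m : α → ℕ} (P : ∀ a, Fin (m a) → Piece F) {n : ℕ}
    (e : Fin n ≃ Σ a, Fin (m a)) (a : α) (j : Fin (m a)) {x : X} (h : x ∈ Set.range (P a j).e.base) :
    x ∈ Set.range (P (e (e.symm ⟨a, j⟩)).1 (e (e.symm ⟨a, j⟩)).2).e.base := by
  have key : ∀ σ : Σ a, Fin (m a), σ = ⟨a, j⟩ → x ∈ Set.range (P σ.1 σ.2).e.base := by
    rintro _ rfl; exact h
  exact key _ (e.apply_symm_apply _)

theorem exists_pieces_of_flc {T : Scheme.{u}} [CompactSpace T] (g : T ⟶ X) {F : EtCoh.Ab X}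
    (h : EtCoh.IsFiniteLocallyConstant ((EtCoh.pull g).obj F)) :
    ∃ (n : ℕ) (P : Fin n → Piece F), Set.range g.base ⊆ ⋃ k, Set.range (P k).e.base := by
  classical
  obtain ⟨s, hs⟩ := (isCompact_univ (X := T)).elim_finite_subcover (fun U : T.affineOpens => (U.1 : Set T))
    (fun U => U.1.2) (fun x _ => by
      obtain ⟨_, ⟨U, hU, rfl⟩, hxU, -⟩ := T.isBasis_affineOpens.exists_subset_of_mem_open (Set.mem_univ x) isOpen_univ
      exact Set.mem_iUnion.2 ⟨⟨U, hU⟩, hxU⟩)
  have hV : ∀ V : s, ∃ (m : ℕ) (P : Fin m → Piece F), g.base '' (V.1.1 : Set T) ⊆ ⋃ k, Set.range (P k).e.base := by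
    intro V
    let e₀ := pts V.1.1 V.1.2
    obtain ⟨m, S, hcov, hS⟩ := exists_pieces _ (EtFound.isFiniteLocallyConstant_pull e₀ h)
    choose M hM hfin hiso using hS
    refine ⟨m, fun j => @Piece.mk X F _ _ _ _ (piece (S j) ≫ e₀ ≫ g) (M j) (hM j) (hfin j)
      ⟨(EtCore.pullComp _ _).app F ≪≫ (EtCoh.pull (piece (S j))).mapIso ((EtCore.pullComp e₀ g).app F) ≪≫
        (hiso j).some⟩, ?_⟩
    rintro _ ⟨t, ht, rfl⟩
    obtain ⟨p, rfl⟩ := mem_range_pts V.1.1 V.1.2 t ht
    obtain ⟨j, hj⟩ := hcov p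
    obtain ⟨z, rfl⟩ := (mem_range_piece (S j) p).2 hj
    exact Set.mem_iUnion.2 ⟨j, z, (Scheme.Hom.comp_apply _ _ _).trans (Scheme.Hom.comp_apply _ _ _)⟩
  choose m P hP using hV
  let e := (Fintype.equivFin (Σ V : s, Fin (m V))).symm
  refine ⟨_, fun k => P (e k).1 (e k).2, ?_⟩
  rintro _ ⟨t, rfl⟩
  obtain ⟨V, hVs, htV⟩ := Set.mem_iUnion₂.1 (hs (Set.mem_univ t))
  obtain ⟨j, hj⟩ := Set.mem_iUnion.1 (hP ⟨V, hVs⟩ ⟨t, htV, rfl⟩)
  exact Set.mem_iUnion.2 ⟨e.symm ⟨⟨V, hVs⟩, j⟩, mem_range_sigma P e _ j hj⟩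

/-- a constructible sheaf is constant on finitely many products of fields covering everything -/
theorem exists_pieces_of_constructible [CompactSpace X] [QuasiSeparatedSpace X] {F : EtCoh.Ab X}
    (hF : EtPBC.IsConstructible F) :
    ∃ (n : ℕ) (P : Fin n → Piece F), ∀ x : X, ∃ k, x ∈ Set.range (P k).e.base := by
  classical
  obtain ⟨s, hs⟩ := (isCompact_univ (X := X)).elim_finite_subcover (fun U : X.affineOpens => (U.1 : Set X))
    (fun U => U.1.2) (fun x _ => by
      obtain ⟨_, ⟨U, hU, rfl⟩, hxU, -⟩ := X.isBasis_affineOpens.exists_subset_of_mem_open (Set.mem_univ x) isOpen_univ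
      exact Set.mem_iUnion.2 ⟨⟨U, hU⟩, hxU⟩)
  have hU : ∀ U : s, ∃ (m : ℕ) (P : Fin m → Piece F), (U.1.1 : Set X) ⊆ ⋃ k, Set.range (P k).e.base := by
    intro U
    haveI : IsAffine U.1.1.toScheme := U.1.2
    obtain ⟨n, T, g, hg, hc, -, hu, hflc⟩ := hF U.1.1 U.1.2
    have hk : ∀ a, ∃ (m : ℕ) (P : Fin m → Piece F), Set.range (g a).base ⊆ ⋃ k, Set.range (P k).e.base := by
      intro a
      haveI := hg a
      haveI : CompactSpace (T a) := by
        refine ⟨(g a).isEmbedding.isInducing.isCompact_iff.2 ?_⟩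
        rw [Set.image_univ]
        have h1 := (IsoNatLib.isCompact_of_isConstructible (X := U.1.1.toScheme) (hc a)).image continuous_subtype_val
        rwa [Subtype.image_preimage_coe, Set.inter_eq_right.2 ((Set.subset_iUnion (fun a => Set.range (g a).base) a).trans hu.le)] at h1
      exact exists_pieces_of_flc (g a) (hflc a)
    choose m P hP using hk
    let e := (Fintype.equivFin (Σ a, Fin (m a))).symm
    refine ⟨_, fun k => P (e k).1 (e k).2, fun x hx => ?_⟩
    obtain ⟨a, ha⟩ := Set.mem_iUnion.1 (hu.ge hx)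
    obtain ⟨j, hj⟩ := Set.mem_iUnion.1 (hP a ha)
    exact Set.mem_iUnion.2 ⟨e.symm ⟨a, j⟩, mem_range_sigma P e _ j hj⟩
  choose m P hP using hU
  let e := (Fintype.equivFin (Σ U : s, Fin (m U))).symm
  refine ⟨_, fun k => P (e k).1 (e k).2, fun x => ?_⟩
  obtain ⟨U, hUs, hxU⟩ := Set.mem_iUnion₂.1 (hs (Set.mem_univ x))
  obtain ⟨j, hj⟩ := Set.mem_iUnion.1 (hP ⟨U, hUs⟩ hxU)
  exact ⟨e.symm ⟨⟨U, hUs⟩, j⟩, mem_range_sigma P e _ j hj⟩

/-- morphisms detected on a covering family -/
theorem eq_zero_of_pulls {n : ℕ} {E : Fin n → Scheme.{u}} (e : ∀ k, E k ⟶ X)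
    (hcov : ∀ x : X, ∃ k, x ∈ Set.range (e k).base) {A B : EtCoh.Ab X} (a : A ⟶ B)
    (ha : ∀ k, (EtCoh.pull (e k)).map a = 0) : a = 0 := by
  refine EtFound.eq_of_stalks a 0 fun Ω _ _ ξ => ?_
  obtain ⟨k, y, hy⟩ := hcov (ξ.base default)
  obtain ⟨z, -, -⟩ := Scheme.Pullback.exists_preimage_pullback (f := e k) (g := ξ) y default hy
  let Ω' := AlgebraicClosure ((pullback (e k) ξ).residueField z)
  let d : Spec (CommRingCat.of Ω') ⟶ pullback (e k) ξ :=
    Spec.map (CommRingCat.ofHom (algebraMap ((pullback (e k) ξ).residueField z) Ω')) ≫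
      (pullback (e k) ξ).fromSpecResidueField z
  let ζ := d ≫ pullback.fst (e k) ξ
  let l := d ≫ pullback.snd (e k) ξ
  have hsq : l ≫ ξ = ζ ≫ e k := by simp [l, ζ, pullback.condition]
  have h1 : (EtCoh.stalk (ζ ≫ e k)).map a = 0 := by
    refine (cancel_epi ((EtFound.stalkPullIso (e k) ζ).hom.app A)).1 ?_
    rw [comp_zero]
    refine ((EtFound.stalkPullIso (e k) ζ).hom.naturality a).symm.trans ?_
    rw [Functor.comp_map, ha k, Functor.map_zero, zero_comp]
  rw [← hsq] at h1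
  rw [Functor.map_zero]
  refine (cancel_mono ((EtFound.stalkExtIso AddCommGrpCat.{u + 1} ξ l).hom.app B)).1 ?_
  rw [zero_comp]
  refine ((EtFound.stalkExtIso AddCommGrpCat.{u + 1} ξ l).hom.naturality a).trans ?_
  exact (congrArg (_ ≫ ·) h1).trans comp_zero

/-- the map to the direct images along a covering family is injective -/
theorem mono_lift_units {n : ℕ} {E : Fin n → Scheme.{u}} (e : ∀ k, E k ⟶ X)
    (hcov : ∀ x : X, ∃ k, x ∈ Set.range (e k).base) (F : EtCoh.Ab X) :
    Mono (biproduct.lift fun k => (EtCoh.pullPushAdj (e k)).unit.app F) := by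
  refine Preadditive.mono_iff_cancel_zero _ |>.2 fun A a ha => eq_zero_of_pulls e hcov a fun k => ?_
  have h1 : a ≫ (EtCoh.pullPushAdj (e k)).unit.app F = 0 := by
    have := congrArg (· ≫ biproduct.π (fun k => (EtCoh.push (e k)).obj ((EtCoh.pull (e k)).obj F)) k) ha
    simpa using this
  haveI := EtFound.pull_preservesFiniteLimits (e k)
  have := congrArg (fun z => (EtCoh.pull (e k)).map z ≫ (EtCoh.pullPushAdj (e k)).counit.app _) h1
  simp only [Functor.map_comp, Category.assoc, Functor.map_zero, zero_comp] at this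
  erw [(EtCoh.pullPushAdj (e k)).left_triangle_components F, Category.comp_id] at this
  exact this

end Groth.Agent.EtPBCq
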