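import Groth.Agent.EtPBCq.Acyc
import Groth.Agent.EtPBCq.Decomp
import Groth.Agent.EtTorLib.ColimConstr
import Groth.Agent.EtLeray.LTors
import Groth.Agent.EtLeray.CompN

/-!
# Proper base change to the closed part over henselian pairs
-/

set_option autoImplicit false
set_option linter.style.haveILetI false
set_option backward.isDefEq.respectTransparency false
set_option backward.isDefEq.respectTransparency.types false
set_option maxHeartbeats 2000000

universe u

open CategoryTheory CategoryTheory.Limits AlgebraicGeometry Opposite TopologicalSpace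

namespace Groth.Agent.EtPBCq

variable {A : Type u} [CommRing A] (I : Ideal A) [HenselianRing A I] {X : Scheme.{u}}
  (f : X ⟶ Spec (CommRingCat.of A)) [IsProper f]

/-- restriction to the closed part followed by cohomology -/
noncomputable abbrev closedH (q : ℕ) : EtCoh.Ab X ⥤ AddCommGrpCat.{u + 1} :=
  EtCoh.pull (EtH1Lib.closedIncl I f) ⋙ EtCoh.HF (pullback f (Spec.map (CommRingCat.ofHom (Ideal.Quotient.mk I)))) q

/-- classes of maps into sheaves which are injective among sheaves killed by `n` die -/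
theorem map_eq_zero_of_constructible {n : ℕ} (hn : 0 < n) (J : EtCoh.Ab X) [Injective J] (E : EtCoh.Ab X)
    (hE : EtPBC.IsConstructible E) (hEn : n • 𝟙 E = 0) (m : E ⟶ kernel (n • 𝟙 J)) (q : ℕ) :
    (closedH I f (q + 1)).map m = 0 := by
  haveI : CompactSpace X := QuasiCompact.compactSpace_of_compactSpace f
  haveI : QuasiSeparatedSpace X := quasiSeparatedSpace_of_quasiSeparated f
  obtain ⟨N, P, hcov⟩ := exists_pieces_of_constructible hE
  let e : ∀ k : Fin N, Spec (CommRingCat.of (∀ i, (P k).K i)) ⟶ X := fun k => (P k).e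
  haveI : ∀ k, (EtCoh.pull (e k)).Additive := fun k => (EtCoh.pullPushAdj (e k)).left_adjoint_additive
  haveI : ∀ k, (EtCoh.push (e k)).IsRightAdjoint := fun k => (EtCoh.pullPushAdj (e k)).isRightAdjoint
  haveI : ∀ k, (EtCoh.push (e k)).Additive := fun k => (EtCoh.pullPushAdj (e k)).right_adjoint_additive
  let Q : Fin N → EtCoh.Ab X := fun k => (EtCoh.push (e k)).obj ((EtCoh.pull (e k)).obj E)
  let φ : E ⟶ ⨁ Q := biproduct.lift fun k => (EtCoh.pullPushAdj (e k)).unit.app E
  haveI : Mono φ := mono_lift_units e hcov E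
  have hQ : n • 𝟙 (⨁ Q) = 0 := EtFound.nsmul_biproduct Q fun k => by
    show n • 𝟙 ((EtCoh.push (e k)).obj ((EtCoh.pull (e k)).obj E)) = 0
    rw [← CategoryTheory.Functor.map_id, ← Functor.map_nsmul, ← CategoryTheory.Functor.map_id (EtCoh.pull (e k)),
      ← Functor.map_nsmul, hEn, Functor.map_zero, Functor.map_zero]
  let g := Injective.factorThru (m ≫ kernel.ι (n • 𝟙 J)) φ
  have hg : g ≫ (n • 𝟙 J) = 0 := by
    rw [Preadditive.comp_nsmul, Category.comp_id, ← Category.id_comp g, ← Preadditive.nsmul_comp, hQ, zero_comp]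
  have hm : φ ≫ kernel.lift _ g hg = m := by
    rw [← cancel_mono (kernel.ι (n • 𝟙 J)), Category.assoc, kernel.lift_ι, Injective.comp_factorThru]
  haveI : (EtCoh.pull (EtH1Lib.closedIncl I f)).Additive :=
    (EtCoh.pullPushAdj (EtH1Lib.closedIncl I f)).left_adjoint_additive
  haveI : (closedH I f (q + 1)).Additive := inferInstance
  have hk : ∀ k, IsZero ((closedH I f (q + 1)).obj (Q k)) := fun k => by
    have hs : Subsingleton ((closedH I f (q + 1)).obj ((EtCoh.push (e k)).obj (EtCoh.const _ (P k).M))) :=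
      subsingleton_H_closedPart_push (e k) I f (P k).M q
    obtain ⟨u⟩ := (P k).iso
    exact (@AddCommGrpCat.isZero_of_subsingleton _ hs).of_iso
      (((closedH I f (q + 1)).mapIso ((EtCoh.push (e k)).mapIso u)))
  have h0 : (closedH I f (q + 1)).map (𝟙 (⨁ Q)) = 0 := by
    rw [← biproduct.total, Functor.map_sum]
    refine Finset.sum_eq_zero fun k _ => ?_
    rw [Functor.map_comp, (hk k).eq_of_tgt ((closedH I f (q + 1)).map (biproduct.π Q k)) 0, zero_comp]
  rw [← hm, ← Category.comp_id φ, Functor.map_comp, Functor.map_comp, h0, comp_zero, zero_comp]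

theorem good_killed (n : ℕ) : EtTorLib.Good (X := X) (fun A : EtCoh.Ab X => n • 𝟙 A = 0) where
  iso {A B} e h := by
    rw [← e.inv_hom_id, ← Category.id_comp e.hom, ← Preadditive.comp_nsmul, ← Preadditive.nsmul_comp, h, zero_comp,
      comp_zero]
  zero {A} hA := hA.eq_of_src _ _
  sum {A B} hA hB := by
    apply biprod.hom_ext'
    · rw [comp_zero, Preadditive.comp_nsmul, Category.comp_id, ← Category.id_comp biprod.inl,
        ← Preadditive.nsmul_comp, hA, zero_comp]
    · rw [comp_zero, Preadditive.comp_nsmul, Category.comp_id, ← Category.id_comp biprod.inr,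
        ← Preadditive.nsmul_comp, hB, zero_comp]
  coker {A B} g hB := by
    refine (cancel_epi (cokernel.π g)).1 ?_
    rw [comp_zero, Preadditive.comp_nsmul, Category.comp_id, ← Category.id_comp (cokernel.π g),
      ← Preadditive.nsmul_comp, hB, zero_comp]

/-- kernels of multiplication on injectives are acyclic on the closed part -/
theorem isZero_closedH_kernel {n : ℕ} (hn : 0 < n) (J : EtCoh.Ab X) [Injective J] (q : ℕ) :
    IsZero ((closedH I f (q + 1)).obj (kernel (n • 𝟙 J))) := by
  haveI : CompactSpace X := QuasiCompact.compactSpace_of_compactSpace f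
  haveI : QuasiSeparatedSpace X := quasiSeparatedSpace_of_quasiSeparated f
  haveI : IsClosedImmersion (Spec.map (CommRingCat.ofHom (Ideal.Quotient.mk I))) :=
    IsClosedImmersion.spec_of_surjective _ Ideal.Quotient.mk_surjective
  let i := EtH1Lib.closedIncl I f
  haveI : IsClosedImmersion i := MorphismProperty.pullback_fst _ _ inferInstance
  haveI : CompactSpace ↥(pullback f (Spec.map (CommRingCat.ofHom (Ideal.Quotient.mk I)))) :=
    QuasiCompact.compactSpace_of_compactSpace i
  haveI : QuasiSeparatedSpace ↥(pullback f (Spec.map (CommRingCat.ofHom (Ideal.Quotient.mk I)))) :=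
    quasiSeparatedSpace_of_quasiSeparated i
  let G := kernel (n • 𝟙 J)
  have hG : n • 𝟙 G = 0 := by
    rw [← cancel_mono (kernel.ι (n • 𝟙 J)), zero_comp, Preadditive.nsmul_comp, Category.id_comp]
    have := kernel.condition (n • 𝟙 J)
    rwa [Preadditive.comp_nsmul, Category.comp_id] at this
  let P := fun A : EtCoh.Ab X => n • 𝟙 A = 0
  obtain ⟨hc⟩ := EtTorLib.exists_isColimit (X := X) (P := P) (F := G) (good_killed n)
    (GalTorLib.isTorsion_of_nsmul_id G n hn hG) fun U hU s m hm hs => by
      haveI : NeZero n := ⟨hn.ne'⟩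
      haveI := hU
      have hns : n • s = 0 := (EtFound.killedBy_iff_nsmul n G).2 hG U s
      obtain ⟨h, hh⟩ := EtTorLib.exists_hom_gen (n := n) (F := G) s hns
      exact ⟨EtPBC.extZeroConst U (ZMod n), h, EtTorLib.gen U n, S0133.result X U (ZMod n),
        EtFound.extZeroConst_nsmul U (fun m => by simp), hh⟩
  haveI := EtTorLib.isFiltered_idx (F := G) (good_killed (X := X) n)
  haveI : (EtCoh.pull i).IsLeftAdjoint := (EtCoh.pullPushAdj i).isLeftAdjoint
  haveI := EtLC12.QcqsAcyclic.preservesColimitsOfShape_HF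
    (pullback f (Spec.map (CommRingCat.ofHom (Ideal.Quotient.mk I)))) (q + 1) (EtTorLib.Idx P G)
  haveI : PreservesColimitsOfShape (EtTorLib.Idx P G) (closedH I f (q + 1)) := inferInstance
  rw [IsZero.iff_id_eq_zero]
  refine (isColimitOfPreserves (closedH I f (q + 1)) hc).hom_ext fun x => ?_
  rw [comp_zero]
  refine (Category.comp_id _).trans ?_
  exact map_eq_zero_of_constructible I f hn J x.p.E x.p.isConstructible x.hp x.m q

open EtTorLib EtLeray in
/-- hulls whose restrictions to the closed part are acyclic -/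
theorem exists_hull_closed (F : EtCoh.Ab X) (hF : EtAcyc.IsLTorsion Set.univ F) :
    ∃ (G : EtCoh.Ab X) (j : F ⟶ G), Mono j ∧ EtAcyc.IsLTorsion Set.univ G ∧
      (∀ q : ℕ, Subsingleton (EtCoh.H X G (q + 1))) ∧ ∀ q : ℕ, IsZero ((closedH I f (q + 1)).obj G) := by
  haveI : CompactSpace X := QuasiCompact.compactSpace_of_compactSpace f
  haveI : QuasiSeparatedSpace X := quasiSeparatedSpace_of_quasiSeparated f
  haveI : IsClosedImmersion (Spec.map (CommRingCat.ofHom (Ideal.Quotient.mk I))) :=
    IsClosedImmersion.spec_of_surjective _ Ideal.Quotient.mk_surjective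
  let i := EtH1Lib.closedIncl I f
  haveI : IsClosedImmersion i := MorphismProperty.pullback_fst _ _ inferInstance
  haveI : CompactSpace ↥(pullback f (Spec.map (CommRingCat.ofHom (Ideal.Quotient.mk I)))) :=
    QuasiCompact.compactSpace_of_compactSpace i
  haveI : QuasiSeparatedSpace ↥(pullback f (Spec.map (CommRingCat.ofHom (Ideal.Quotient.mk I)))) :=
    quasiSeparatedSpace_of_quasiSeparated i
  obtain ⟨⟨J, _, ι, _⟩⟩ := EnoughInjectives.presentation F
  haveI := isFiltered_tidx.{u} (one_mem_MSet (L := Set.univ)) mul_mem_MSet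
  obtain ⟨hc⟩ := nonempty_isColimit_torsCocone F (one_mem_MSet (L := Set.univ)) mul_mem_MSet hF
  let D := torsDiagram J (MSet Set.univ)
  let α : torsDiagram F (MSet Set.univ) ⟶ D :=
    { app := fun i => kernel.map _ _ ι ι (by simp [Preadditive.nsmul_comp, Preadditive.comp_nsmul])
      naturality := fun i k a => by
        refine (cancel_mono (kernel.ι (k.n • 𝟙 J))).1 ?_
        simp [D, torsDiagram, kernel.map] }
  let j : F ⟶ colimit D := hc.map (colimit.cocone D) α
  have hj : j ≫ colimit.desc D (torsCocone J (MSet Set.univ)) = ι := hc.hom_ext fun i => by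
    rw [IsColimit.ι_map_assoc, colimit.cocone_ι, colimit.ι_desc]
    exact kernel.lift_ι _ _ _
  refine ⟨colimit D, j, mono_of_mono_fac hj, fun U s x => ?_, fun q => ?_, fun q => ?_⟩
  · obtain ⟨W, g, hW, w, hw⟩ := exists_affine_nhd U x
    let Γ := sheafToPresheaf X.smallEtaleTopology AddCommGrpCat.{u + 1} ⋙
      (evaluation X.Etaleᵒᵖ AddCommGrpCat.{u + 1}).obj (op W)
    haveI : PreservesColimitsOfShape (TIdx.{u} (MSet Set.univ)) Γ :=
      EtFound.preservesColimitsOfShape_sections_qcqs_ab W (haveI := hW; EtFound.isQcqsObj_of_isAffine W) _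
    obtain ⟨i, t, ht⟩ := Types.jointly_surjective _ (isColimitOfPreserves (forget AddCommGrpCat.{u + 1})
      (isColimitOfPreserves Γ (colimit.isColimit D))) ((colimit D).obj.map g.op s)
    let φ := (colimit.ι D i).hom.app (op W)
    change φ.hom t = _ at ht
    refine ⟨W, g, i.n, ⟨w, hw⟩, i.mem, ?_⟩
    exact (congrArg (i.n • ·) ht.symm).trans ((map_nsmul φ.hom i.n t).symm.trans
      ((congrArg φ.hom (nsmul_app_eq_zero (torsDiagram_nsmul J i) W t)).trans (map_zero _)))
  · haveI := EtLC12.QcqsAcyclic.preservesColimitsOfShape_HF X (q + 1) (TIdx.{u} (MSet Set.univ))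
    refine AddCommGrpCat.subsingleton_of_isZero (isZero_colimit_obj (EtCoh.HF X (q + 1)) D fun i => ?_)
    haveI : Subsingleton ((EtCoh.HF X (q + 1)).obj (D.obj i)) := subsingleton_H_kernel_nsmul J i.mem.1 q
    exact AddCommGrpCat.isZero_of_subsingleton _
  · haveI : (EtCoh.pull (EtH1Lib.closedIncl I f)).IsLeftAdjoint :=
      (EtCoh.pullPushAdj (EtH1Lib.closedIncl I f)).isLeftAdjoint
    haveI := EtLC12.QcqsAcyclic.preservesColimitsOfShape_HF
      (pullback f (Spec.map (CommRingCat.ofHom (Ideal.Quotient.mk I)))) (q + 1) (TIdx.{u} (MSet Set.univ))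
    haveI : PreservesColimitsOfShape (TIdx.{u} (MSet Set.univ)) (closedH I f (q + 1)) := inferInstance
    exact isZero_colimit_obj (closedH I f (q + 1)) D fun i => isZero_closedH_kernel I f i.mem.1 J q

theorem isLTorsion_univ {T : Scheme.{u}} {F : EtCoh.Ab T} (hF : EtCoh.IsTorsion F) : EtAcyc.IsLTorsion Set.univ F :=
  fun U s x => by
    obtain ⟨V, g, hv, h⟩ := hF U s x
    obtain ⟨m, hm, hms⟩ := isOfFinAddOrder_iff_nsmul_eq_zero.1 h
    exact ⟨V, g, m, hv, ⟨hm, fun p _ _ => Set.mem_univ p⟩, hms⟩

/-- proper base change to the closed part over a henselian pair -/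
theorem bijective_Hpull_closed [PreservesFiniteLimits (EtCoh.pull (EtH1Lib.closedIncl I f))] (F : EtCoh.Ab X)
    (hF : EtCoh.IsTorsion F) (q : ℕ) : Function.Bijective (EtCore.Hpull (EtH1Lib.closedIncl I f) F q) := by
  refine (EtLeray.compN_of_hulls (EtH1Lib.closedIncl I f) Set.univ q
    (fun G _ => EtH1Lib.bijective_Hpull_zero_closed I f G) (fun G hG => ?_) F (isLTorsion_univ hF)).1 q le_rfl
  obtain ⟨G', j, hj, hG', hsub, hz⟩ := exists_hull_closed I f G hG
  refine ⟨G', j, hj, hG', hsub, fun p _ => ?_⟩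
  rcases p with _ | p
  · exact EtH1Lib.bijective_Hpull_zero_closed I f G'
  · haveI := hsub p
    haveI : Subsingleton (EtCoh.H _ ((EtCoh.pull (EtH1Lib.closedIncl I f)).obj G') (p + 1)) :=
      AddCommGrpCat.subsingleton_of_isZero (hz p)
    exact ⟨fun a b _ => Subsingleton.elim _ _, fun b => ⟨0, Subsingleton.elim _ _⟩⟩

end Groth.Agent.EtPBCq
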