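import Groth.Agent.EtPBCq.ProdField
import Groth.Agent.SepClosedNormal.Basic
import Groth.Agent.EtTorLib.ConstPush
import Groth.Agent.EtFound.Henselian
import Groth.Agent.EtFound.Germ
import Groth.Agent.ModPairLocal.AIC
import Groth.Agent.FDescent.QuasiFlat

/-!
# Normalizations in spectra of products of fields
-/

set_option autoImplicit false
set_option linter.style.haveILetI false
set_option backward.isDefEq.respectTransparency false
set_option backward.isDefEq.respectTransparency.types false
set_option maxHeartbeats 2000000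

universe u

open CategoryTheory CategoryTheory.Limits AlgebraicGeometry Opposite TopologicalSpace

namespace Groth.Agent.EtPBCq

theorem isStrictlyHenselian_of_isAIC (O : Type u) [CommRing O] [IsDomain O] [IsLocalRing O] (h : Curves.IsAIC O) :
    EtCoh.IsStrictlyHenselianLocalRing O :=
  haveI := EtAICLib.isIntegrallyClosed_of_isAIC h
  haveI := ModPairLocal.isAlgClosed_fractionRing h
  ⟨SepClosedNormal.henselianLocalRing O (FractionRing O), SepClosedNormal.isSepClosed_residueField O (FractionRing O)⟩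

/-- subalgebras integrally closed in von Neumann regular rings have domains as local rings -/
theorem isDomain_localization_integralClosure {R Q : Type u} [CommRing R] [CommRing Q] [Algebra R Q]
    (hQ : ∀ r : Q, ∃ s, r * r * s = r) (P : Ideal (integralClosure R Q)) [P.IsPrime] :
    IsDomain (Localization.AtPrime P) := by
  have key : ∀ a b : integralClosure R Q, a * b = 0 → ∃ t ∉ P, t * a = 0 ∨ t * b = 0 := by
    intro a b hab
    obtain ⟨s, hs⟩ := hQ a.1
    let e₀ : Q := a.1 * s
    have hee : e₀ * e₀ = e₀ := by rw [show e₀ * e₀ = a.1 * a.1 * s * s by ring, hs]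
    have he : e₀ ∈ integralClosure R Q := by
      refine ⟨Polynomial.X * (Polynomial.X - Polynomial.C 1), Polynomial.monic_X.mul (Polynomial.monic_X_sub_C 1), ?_⟩
      rw [Polynomial.eval₂_mul, Polynomial.eval₂_sub, Polynomial.eval₂_X, Polynomial.eval₂_C, map_one, mul_sub, hee,
        mul_one, sub_self]
    by_cases hP : (⟨e₀, he⟩ : integralClosure R Q) ∈ P
    · refine ⟨1 - ⟨e₀, he⟩, fun h => (inferInstance : P.IsPrime).ne_top
        ((Ideal.eq_top_iff_one _).2 (by simpa using P.add_mem h hP)), Or.inl (Subtype.ext ?_)⟩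
      show (1 - e₀) * a.1 = 0
      rw [sub_mul, one_mul, show e₀ * a.1 = a.1 * a.1 * s by ring, hs, sub_self]
    · refine ⟨⟨e₀, he⟩, hP, Or.inr (Subtype.ext ?_)⟩
      show e₀ * b.1 = 0
      rw [show e₀ * b.1 = s * (a.1 * b.1) by ring, show a.1 * b.1 = 0 from congrArg Subtype.val hab, mul_zero]
  haveI : NoZeroDivisors (Localization.AtPrime P) := by
    refine ⟨fun {u v} huv => ?_⟩
    obtain ⟨⟨a, s⟩, rfl⟩ := IsLocalization.mk'_surjective (S := Localization.AtPrime P) P.primeCompl u
    obtain ⟨⟨b, t⟩, rfl⟩ := IsLocalization.mk'_surjective (S := Localization.AtPrime P) P.primeCompl v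
    rw [← IsLocalization.mk'_mul, IsLocalization.mk'_eq_zero_iff] at huv
    obtain ⟨c, hc⟩ := huv
    obtain ⟨d, hd, hd'⟩ := key ((c : integralClosure R Q) * a) b (by rw [mul_assoc]; exact hc)
    simp only [IsLocalization.mk'_eq_zero_iff]
    rcases hd' with h | h
    · exact Or.inl ⟨⟨d * c, P.primeCompl.mul_mem hd c.2⟩, by rw [mul_assoc]; exact h⟩
    · exact Or.inr ⟨⟨d, hd⟩, h⟩
  exact NoZeroDivisors.to_isDomain (Localization.AtPrime P)

variable {ι : Type u} {K : ι → Type u} [∀ i, Field (K i)]

theorem vnr_away (e : ∀ i, K i) {Q : Type u} [CommRing Q] [Algebra (∀ i, K i) Q] [IsLocalization.Away e Q] (r : Q) :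
    ∃ s, r * r * s = r := by
  obtain ⟨a, m, rfl⟩ := IsLocalization.exists_mk'_eq (Submonoid.powers e) r
  let φ := algebraMap (∀ i, K i) Q
  have h1 : φ ((fun i => (m.1 i)⁻¹) * m.1) = 1 := by
    refine (IsLocalization.map_units Q m).mul_right_cancel ?_
    rw [one_mul, ← map_mul]
    refine congrArg φ (funext fun i => ?_)
    by_cases hi : m.1 i = 0 <;> simp [hi]
  let b : ∀ i, K i := a * fun i => (m.1 i)⁻¹
  have h2 : IsLocalization.mk' Q a m = φ b := by
    rw [IsLocalization.mk'_eq_iff_eq_mul, ← map_mul,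
      show b * m.1 = a * ((fun i => (m.1 i)⁻¹) * m.1) from mul_assoc _ _ _, map_mul, h1, mul_one]
  refine ⟨φ fun i => (b i)⁻¹, ?_⟩
  rw [h2, ← map_mul, ← map_mul]
  refine congrArg φ (funext fun i => ?_)
  by_cases hi : b i = 0 <;> simp [hi]

/-- sections over compact opens are von Neumann regular -/
theorem vnr_sections (W : (Spec (CommRingCat.of (∀ i, K i))).Opens) (hW : IsCompact (W : Set (Spec (CommRingCat.of (∀ i, K i)))))
    (r : Γ(Spec (CommRingCat.of (∀ i, K i)), W)) : ∃ s, r * r * s = r := by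
  obtain ⟨e, he⟩ := EtAICLib.exists_basicOpen_of_isCompact _ hW W.2
  obtain rfl : W = PrimeSpectrum.basicOpen e := Opens.ext he
  exact vnr_away e (Q := ((Spec.structureSheaf (∀ i, K i)).obj.obj (op (PrimeSpectrum.basicOpen e)))) r

variable {X : Scheme.{u}} (e : Spec (CommRingCat.of (∀ i, K i)) ⟶ X) [QuasiCompact e] [QuasiSeparated e]

theorem isDomain_stalk_normalization (y : e.normalization) : IsDomain (e.normalization.presheaf.stalk y) := by
  obtain ⟨U, P, rfl⟩ := e.normalizationOpenCover.exists_eq y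
  letI : Algebra Γ(X, U.1) Γ(Spec (CommRingCat.of (∀ i, K i)), e ⁻¹ᵁ U.1) := (e.app U.1).hom.toAlgebra
  let C := integralClosure Γ(X, U.1) Γ(Spec (CommRingCat.of (∀ i, K i)), e ⁻¹ᵁ U.1)
  let P' : PrimeSpectrum C := P
  haveI : IsDomain (Localization.AtPrime P'.asIdeal) :=
    isDomain_localization_integralClosure (R := Γ(X, U.1)) (Q := Γ(Spec (CommRingCat.of (∀ i, K i)), e ⁻¹ᵁ U.1))
      (vnr_sections _ (e.isCompact_preimage U.2.isCompact)) P'.asIdeal
  let st : (Spec (CommRingCat.of C)).presheaf.stalk P' →+* Localization.AtPrime P'.asIdeal :=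
    (StructureSheaf.stalkIso C P').symm.toRingEquiv.toRingHom
  have hst : Function.Injective st := (StructureSheaf.stalkIso C P').symm.injective
  exact Function.Injective.isDomain (st.comp ((e.normalizationOpenCover.f U).stalkMap P).hom)
    (hst.comp (ConcreteCategory.bijective_of_isIso ((e.normalizationOpenCover.f U).stalkMap P)).1)

/-- two points with generalizations of a common point agree -/
theorem eq_of_specializes {y : e.normalization} {w w' : Spec (CommRingCat.of (∀ i, K i))}
    (h : e.toNormalization w ⤳ y) (h' : e.toNormalization w' ⤳ y) : w = w' := by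
  obtain ⟨U, hU, hyU, -⟩ := exists_isAffineOpen_mem_and_subset (x := e.fromNormalization y) (U := (⊤ : X.Opens)) trivial
  letI := (e.app U).hom.toAlgebra
  let V : e.normalization.Opens := e.fromNormalization ⁻¹ᵁ U
  let E := Spec (CommRingCat.of (∀ i, K i))
  let W : E.Opens := e.toNormalization ⁻¹ᵁ V
  have hinj : Function.Injective (e.toNormalization.app V) := by
    rw [e.toNormalization_app_preimage ⟨U, hU⟩]
    exact (ConcreteCategory.bijective_of_isIso (E.presheaf.map _)).1.comp
      (Subtype.val_injective.comp (ConcreteCategory.bijective_of_isIso (e.normalizationObjIso hU).hom).1)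
  refine eq_of_chi w w' fun S hS => ?_
  have hWU : W = e ⁻¹ᵁ U := by
    show e.toNormalization ⁻¹ᵁ (e.fromNormalization ⁻¹ᵁ U) = e ⁻¹ᵁ U
    rw [← Scheme.Hom.comp_preimage, Scheme.Hom.toNormalization_fromNormalization]
  let c₀ : Γ(E, ⊤) := (Scheme.ΓSpecIso (CommRingCat.of (∀ i, K i))).inv (chi K S)
  let c : Γ(E, W) := E.presheaf.map (homOfLE le_top).op c₀
  have hcc : c * c = c := by
    rw [← map_mul, ← map_mul, chi_mul, Set.inter_self]
  obtain ⟨s, hs⟩ : ∃ s, e.toNormalization.app V s = c := by
    let c' : Γ(E, e ⁻¹ᵁ U) := E.presheaf.map (eqToHom hWU.symm).op c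
    have hc' : c' ∈ integralClosure Γ(X, U) Γ(E, e ⁻¹ᵁ U) := by
      refine ⟨Polynomial.X * (Polynomial.X - Polynomial.C 1), Polynomial.monic_X.mul (Polynomial.monic_X_sub_C 1), ?_⟩
      rw [Polynomial.eval₂_mul, Polynomial.eval₂_sub, Polynomial.eval₂_X, Polynomial.eval₂_C, map_one, mul_sub, mul_one]
      show c' * c' - c' = 0
      rw [← map_mul, hcc, sub_self]
    refine ⟨(e.normalizationObjIso hU).inv ⟨c', hc'⟩, ?_⟩
    rw [e.toNormalization_app_preimage ⟨U, hU⟩]
    show E.presheaf.map _ (Subtype.val ((e.normalizationObjIso hU).hom ((e.normalizationObjIso hU).inv ⟨c', hc'⟩))) = c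
    rw [← ConcreteCategory.comp_apply, Iso.inv_hom_id]
    show E.presheaf.map _ (E.presheaf.map (eqToHom hWU.symm).op c) = c
    rw [← ConcreteCategory.comp_apply, ← Functor.map_comp]
    exact ConcreteCategory.congr_hom (E.presheaf.map_id (op W)) c
  have hss : s * (1 - s) = 0 := hinj (by rw [map_mul, map_sub, map_one, hs, map_zero, mul_sub, mul_one, hcc, sub_self])
  have hyV : y ∈ V := hyU
  have hmem : ∀ z : E, e.toNormalization z ⤳ y → (chi K S ∉ (z : PrimeSpectrum (∀ i, K i)).asIdeal ↔
      y ∈ e.normalization.basicOpen s) := by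
    intro z hz
    have hzW : z ∈ W := hz.mem_open V.2 hyV
    have h1 : e.toNormalization z ∈ e.normalization.basicOpen s ↔ chi K S ∉ (z : PrimeSpectrum (∀ i, K i)).asIdeal := by
      show z ∈ e.toNormalization ⁻¹ᵁ e.normalization.basicOpen s ↔ _
      rw [Scheme.preimage_basicOpen, hs, Scheme.basicOpen_res]
      show z ∈ W ⊓ E.basicOpen c₀ ↔ _
      rw [show E.basicOpen c₀ = PrimeSpectrum.basicOpen (chi K S) from basicOpen_eq_of_affine (R := CommRingCat.of (∀ i, K i)) (chi K S)]
      exact ⟨fun h => h.2, fun h => ⟨hzW, h⟩⟩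
    rw [← h1]
    refine ⟨fun hzs => ?_, fun hys => hz.mem_open (e.normalization.basicOpen s).2 hys⟩
    by_contra hys
    have hu : IsUnit (e.normalization.presheaf.germ V y hyV (1 - s)) := by
      have hns : ¬ IsUnit (e.normalization.presheaf.germ V y hyV s) := fun h => hys ((Scheme.mem_basicOpen _ _ _ hyV).2 h)
      have hsum : IsUnit (e.normalization.presheaf.germ V y hyV s + e.normalization.presheaf.germ V y hyV (1 - s)) := by
        rw [← map_add, add_sub_cancel, map_one]; exact isUnit_one
      exact (IsLocalRing.isUnit_or_isUnit_of_isUnit_add hsum).resolve_left hns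
    have h2 : e.toNormalization z ∈ e.normalization.basicOpen s ⊓ e.normalization.basicOpen (1 - s) :=
      ⟨hzs, hz.mem_open (e.normalization.basicOpen (1 - s)).2 ((Scheme.mem_basicOpen _ _ _ hyV).2 hu)⟩
    rw [← Scheme.basicOpen_mul, hss, Scheme.basicOpen_zero] at h2
    exact h2
  by_contra hS'
  exact ((hmem w h).2 ((hmem w' h').1 hS')) hS

/-- the constant sheaf of the normalization comes from the product of fields -/
theorem connectedNear_toNormalization [∀ i, IsAlgClosed (K i)] : EtTorLib.ConnectedNear e.toNormalization := by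
  intro V v
  let η := e.toNormalization
  let y := V.hom v
  haveI : Etale V.hom := V.prop
  haveI := isDomain_stalk_normalization e y
  have hy := isStrictlyHenselian_of_isAIC _ (EtAICLib.aics_normalization_of_pi e y)
  let R : Type u := (e.normalization.presheaf.stalk y : Type u)
  haveI : HenselianLocalRing R := hy.1
  haveI : IsSepClosed (IsLocalRing.ResidueField R) := hy.2
  let a : Spec (CommRingCat.of R) ⟶ e.normalization := e.normalization.fromSpecStalk y
  obtain ⟨w, hw₁, hw₂⟩ := Scheme.Pullback.exists_preimage_pullback (f := V.hom) (g := a) v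
    (IsLocalRing.closedPoint R) e.normalization.fromSpecStalk_closedPoint.symm
  let VB := (EtCoh.bc a).obj V
  let g₀ : VB ⟶ EtCoh.top (Spec (CommRingCat.of R)) := (EtCore.topIsTerminal _).from VB
  obtain ⟨v', -, hv'⟩ := EtFound.exists_lift_point g₀ (EtFound.cptTop R) w (by
    have hl : g₀.left ≫ 𝟙 _ = VB.hom := MorphismProperty.Over.w g₀
    rw [Category.comp_id] at hl
    rw [hl]
    exact hw₂.trans (EtFound.cpt_base R default).symm)
  obtain ⟨g, hg, -⟩ := EtFound.existsUnique_hom R VB v'
  haveI := EtFound.etale_left g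
  let σ : Spec (CommRingCat.of R) ⟶ V.left := g.left ≫ pullback.fst V.hom a
  have hσ : σ ≫ V.hom = a := by
    show (g.left ≫ pullback.fst V.hom a) ≫ V.hom = a
    rw [Category.assoc, pullback.condition, ← Category.assoc]
    refine (eq_whisker (MorphismProperty.Over.w g) a).trans ?_
    exact Category.id_comp a
  haveI : IsPreimmersion a := inferInstanceAs (IsPreimmersion (e.normalization.fromSpecStalk y))
  haveI : IsPreimmersion (pullback.fst V.hom a) := MorphismProperty.pullback_fst _ _ inferInstance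
  have hσv : ∀ z, z ⤳ v → z ∈ Set.range σ.base := by
    intro z hz
    obtain ⟨z', rfl⟩ : z ∈ Set.range (pullback.fst V.hom a).base := by
      rw [show Set.range (pullback.fst V.hom a).base = _ from Scheme.Pullback.range_fst _ _]
      show V.hom z ∈ Set.range (e.normalization.fromSpecStalk y).base
      rw [Scheme.range_fromSpecStalk]
      exact hz.map V.hom.continuous
    have hw : w ∈ Set.range g.left.base :=
      ⟨(EtFound.cpt R).base default, by rw [← hv', ← hg]; rfl⟩
    have hz' : z' ⤳ w := (pullback.fst V.hom a).isEmbedding.isInducing.specializes_iff.1 (hw₁ ▸ hz)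
    obtain ⟨t, ht⟩ := hz'.mem_open g.left.isOpenMap.isOpen_range hw
    exact ⟨t, by rw [← ht]; exact Scheme.Hom.comp_apply _ _ _⟩
  let ρ := pullback.fst V.hom η
  have uniq : ∀ w w' : ↥(pullback V.hom η), ρ w ⤳ v → ρ w' ⤳ v → w = w' := by
    intro w w' hw hw'
    let m : pullback a η ⟶ pullback V.hom η :=
      pullback.map _ _ _ _ σ (𝟙 _) (𝟙 _) (by rw [Category.comp_id, hσ]) (by simp)
    have hm : Set.range m.base = ρ.base ⁻¹' Set.range σ.base := by
      ext x
      refine ⟨?_, fun hx => ?_⟩
      · rintro ⟨x, rfl⟩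
        refine ⟨pullback.fst a η x, ?_⟩
        rw [← Scheme.Hom.comp_apply, ← Scheme.Hom.comp_apply]
        simp [m, ρ]
      · show x ∈ Set.range (pullback.map _ _ _ _ σ (𝟙 _) (𝟙 _) _ _).base
        erw [Scheme.Pullback.range_map]
        exact ⟨hx, ⟨_, rfl⟩⟩
    obtain ⟨x, rfl⟩ : w ∈ Set.range m.base := hm.ge (hσv _ hw)
    obtain ⟨x', rfl⟩ : w' ∈ Set.range m.base := hm.ge (hσv _ hw')
    haveI : IsPreimmersion (pullback.snd a η) := MorphismProperty.pullback_snd _ _ inferInstance
    have hsnd : ∀ z, pullback.snd V.hom η (m z) = pullback.snd a η z := fun z => by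
      rw [← Scheme.Hom.comp_apply]; simp [m]
    have hgen : ∀ z, ρ z ⤳ v → η (pullback.snd V.hom η z) ⤳ y := fun z hz => by
      rw [← Scheme.Hom.comp_apply, ← pullback.condition, Scheme.Hom.comp_apply]
      exact hz.map V.hom.continuous
    rw [(pullback.snd a η).isEmbedding.injective
      ((hsnd x).symm.trans ((eq_of_specializes e (hgen _ hw) (hgen _ hw')).trans (hsnd x')))]
  obtain ⟨p, hp⟩ := FDescent.exists_specializes_of_mem_closure_range η (η.denseRange y)
  obtain ⟨z, hz, hzp⟩ := Flat.generalizingMap V.hom hp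
  obtain ⟨w₀, hw₀, -⟩ := Scheme.Pullback.exists_preimage_pullback (f := V.hom) (g := η) z p hzp
  have hw₀v : ρ w₀ ⤳ v := by rw [show ρ w₀ = z from hw₀]; exact hz
  refine ⟨w₀, hw₀v, fun S hS hwS => ?_⟩
  let O : (pullback V.hom η).Opens := ⟨Sᶜ, hS.1.isOpen_compl⟩
  haveI : IsClosedImmersion O.ι := IsClosedImmersion.of_isPreimmersion _ (by
    rw [Scheme.Opens.range_ι]; exact hS.2.isClosed_compl)
  haveI : QuasiCompact ρ := MorphismProperty.pullback_fst _ _ inferInstance
  refine ⟨⟨(closure (Set.range (O.ι ≫ ρ).base))ᶜ, isClosed_closure.isOpen_compl⟩, fun hv => ?_, fun x hx => ?_⟩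
  · obtain ⟨s, hs⟩ := FDescent.exists_specializes_of_mem_closure_range (O.ι ≫ ρ) hv
    rw [Scheme.Hom.comp_apply] at hs
    have e' := uniq _ _ hw₀v hs
    rw [e'] at hwS
    exact s.2 hwS
  · by_contra hxS
    exact hx (subset_closure ⟨⟨x, hxS⟩, Scheme.Hom.comp_apply _ _ _⟩)

end Groth.Agent.EtPBCq
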