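import Groth.Agent.EtPBCq.Efface
import Groth.Agent.EtPBCq.ClosedPoints
import Groth.Agent.EtStrictBC.Main
import Groth.Agent.EtPBC0.AcycComp
import Groth.Agent.EtPBC0.StrictBC
import Groth.Agent.EtAcycBC.LocConst
import Groth.Agent.GalTorLib.CohDim
import Groth.Agent.Hensel.Local
import Mathlib.FieldTheory.PurelyInseparable.Basic
import Mathlib.AlgebraicGeometry.Morphisms.UniversallyInjective

/-!
# Proper base change along residue fields of strict localizations of affine schemes over a field
-/

set_option autoImplicit false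
set_option linter.style.haveILetI false
set_option backward.isDefEq.respectTransparency false
set_option backward.isDefEq.respectTransparency.types false
set_option maxHeartbeats 2000000

universe u

open CategoryTheory CategoryTheory.Limits AlgebraicGeometry Opposite TopologicalSpace HomologicalComplex

namespace Groth.Agent.EtPBCq

theorem bijective_Hpull_comp {A B C : Scheme.{u}} (a : A ⟶ B) (b : B ⟶ C) (c : A ⟶ C) (w : a ≫ b = c)
    [PreservesFiniteLimits (EtCoh.pull a)] [PreservesFiniteLimits (EtCoh.pull b)]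
    [PreservesFiniteLimits (EtCoh.pull c)] {F : EtCoh.Ab C} {q : ℕ}
    (ha : Function.Bijective (EtCore.Hpull a ((EtCoh.pull b).obj F) q))
    (hb : Function.Bijective (EtCore.Hpull b F q)) : Function.Bijective (EtCore.Hpull c F q) :=
  (EtPBC0.AcycComp.Hpull_comp_iff a b c w F q).1.2 (ha.comp hb)

theorem bijective_Hpull_right {A B C : Scheme.{u}} (a : A ⟶ B) (b : B ⟶ C) (c : A ⟶ C) (w : a ≫ b = c)
    [PreservesFiniteLimits (EtCoh.pull a)] [PreservesFiniteLimits (EtCoh.pull b)]
    [PreservesFiniteLimits (EtCoh.pull c)] {F : EtCoh.Ab C} {q : ℕ}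
    (ha : Function.Bijective (EtCore.Hpull a ((EtCoh.pull b).obj F) q))
    (hc : Function.Bijective (EtCore.Hpull c F q)) : Function.Bijective (EtCore.Hpull b F q) :=
  (Function.Bijective.of_comp_iff' ha _).1 ((EtPBC0.AcycComp.Hpull_comp_iff a b c w F q).1.1 hc)

theorem bijective_Hpull_of_HpullVia {A B C : Scheme.{u}} (a : A ⟶ B) (b : B ⟶ C) (c : A ⟶ C) (w : a ≫ b = c)
    [PreservesFiniteLimits (EtCoh.pull a)] {F : EtCoh.Ab C} {q : ℕ}
    (h : Function.Bijective (EtCore.HpullVia a b c w F q)) :
    Function.Bijective (EtCore.Hpull a ((EtCoh.pull b).obj F) q) :=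
  (Function.Bijective.of_comp_iff' (ConcreteCategory.bijective_of_isIso
    ((EtCoh.HF A q).map (((EtCore.pullComp a b).symm ≪≫ EtCore.pullCongr w).app F).hom)) _).1 h

theorem bijective_Hpull_left {A B C : Scheme.{u}} (a : A ⟶ B) (b : B ⟶ C) (c : A ⟶ C) (w : a ≫ b = c)
    [PreservesFiniteLimits (EtCoh.pull a)] [PreservesFiniteLimits (EtCoh.pull b)]
    [PreservesFiniteLimits (EtCoh.pull c)] {F : EtCoh.Ab C} {q : ℕ}
    (hb : Function.Bijective (EtCore.Hpull b F q))
    (hc : Function.Bijective (EtCore.Hpull c F q)) :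
    Function.Bijective (EtCore.Hpull a ((EtCoh.pull b).obj F) q) :=
  (Function.Bijective.of_comp_iff _ hb).1 ((EtPBC0.AcycComp.Hpull_comp_iff a b c w F q).1.1 hc)

/-- Proper over a henselian local ring: restriction to the closed fibre is bijective. -/
theorem bijective_Hpull_residue (R : Type u) [CommRing R] [HenselianLocalRing R] {P : Scheme.{u}}
    (b : P ⟶ Spec (CommRingCat.of R)) [IsProper b] {P₀ : Scheme.{u}} (i : P₀ ⟶ P)
    (b₀ : P₀ ⟶ Spec (CommRingCat.of (IsLocalRing.ResidueField R)))
    (c : IsPullback i b₀ b (Spec.map (CommRingCat.ofHom (IsLocalRing.residue R))))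
    [PreservesFiniteLimits (EtCoh.pull i)] (F : EtCoh.Ab P) (hF : EtCoh.IsTorsion F) (q : ℕ) :
    Function.Bijective (EtCore.Hpull i F q) := by
  haveI : HenselianRing R (IsLocalRing.maximalIdeal R) := (Hensel.henselianRing_maximalIdeal_iff R).mpr inferInstance
  let j := EtH1Lib.closedIncl (IsLocalRing.maximalIdeal R) b
  haveI := EtFound.pull_preservesFiniteLimits j
  have h1 := bijective_Hpull_closed (IsLocalRing.maximalIdeal R) b F hF q
  let e : P₀ ≅ pullback b (Spec.map (CommRingCat.ofHom (Ideal.Quotient.mk (IsLocalRing.maximalIdeal R)))) :=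
    c.isoPullback
  haveI := EtFound.pull_preservesFiniteLimits e.hom
  exact bijective_Hpull_comp e.hom j i c.isoPullback_hom_fst
    (EtPBC0.AcycComp.bijective_Hpull_of_isIso e.hom _ q) h1

/-- Pullback of torsion coefficients along base changes of `σ` is bijective on cohomology. -/
def BCInv {Y S T : Scheme.{u}} (a : Y ⟶ S) (σ : T ⟶ S) : Prop :=
  ∀ (P : Scheme.{u}) (p : P ⟶ Y) (b : P ⟶ T), IsPullback p b a σ → ∀ [PreservesFiniteLimits (EtCoh.pull p)]
    (F : EtCoh.Ab Y), EtCoh.IsTorsion F → ∀ q : ℕ, Function.Bijective (EtCore.Hpull p F q)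

theorem bcInv_of_universalHomeo {Y S T : Scheme.{u}} (a : Y ⟶ S) (σ : T ⟶ S) [IsIntegralHom σ]
    [UniversallyInjective σ] [Surjective σ] : BCInv a σ := fun P p b c _ F _ q => by
  haveI : IsIntegralHom p := MorphismProperty.of_isPullback c.flip ‹IsIntegralHom σ›
  haveI : UniversallyInjective p := MorphismProperty.of_isPullback c.flip ‹UniversallyInjective σ›
  haveI : Surjective p := MorphismProperty.of_isPullback c.flip ‹Surjective σ›
  exact Groth.Agent.S0642.result p F q

theorem universallyInjective_spec {k K : Type u} [Field k] [Field K] (j : k →+* K) [IsSepClosed k]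
    (hj : j.IsIntegral) : UniversallyInjective (Spec.map (CommRingCat.ofHom j)) := by
  letI := j.toAlgebra
  haveI : Algebra.IsIntegral k K := ⟨hj⟩
  haveI : Algebra.IsAlgebraic k K := inferInstance
  refine ((tfae_universallyInjective _).out 0 1).2 fun L hL g₁ g₂ hg => ?_
  letI := hL
  obtain ⟨u₁, rfl⟩ := Spec.map_surjective g₁
  obtain ⟨u₂, rfl⟩ := Spec.map_surjective g₂
  have hg' : CommRingCat.ofHom j ≫ u₁ = CommRingCat.ofHom j ≫ u₂ :=
    Spec.map_injective (by rw [Spec.map_comp, Spec.map_comp]; exact hg)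
  congr 1
  ext1
  exact IsPurelyInseparable.injective_comp_algebraMap k K L congr($(hg').hom)

theorem bcInv_of_isIntegralHom {k K : Type u} [Field k] [IsSepClosed k] [Field K] {Y : Scheme.{u}}
    (a : Y ⟶ Spec (CommRingCat.of k)) (σ : Spec (CommRingCat.of K) ⟶ Spec (CommRingCat.of k)) [IsIntegralHom σ] :
    BCInv a σ := by
  obtain ⟨j, rfl⟩ := Spec.map_surjective σ
  haveI : UniversallyInjective (Spec.map j) := universallyInjective_spec j.hom (IsIntegralHom.SpecMap_iff.1 ‹_›)
  haveI : Surjective (Spec.map j) := ⟨fun x => ⟨default, Subsingleton.elim _ _⟩⟩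
  exact bcInv_of_universalHomeo a _

section Strict

variable {Y S : Scheme.{u}} (a : Y ⟶ S) [IsProper a] (R : Type u) [CommRing R] [HenselianLocalRing R]
  (σ : Spec (CommRingCat.of R) ⟶ S)

theorem bcInv_of_closed (h : BCInv a (Spec.map (CommRingCat.ofHom (IsLocalRing.residue R)) ≫ σ)) : BCInv a σ := by
  intro P p b c _ F hF q
  haveI : IsProper b := MorphismProperty.of_isPullback c ‹IsProper a›
  let cpt := Spec.map (CommRingCat.ofHom (IsLocalRing.residue R))
  let i := pullback.fst b cpt
  haveI := EtFound.pull_preservesFiniteLimits i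
  haveI := EtFound.pull_preservesFiniteLimits (i ≫ p)
  exact bijective_Hpull_right i p (i ≫ p) rfl
    (bijective_Hpull_residue R b i _ (IsPullback.of_hasPullback b cpt) _ (GalTorLib.isTorsion_pull p F hF) q)
    (h _ (i ≫ p) (pullback.snd b cpt) ((IsPullback.of_hasPullback b cpt).paste_horiz c) F hF q)

theorem bcInv_closed_of (h : BCInv a σ) : BCInv a (Spec.map (CommRingCat.ofHom (IsLocalRing.residue R)) ≫ σ) := by
  intro P₀ p₀ b₀ c₀ _ F hF q
  let cpt := Spec.map (CommRingCat.ofHom (IsLocalRing.residue R))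
  have c := IsPullback.of_hasPullback a σ
  let p := pullback.fst a σ
  let b := pullback.snd a σ
  haveI : IsProper b := MorphismProperty.of_isPullback c ‹IsProper a›
  have w : p₀ ≫ a = (b₀ ≫ cpt) ≫ σ := c₀.w.trans (Category.assoc _ _ _).symm
  let i : P₀ ⟶ pullback a σ := c.lift p₀ (b₀ ≫ cpt) w
  have hi : IsPullback i b₀ b cpt :=
    IsPullback.of_right (by rw [c.lift_fst]; exact c₀) (c.lift_snd _ _ _) c
  haveI := EtFound.pull_preservesFiniteLimits i
  haveI := EtFound.pull_preservesFiniteLimits p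
  exact bijective_Hpull_comp i p p₀ (c.lift_fst _ _ _)
    (bijective_Hpull_residue R b i b₀ hi _ (GalTorLib.isTorsion_pull p F hF) q) (h _ p b c F hF q)

end Strict

theorem isIntegralHom_geomPt {X : Scheme.{u}} (x : X) (R : Type u) [CommRing R] [IsLocalRing R]
    [Algebra (X.presheaf.stalk x) R] [IsLocalHom (algebraMap (X.presheaf.stalk x) R)]
    [Hensel.IsStrictHenselization (X.presheaf.stalk x) R] :
    ∃ τ : X.residueField x ⟶ CommRingCat.of (IsLocalRing.ResidueField R),
      IsIntegralHom (Spec.map τ) ∧ Spec.map τ ≫ X.fromSpecResidueField x = Hens2.geomPt X x R := by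
  let A := X.presheaf.stalk x
  refine ⟨CommRingCat.ofHom (IsLocalRing.ResidueField.map (algebraMap A R)), ?_, ?_⟩
  · haveI := (Hensel.IsStrictHenselization.isSepClosure (R := A) (S := R)).separable
    rw [IsIntegralHom.SpecMap_iff]
    exact fun z => (Algebra.IsIntegral.isIntegral (R := IsLocalRing.ResidueField A) z : _)
  · rw [Scheme.fromSpecResidueField]
    simp only [Hens2.geomPt, Hens2.specOf, ← Category.assoc, ← Spec.map_comp]
    exact congrArg (fun q => Spec.map q ≫ X.fromSpecStalk x) (CommRingCat.hom_ext (RingHom.ext fun _ => rfl))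

section FiniteType

variable {k : Type u} [Field k] [IsSepClosed k] {Y T : Scheme.{u}} (a : Y ⟶ Spec (CommRingCat.of k)) [IsProper a]
  (f : T ⟶ Spec (CommRingCat.of k)) [LocallyOfFiniteType f]

theorem bcInv_geomPt_closed (x : T) (hx : IsClosed ({x} : Set T)) (R : Type u) [CommRing R] [IsLocalRing R]
    [Algebra (T.presheaf.stalk x) R] [IsLocalHom (algebraMap (T.presheaf.stalk x) R)]
    [Hensel.IsStrictHenselization (T.presheaf.stalk x) R] : BCInv a (Hens2.geomPt T x R ≫ f) := by
  obtain ⟨τ, hτ, hg⟩ := isIntegralHom_geomPt x R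
  haveI : JacobsonSpace T := LocallyOfFiniteType.jacobsonSpace f
  haveI := isClosed_singleton_iff_locallyOfFiniteType.1 hx
  haveI : IsFinite (T.fromSpecResidueField x ≫ f) := isFinite_iff_locallyOfFiniteType_of_jacobsonSpace.2 inferInstance
  haveI : IsIntegralHom (Hens2.geomPt T x R ≫ f) := by rw [← hg, Category.assoc]; infer_instance
  exact bcInv_of_isIntegralHom a _

/-- Base change along a scheme of finite type over a separably closed field commutes with proper direct images. -/
theorem isIso_bcQ_finiteType {Z : Scheme.{u}} (e : Z ⟶ Y) (h : Z ⟶ T) (c : IsPullback e h a f)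
    [PreservesFiniteLimits (EtCoh.pull e)] (F : EtCoh.Ab Y) (hF : EtCoh.IsTorsion F) (q : ℕ) :
    IsIso (EtBC.bcQ a f h e c.w q F) := by
  haveI : JacobsonSpace T := LocallyOfFiniteType.jacobsonSpace f
  haveI := EtFound.pull_preservesFiniteLimits f
  let I := injectiveResolution F
  let J := injectiveResolution ((EtCoh.pull e).obj F)
  obtain ⟨χ₀, hχ₀⟩ := EtBCQ.exists_psi e I J
  rw [EtBCQ.isIso_bcQ_iff a f h e c.w I J χ₀ hχ₀ q, quasiIsoAt_iff_isIso_homologyMap]
  refine isIso_of_gsec_strict_closed _ fun x hx => ?_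
  let RX := Hensel.StrictHenz (T.presheaf.stalk x)
  let RS := Hensel.StrictHenz ((Spec (CommRingCat.of k)).presheaf.stalk (f.base x))
  haveI : IsSepClosed (IsLocalRing.ResidueField RX) :=
    (Hensel.isSepClosure_residueField_strictHenz (T.presheaf.stalk x)).sep_closed
  obtain ⟨ψ, hloc, hψ⟩ := EtPBC0.exists_strictHenz_hom (f.stalkMap x).hom RS RX
  haveI := hloc
  let sX := Hens2.specOf T x RX
  let sS := Hens2.specOf (Spec (CommRingCat.of k)) (f.base x) RS
  have w₀ : pullback.fst a (sX ≫ f) ≫ a = (pullback.snd a (sX ≫ f) ≫ Spec.map (CommRingCat.ofHom ψ)) ≫ sS :=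
    pullback.condition.trans ((whisker_eq _ (EtPBC0.specOf_comp f x RS RX ψ hψ)).trans (Category.assoc _ _ _).symm)
  let m : pullback a (sX ≫ f) ⟶ pullback a sS :=
    pullback.lift (pullback.fst a (sX ≫ f)) (pullback.snd a (sX ≫ f) ≫ Spec.map (CommRingCat.ofHom ψ)) w₀
  have w : m ≫ pullback.fst a sS = pullback.fst a (sX ≫ f) := pullback.lift_fst _ _ _
  have hm : m ≫ pullback.snd a sS = pullback.snd a (sX ≫ f) ≫ Spec.map (CommRingCat.ofHom ψ) :=
    pullback.lift_snd _ _ _
  haveI := EtFound.pull_preservesFiniteLimits m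
  haveI := EtFound.pull_preservesFiniteLimits (pullback.fst a sS)
  haveI := EtFound.pull_preservesFiniteLimits (pullback.fst a (sX ≫ f))
  haveI : HenselianLocalRing RX := inferInstance
  haveI : HenselianLocalRing RS := inferInstance
  have hX : BCInv a (sX ≫ f) := bcInv_of_closed a RX _ (by
    rw [← Category.assoc]; exact bcInv_geomPt_closed a f x hx RX)
  have hcl : IsClosed ({f.base x} : Set ↥(Spec (CommRingCat.of k))) := isClosed_discrete _
  have hS : BCInv a sS := bcInv_of_closed a RS _ (by
    simpa using bcInv_geomPt_closed a (𝟙 _) (f.base x) hcl RS)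
  exact (EtStrictBC.bijective_HpullVia_iff f a h e c I J χ₀ hχ₀ x RS RX ψ hψ _ _ (IsPullback.of_hasPullback a sS)
    _ _ (IsPullback.of_hasPullback a (sX ≫ f)) m w hm q).1
    (EtAcycBC.bijective_HpullVia_of_Hpull m _ _ w F q (bijective_Hpull_left m _ _ w
      (hS _ _ _ (IsPullback.of_hasPullback a sS) F hF q) (hX _ _ _ (IsPullback.of_hasPullback a (sX ≫ f)) F hF q)))

/-- Residue fields of strict localizations at all points give bijective pullbacks. -/
theorem bcInv_geomPt (x : T) (RX : Type u) [CommRing RX] [IsLocalRing RX]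
    [Algebra (T.presheaf.stalk x) RX] [IsLocalHom (algebraMap (T.presheaf.stalk x) RX)]
    [Hensel.IsStrictHenselization (T.presheaf.stalk x) RX] : BCInv a (Hens2.geomPt T x RX ≫ f) := by
  haveI : HenselianLocalRing RX := Hensel.IsStrictHenselization.henselian (R := T.presheaf.stalk x)
  haveI : IsSepClosed (IsLocalRing.ResidueField RX) :=
    (Hensel.IsStrictHenselization.isSepClosure (R := T.presheaf.stalk x) (S := RX)).sep_closed
  rw [Category.assoc]
  refine bcInv_closed_of a RX _ fun P p b cX _ F hF q => ?_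
  let RS := Hensel.StrictHenz ((Spec (CommRingCat.of k)).presheaf.stalk (f.base x))
  obtain ⟨ψ, hloc, hψ⟩ := EtPBC0.exists_strictHenz_hom (f.stalkMap x).hom RS RX
  haveI := hloc
  let sS := Hens2.specOf (Spec (CommRingCat.of k)) (f.base x) RS
  have cS := IsPullback.of_hasPullback a sS
  let m : P ⟶ pullback a sS := cS.lift p (b ≫ Spec.map (CommRingCat.ofHom ψ))
    (cX.w.trans ((whisker_eq _ (EtPBC0.specOf_comp f x RS RX ψ hψ)).trans (Category.assoc _ _ _).symm))
  haveI := EtFound.pull_preservesFiniteLimits m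
  haveI := EtFound.pull_preservesFiniteLimits (pullback.fst a sS)
  haveI := EtFound.pull_preservesFiniteLimits (pullback.fst a f)
  haveI : HenselianLocalRing RS := inferInstance
  have hcl : IsClosed ({f.base x} : Set ↥(Spec (CommRingCat.of k))) := isClosed_discrete _
  have hS : BCInv a sS := bcInv_of_closed a RS _ (by
    simpa using bcInv_geomPt_closed a (𝟙 _) (f.base x) hcl RS)
  have hvia : Function.Bijective (EtCore.HpullVia m (pullback.fst a sS) p (cS.lift_fst _ _ _) F q) :=
    (EtStrictBC.isIso_bcQ_iff_strict f a (pullback.snd a f) (pullback.fst a f) (IsPullback.of_hasPullback a f) F q).2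
      (isIso_bcQ_finiteType a f _ _ (IsPullback.of_hasPullback a f) F hF q) x RS RX ψ hψ _ _ _ _ cS p b cX m
      (cS.lift_fst _ _ _) (cS.lift_snd _ _ _)
  exact bijective_Hpull_comp m _ p (cS.lift_fst _ _ _)
    (bijective_Hpull_of_HpullVia m _ p (cS.lift_fst _ _ _) hvia)
    (hS _ _ _ cS F hF q)

end FiniteType

end Groth.Agent.EtPBCq
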