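import Groth.Agent.EtAICLib.Normalization
import Groth.Agent.AICCover.Ring
import Groth.Agent.EtAcycBC.LocConst
import Groth.Agent.EtFound.PullConst
import Mathlib.AlgebraicGeometry.Morphisms.QuasiFinite
import Mathlib.RingTheory.Unramified.Finite

/-!
# Spectra of products of algebraically closed fields
-/

set_option autoImplicit false
set_option linter.style.haveILetI false
set_option backward.isDefEq.respectTransparency false
set_option backward.isDefEq.respectTransparency.types false
set_option maxHeartbeats 1000000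

universe u

open CategoryTheory CategoryTheory.Limits AlgebraicGeometry Opposite TopologicalSpace

namespace Groth.Agent.EtPBCq

variable {ι : Type u} (K : ι → Type u) [∀ i, Field (K i)]

open scoped Classical in
/-- the idempotent of a subset of the indices -/
noncomputable def chi (S : Set ι) : ∀ i, K i := fun i => if i ∈ S then 1 else 0

variable {K}

theorem chi_mul (S T : Set ι) : chi K S * chi K T = chi K (S ∩ T) := by
  funext i; simp only [chi, Pi.mul_apply, Set.mem_inter_iff]; split_ifs <;> simp_all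

theorem chi_add_compl (S : Set ι) : chi K S + chi K Sᶜ = 1 := by
  funext i; simp only [chi, Pi.add_apply, Pi.one_apply, Set.mem_compl_iff]; split_ifs <;> simp_all

theorem chi_univ : chi K (Set.univ : Set ι) = 1 := by
  funext i; simp [chi]

theorem chi_empty : chi K (∅ : Set ι) = 0 := by
  funext i; simp [chi]

theorem chi_mem_iff_compl (S : Set ι) (p : PrimeSpectrum (∀ i, K i)) :
    chi K Sᶜ ∈ p.asIdeal ↔ chi K S ∉ p.asIdeal := by
  refine ⟨fun h h' => p.2.ne_top ((Ideal.eq_top_iff_one _).2 ?_), fun h => ?_⟩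
  · have := p.asIdeal.add_mem h' h
    rwa [chi_add_compl] at this
  · exact (p.2.mem_or_mem (show chi K S * chi K Sᶜ ∈ p.asIdeal by
      rw [chi_mul, Set.inter_compl_self, chi_empty]; exact p.asIdeal.zero_mem)).resolve_left h

theorem mem_iff_chi_support (r : ∀ i, K i) (I : Ideal (∀ i, K i)) :
    r ∈ I ↔ chi K {i | r i ≠ 0} ∈ I := by
  refine ⟨fun h => ?_, fun h => ?_⟩
  · convert I.mul_mem_left (fun i => (r i)⁻¹) h using 1
    funext i
    by_cases hi : r i = 0 <;> simp [chi, hi]
  · convert I.mul_mem_left r h using 1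
    funext i
    by_cases hi : r i = 0 <;> simp [chi, hi]

theorem eq_of_chi (p q : PrimeSpectrum (∀ i, K i)) (h : ∀ S : Set ι, chi K S ∈ p.asIdeal → chi K S ∈ q.asIdeal) :
    p = q := by
  refine PrimeSpectrum.ext (le_antisymm (fun r hr => ?_) fun r hr => ?_)
  · exact (mem_iff_chi_support r _).2 (h _ ((mem_iff_chi_support r _).1 hr))
  · by_contra hr'
    have h1 := (chi_mem_iff_compl {i | r i ≠ 0} p).2 fun h' => hr' ((mem_iff_chi_support r _).2 h')
    exact (chi_mem_iff_compl _ q).1 (h _ h1) ((mem_iff_chi_support r _).1 hr)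

theorem chi_notMem_iff_inter (S T : Set ι) (p : PrimeSpectrum (∀ i, K i)) :
    chi K (S ∩ T) ∉ p.asIdeal ↔ chi K S ∉ p.asIdeal ∧ chi K T ∉ p.asIdeal := by
  rw [← chi_mul]
  exact ⟨fun h => ⟨fun h' => h (p.asIdeal.mul_mem_right _ h'), fun h' => h (p.asIdeal.mul_mem_left _ h')⟩,
    fun h h' => (p.2.mem_or_mem h').elim h.1 h.2⟩

variable (K) in
/-- the projection to the product over a subset -/
def proj (S : Set ι) : (∀ i, K i) →+* ∀ i : S, K i.1 := Pi.ringHom fun i => Pi.evalRingHom K i.1

/-- the clopen piece of a subset -/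
noncomputable def piece (S : Set ι) : Spec (CommRingCat.of (∀ i : S, K i.1)) ⟶ Spec (CommRingCat.of (∀ i, K i)) :=
  Spec.map (CommRingCat.ofHom (proj K S))

theorem proj_surjective (S : Set ι) : Function.Surjective (proj K S) := fun y => by
  classical
  exact ⟨fun i => if h : i ∈ S then y ⟨i, h⟩ else 0, funext fun i => dif_pos i.2⟩

theorem mem_range_piece (S : Set ι) (p : PrimeSpectrum (∀ i, K i)) :
    p ∈ Set.range (piece (K := K) S).base ↔ chi K S ∉ p.asIdeal := by
  show p ∈ Set.range (PrimeSpectrum.comap (proj K S)) ↔ _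
  rw [range_comap_of_surjective _ _ (proj_surjective S), ← chi_mem_iff_compl]
  refine ⟨fun h => h (funext fun i => ?_), fun h r hr => ?_⟩
  · show chi K Sᶜ i.1 = 0
    simp [chi, i.2]
  · have : r = r * chi K Sᶜ := funext fun i => by
      by_cases hi : i ∈ S
      · have := congrFun hr (⟨i, hi⟩ : S)
        simp only [proj] at this
        simp [chi, hi]
        exact this
      · simp [chi, hi]
    rw [this]
    exact p.asIdeal.mul_mem_left _ h

variable [∀ i, IsAlgClosed (K i)]

/-- residue rings at the primes are absolutely integrally closed domains -/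
theorem isAIC_localization_prime (p : PrimeSpectrum (∀ i, K i)) :
    IsDomain (Localization.AtPrime p.asIdeal) ∧ Curves.IsAIC (Localization.AtPrime p.asIdeal) := by
  refine ⟨?_, EtAICLib.isAIC_localization p.asIdeal.primeCompl (EtAICLib.isAIC_pi fun _ => EtAICLib.isAIC_of_isAlgClosed)⟩
  haveI : NoZeroDivisors (Localization.AtPrime p.asIdeal) := by
    refine ⟨fun {a b} hab => ?_⟩
    obtain ⟨⟨r, s⟩, rfl⟩ := IsLocalization.mk'_surjective (S := Localization.AtPrime p.asIdeal) p.asIdeal.primeCompl a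
    by_cases hr : r ∈ p.asIdeal
    · left
      rw [IsLocalization.mk'_eq_zero_iff]
      refine ⟨⟨chi K {i | r i ≠ 0}ᶜ, (chi_mem_iff_compl _ p).not.2 fun h => h ((mem_iff_chi_support r _).1 hr)⟩, ?_⟩
      funext i
      by_cases hi : r i = 0 <;> simp [chi, hi]
    · right
      have hu : IsUnit (IsLocalization.mk' (Localization.AtPrime p.asIdeal) r s) :=
        (IsLocalization.AtPrime.isUnit_mk'_iff (Localization.AtPrime p.asIdeal) p.asIdeal r s).2 hr
      exact hu.mul_right_eq_zero.1 hab
  exact NoZeroDivisors.to_isDomain _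

/-- finite locally constant sheaves are constant on finitely many pieces covering everything -/
theorem exists_pieces (G : EtCoh.Ab (Spec (CommRingCat.of (∀ i, K i)))) (hG : EtCoh.IsFiniteLocallyConstant G) :
    ∃ (n : ℕ) (S : Fin n → Set ι), (∀ p : PrimeSpectrum (∀ i, K i), ∃ j, chi K (S j) ∉ p.asIdeal) ∧
      ∀ j, ∃ (M : Type) (_ : AddCommGroup M) (_ : Finite M),
        Nonempty ((EtCoh.pull (piece (K := K) (S j))).obj G ≅ EtCoh.const _ M) := by
  obtain ⟨κ, U, hU, hiso⟩ := hG
  have key : ∀ p : PrimeSpectrum (∀ i, K i), ∃ S : Set ι, chi K S ∉ p.asIdeal ∧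
      ∃ (M : Type) (_ : AddCommGroup M) (_ : Finite M),
        Nonempty ((EtCoh.pull (piece (K := K) S)).obj G ≅ EtCoh.const _ M) := by
    intro p
    obtain ⟨a, w, hw⟩ := hU p
    obtain ⟨W, hW, hwW, -⟩ := exists_isAffineOpen_mem_and_subset (x := w) (U := (⊤ : (U a).left.Opens)) trivial
    haveI : IsAffine W.toScheme := hW
    let R := (∀ i, K i)
    haveI : AlgebraicGeometry.Etale (U a).hom := (U a).prop
    let h : Spec Γ(W, ⊤) ⟶ Spec (CommRingCat.of R) := W.toScheme.isoSpec.inv ≫ W.ι ≫ (U a).hom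
    obtain ⟨φ, hφ⟩ := Spec.map_surjective h
    haveI : AlgebraicGeometry.Etale h := inferInstance
    have het : φ.hom.Etale := by
      rw [← HasRingHomProperty.Spec_iff (P := @AlgebraicGeometry.Etale), hφ]
      infer_instance
    letI := φ.hom.toAlgebra
    haveI : Algebra.Etale R Γ(W, ⊤) := het
    let Q : PrimeSpectrum Γ(W, ⊤) := W.toScheme.isoSpec.hom ⟨w, hwW⟩
    have hQ : PrimeSpectrum.comap (algebraMap R Γ(W, ⊤)) Q = p := by
      show Spec.map φ Q = p
      rw [hφ, ← Scheme.Hom.comp_apply, Iso.hom_inv_id_assoc]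
      exact (Scheme.Hom.comp_apply _ _ _).trans hw
    haveI := (isAIC_localization_prime p).1
    obtain ⟨b, hb, ⟨σ⟩⟩ := AICCover.exists_section_near R R Γ(W, ⊤) p.asIdeal (isAIC_localization_prime p).2 Q.asIdeal
      ((congrArg PrimeSpectrum.asIdeal hQ).symm)
    let S : Set ι := {i | b i ≠ 0}
    refine ⟨S, fun h => hb ((mem_iff_chi_support b _).2 h), ?_⟩
    obtain ⟨M, instM, finM, ⟨e⟩⟩ := hiso a
    obtain ⟨φc, hφc⟩ := EtFound.exists_constBy e
    let ψ : Localization.Away b →+* ∀ i : S, K i.1 :=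
      IsLocalization.Away.lift (S := Localization.Away b) b (g := proj K S) (Pi.isUnit_iff.2 fun i => i.2.isUnit)
    let τ : Spec (CommRingCat.of (∀ i : S, K i.1)) ⟶ (U a).left :=
      Spec.map (CommRingCat.ofHom (ψ.comp σ.toRingHom)) ≫ W.toScheme.isoSpec.inv ≫ W.ι
    have hτ : τ ≫ (U a).hom = piece (K := K) S := by
      show (Spec.map (CommRingCat.ofHom (ψ.comp σ.toRingHom)) ≫ W.toScheme.isoSpec.inv ≫ W.ι) ≫ (U a).hom = _
      rw [Category.assoc, Category.assoc]
      refine (whisker_eq _ hφ.symm).trans ?_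
      rw [← Spec.map_comp]
      refine congrArg Spec.map (CommRingCat.hom_ext (RingHom.ext fun r => ?_))
      show ψ (σ (algebraMap R Γ(W, ⊤) r)) = proj K S r
      rw [σ.commutes]
      exact IsLocalization.Away.lift_eq (S := Localization.Away b) b _ r
    let g : EtCoh.top (Spec (CommRingCat.of (∀ i : S, K i.1))) ⟶ (EtCoh.bc (piece (K := K) S)).obj (U a) :=
      MorphismProperty.Over.homMk (pullback.lift τ (𝟙 _) (by rw [Category.id_comp]; exact hτ))
        (pullback.lift_snd _ _ _)
    obtain ⟨e'⟩ := EtAcycBC.nonempty_cst_iso_of_constBy ((EtFound.constBy_pull (piece (K := K) S) hφc).restrict g)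
    exact ⟨M, instM, finM, ⟨e'.symm⟩⟩
  choose S hS hM using key
  obtain ⟨t, ht⟩ := (isCompact_univ (X := PrimeSpectrum (∀ i, K i))).elim_finite_subcover
    (fun p : PrimeSpectrum (∀ i, K i) => (PrimeSpectrum.basicOpen (chi K (S p)) : Set _))
    (fun p => (PrimeSpectrum.basicOpen _).2) fun p _ => Set.mem_iUnion (s := fun p => (PrimeSpectrum.basicOpen (chi K (S p)) : Set (PrimeSpectrum (∀ i, K i)))).2 ⟨p, hS p⟩
  refine ⟨t.card, fun j => S (t.equivFin.symm j).1, fun p => ?_, fun j => hM _⟩
  obtain ⟨x, hx, hp⟩ := Set.mem_iUnion₂.1 (ht (Set.mem_univ p))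
  exact ⟨t.equivFin ⟨x, hx⟩, by show chi K (S (t.equivFin.symm (t.equivFin ⟨x, hx⟩)).1) ∉ p.asIdeal; rw [Equiv.symm_apply_apply]; exact hp⟩

end Groth.Agent.EtPBCq
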