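import Groth.Agent.EtPBCq.RshriekTools
import Groth.Agent.KFlatLib.Scheme.RpushCoprod
import Groth.Agent.EtTorLib.PushColim
import Mathlib.CategoryTheory.Limits.Constructions.Filtered
import Mathlib.CategoryTheory.Preadditive.AdditiveFunctor

/-!
# Higher direct images and coproducts
-/

set_option autoImplicit false
set_option linter.style.haveILetI false
set_option backward.isDefEq.respectTransparency false
set_option backward.isDefEq.respectTransparency.types false
set_option maxHeartbeats 1000000

universe t v u v' u'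

open CategoryTheory CategoryTheory.Limits AlgebraicGeometry CoproductsFromFiniteFiltered

attribute [local instance] HasDerivedCategory.standard

namespace Groth.Agent.EtPBCq

section

variable {C : Type u} [Category.{v} C] [Abelian C] {D : Type u'} [Category.{v'} D] [Abelian D]

/-- An additive functor preserving filtered colimits preserves coproducts. -/
theorem preservesCoproducts_of_filtered (G : C ⥤ D) [G.Additive] (J : Type t)
    [HasColimitsOfShape (Discrete J) C] [HasColimitsOfShape (Finset (Discrete J)) C]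
    [PreservesColimitsOfShape (Finset (Discrete J)) G] : PreservesColimitsOfShape (Discrete J) G := by
  suffices H : ∀ f : J → C, PreservesColimit (Discrete.functor f) G by
    exact ⟨fun {K} => have := H fun i => K.obj ⟨i⟩; preservesColimit_of_iso_diagram _ Discrete.natIsoFunctor.symm⟩
  intro f
  let c := finiteSubcoproductsCocone f
  let hc : IsColimit (G.mapCocone c) := isColimitOfPreserves G (isColimitFiniteSubproductsCocone f)
  refine preservesColimit_of_preserves_colimit_cocone (coproductIsCoproduct f) ?_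
  refine (Cofan.isColimitMapCoconeEquiv G _ _).symm ?_
  haveI : PreservesFiniteBiproducts G := inferInstance
  haveI : ∀ S : Finset (Discrete J), PreservesColimit (Discrete.functor fun x : S => f x.1.as) G := fun S =>
    haveI : PreservesFiniteCoproducts G := ⟨fun n =>
      preservesCoproductsOfShape_of_preservesBiproductsOfShape G⟩
    haveI : PreservesColimitsOfShape (Discrete S) G := inferInstance
    inferInstance
  let d : ∀ (t : Cofan fun j => G.obj (f j)) (S : Finset (Discrete J)), G.obj (∐ fun x : S => f x.1.as) ⟶ t.pt :=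
    fun t S => inv (sigmaComparison G fun x : S => f x.1.as) ≫ Sigma.desc fun x => t.inj x.1.as
  have hd : ∀ t (S : Finset (Discrete J)) (x : S), G.map (Sigma.ι (fun x : S => f x.1.as) x) ≫ d t S = t.inj x.1.as := fun t S x => by
    rw [← ι_comp_sigmaComparison G (fun x : S => f x.1.as) x, Category.assoc, IsIso.hom_inv_id_assoc, Sigma.ι_desc]
  let k : ∀ (t : Cofan fun j => G.obj (f j)), Cocone (liftToFinsetObj (Discrete.functor f) ⋙ G) := fun t =>
    { pt := t.pt
      ι :=
        { app := fun S => d t S
          naturality := fun S T a => by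
            refine (Category.comp_id _).symm.trans ?_ |>.trans rfl
            refine (cancel_epi (sigmaComparison G fun x : S => f x.1.as)).1 ?_
            refine Sigma.hom_ext _ _ fun x => ?_
            simp only [ι_comp_sigmaComparison_assoc, Functor.comp_map, liftToFinsetObj_map, Category.comp_id,
              Functor.const_obj_map]
            rw [← Category.assoc, ← Functor.map_comp, Sigma.ι_desc]
            exact (hd t T _).trans ((hd t S x).symm.trans (congrArg (G.map _ ≫ ·) (Category.comp_id _).symm)) } }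
  refine Cofan.IsColimit.mk _ (fun t => hc.desc (k t)) (fun t j => ?_) (fun t m hm => ?_)
  · let x : ({⟨j⟩} : Finset (Discrete J)) := ⟨⟨j⟩, Finset.mem_singleton_self _⟩
    show G.map (Sigma.ι f j) ≫ hc.desc (k t) = t.inj j
    rw [show Sigma.ι f j = Sigma.ι (fun x : ({⟨j⟩} : Finset (Discrete J)) => f x.1.as) x ≫ c.ι.app _ from
      (Sigma.ι_desc (f := fun x : ({⟨j⟩} : Finset (Discrete J)) => f x.1.as) (fun s => Sigma.ι f s.1.as) x).symm,
      Functor.map_comp, Category.assoc]
    exact (congrArg (G.map _ ≫ ·) (hc.fac (k t) _)).trans (hd t _ x)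
  · refine hc.hom_ext fun S => ?_
    rw [hc.fac]
    refine (cancel_epi (sigmaComparison G fun x : S => f x.1.as)).1 (Sigma.hom_ext _ _ fun x => ?_)
    rw [ι_comp_sigmaComparison_assoc, ι_comp_sigmaComparison_assoc]
    refine Eq.trans ?_ (hd t S x).symm
    show G.map _ ≫ G.map (c.ι.app S) ≫ m = _
    rw [← Functor.map_comp_assoc, show Sigma.ι (fun x : S => f x.1.as) x ≫ c.ι.app S = Sigma.ι f x.1.as from
      Sigma.ι_desc _ _]
    exact hm x.1.as

end

variable {X Y : Scheme.{u}} (f : X ⟶ Y) [QuasiCompact f] [QuasiSeparated f]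

theorem preservesCoproducts_Rpush (q : ℕ) (J : Type (u + 1)) :
    PreservesColimitsOfShape (Discrete J) (EtCoh.Rpush f q) := by
  haveI := IsGrothendieckAbelian.hasColimits (EtCoh.Ab X)
  haveI := EtTorLib.preservesColimitsOfShape_Rpush f q (Finset (Discrete J))
  haveI : (EtCoh.push f).IsRightAdjoint := (EtCoh.pullPushAdj f).isRightAdjoint
  exact preservesCoproducts_of_filtered (EtCoh.Rpush f q) J

theorem preservesCoproducts_push (J : Type (u + 1)) : PreservesColimitsOfShape (Discrete J) (EtCoh.push f) := by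
  haveI := IsGrothendieckAbelian.hasColimits (EtCoh.Ab X)
  haveI := EtTorLib.preservesColimitsOfShape_push f (Finset (Discrete J))
  haveI : (EtCoh.push f).IsRightAdjoint := (EtCoh.pullPushAdj f).isRightAdjoint
  haveI : (EtCoh.push f).Additive := inferInstance
  exact preservesCoproducts_of_filtered (EtCoh.push f) J

/-- A coproduct of acyclic sheaves is acyclic. -/
theorem isZero_Rpush_sigma {J : Type (u + 1)} (F : J → EtCoh.Ab X) [HasCoproduct F] (q : ℕ)
    (h : ∀ j, IsZero ((EtCoh.Rpush f q).obj (F j))) : IsZero ((EtCoh.Rpush f q).obj (∐ F)) := by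
  haveI := preservesCoproducts_Rpush f q J
  haveI := IsGrothendieckAbelian.hasColimits (EtCoh.Ab Y)
  refine IsZero.of_iso ?_ (PreservesCoproduct.iso (EtCoh.Rpush f q) F)
  rw [IsZero.iff_id_eq_zero]
  exact Sigma.hom_ext _ _ fun j => (h j).eq_of_src _ _

/-- The unit `Q(f_* L) ⟶ Rf_*(Q L)`. -/
noncomputable def rpushUnitEt [DCoh.HasRpushEt X f] :
    (EtCoh.push f).mapHomologicalComplex (ComplexShape.up ℤ) ⋙ DerivedCategory.Q ⟶
      DerivedCategory.Q ⋙ DCoh.RpushEt X f :=
  (Functor.isoWhiskerRight ((EtCoh.push f).mapHomotopyCategoryFactors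
      (ComplexShape.up ℤ)) DerivedCategory.Qh ≪≫ Functor.associator _ _ _ ≪≫
    Functor.isoWhiskerLeft _ (DerivedCategory.quotientCompQhIso (EtCoh.Ab Y))).inv ≫
  (Functor.associator _ _ _).hom ≫
  Functor.whiskerLeft (HomotopyCategory.quotient (EtCoh.Ab X) (ComplexShape.up ℤ))
    ((DCoh.pushEtKh X f).totalRightDerivedUnit DerivedCategory.Qh
      (HomotopyCategory.quasiIso (EtCoh.Ab X) (ComplexShape.up ℤ))) ≫
  (Functor.associator _ _ _).inv ≫
  Functor.whiskerRight (DerivedCategory.quotientCompQhIso (EtCoh.Ab X)).hom (DCoh.RpushEt X f)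

variable [DCoh.HasRpushEt X f]

omit [QuasiCompact f] [QuasiSeparated f] in
theorem isIso_rpushUnitEt_of_kInjective (I : CochainComplex (EtCoh.Ab X) ℤ) [I.IsKInjective] :
    IsIso ((rpushUnitEt f).app I) := by
  have h := S4329.Aux.isIso_unit f I
  simp only [rpushUnitEt, NatTrans.comp_app, Functor.associator_hom_app, Functor.associator_inv_app,
    Functor.whiskerLeft_app, Functor.whiskerRight_app]
  erw [isIso_comp_left_iff, isIso_comp_left_iff, isIso_comp_right_iff]
  exact h

omit [QuasiCompact f] [QuasiSeparated f] in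
theorem isIso_rpushUnitEt_of_acyclic (T : CochainComplex (EtCoh.Ab X) ℤ) (a : ℤ) [T.IsStrictlyGE a]
    (hT : ∀ (n : ℤ) (q : ℕ), IsZero ((EtCoh.Rpush f (q + 1)).obj (T.X n))) : IsIso ((rpushUnitEt f).app T) := by
  haveI : PreservesFiniteLimits (EtCoh.push f) :=
    haveI : PreservesLimitsOfSize.{0, 0} (EtCoh.push f) := (EtCoh.pullPushAdj f).rightAdjoint_preservesLimits
    PreservesLimitsOfSize.preservesFiniteLimits _
  obtain ⟨I, s, hI, hinj, hm, hs⟩ := TriCat.exists_quasiIso_resolution (A := EtCoh.Ab X) Injective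
    ⟨_, isZero_zero (EtCoh.Ab X), IsZero.injective (isZero_zero _)⟩
    (fun M => ⟨Injective.under M, Injective.ι M, inferInstance, inferInstance⟩) T a
  haveI := hI
  haveI := hinj
  haveI := hs
  haveI : I.IsKInjective := CochainComplex.isKInjective_of_injective _ a
  haveI := TriCat.quasiIso_map_of_adapted
    (TriCat.isAdapted_isRightAcyclic (F := EtCoh.push f)) s hm a
    (fun n i hi => by obtain ⟨q, rfl⟩ := Nat.exists_eq_succ_of_ne_zero hi.ne'; exact hT n q)
    (fun n => TriCat.isRightAcyclic_of_injective _)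
  have h1 : IsIso (DerivedCategory.Q.map (((EtCoh.push f).mapHomologicalComplex (ComplexShape.up ℤ)).map s)) :=
    inferInstance
  have h2 : IsIso (DerivedCategory.Q.map s) := inferInstance
  have h3 := isIso_rpushUnitEt_of_kInjective f I
  have w := (rpushUnitEt f).naturality s
  simp only [Functor.comp_map] at w
  have h4 : IsIso ((rpushUnitEt f).app T ≫ (DCoh.RpushEt X f).map (DerivedCategory.Q.map s)) := by
    rw [← w]
    exact IsIso.comp_isIso' h1 h3
  exact IsIso.of_isIso_comp_right _ ((DCoh.RpushEt X f).map (DerivedCategory.Q.map s))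

theorem preservesCoproducts_mapPush (J : Type (u + 1)) :
    PreservesColimitsOfShape (Discrete J) ((EtCoh.push f).mapHomologicalComplex (ComplexShape.up ℤ)) := by
  haveI := preservesCoproducts_push f J
  haveI := IsGrothendieckAbelian.hasColimits (EtCoh.Ab X)
  exact ⟨fun {K} => ⟨fun {c} hc => ⟨HomologicalComplex.isColimitOfEval _ _ fun m =>
      isColimitOfPreserves (HomologicalComplex.eval (EtCoh.Ab X) (ComplexShape.up ℤ) m ⋙ EtCoh.push f) hc⟩⟩⟩

/-- `Rf_*` commutes with a coproduct computed by complexes on which the unit is invertible. -/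
theorem preservesColimit_RpushEt {J : Type (u + 1)} (C : J → DCoh.DEt X) (K : J → CochainComplex (EtCoh.Ab X) ℤ)
    (e : ∀ j, DerivedCategory.Q.obj (K j) ≅ C j) (h : ∀ j, IsIso ((rpushUnitEt f).app (K j)))
    (h' : IsIso ((rpushUnitEt f).app (∐ K))) : PreservesColimit (Discrete.functor C) (DCoh.RpushEt X f) := by
  haveI := IsGrothendieckAbelian.hasColimits (EtCoh.Ab X)
  haveI := IsGrothendieckAbelian.hasColimits (EtCoh.Ab Y)
  haveI := preservesCoproducts_mapPush f J
  haveI : HasColimitsOfShape (Discrete J) (DCoh.DEt X) := TriCat.hasColimitsOfShape_derivedCategory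
  haveI : HasColimitsOfShape (Discrete J) (DCoh.DEt Y) := TriCat.hasColimitsOfShape_derivedCategory
  haveI : IsIso (sigmaComparison (DCoh.RpushEt X f) C) :=
    KFlatLib.isIso_sigmaDesc' (DCoh.RpushEt X f) _ (rpushUnitEt f) C K e h h'
  exact PreservesCoproduct.of_iso_comparison (DCoh.RpushEt X f) C

/-- A coproduct of complexes in degrees `≥ a` is in degrees `≥ a`. -/
theorem isStrictlyGE_sigma {J : Type (u + 1)} (K : J → CochainComplex (EtCoh.Ab X) ℤ) [HasCoproduct K] (a : ℤ)
    (h : ∀ j, (K j).IsStrictlyGE a) : CochainComplex.IsStrictlyGE (∐ K) a := by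
  haveI := IsGrothendieckAbelian.hasColimits (EtCoh.Ab X)
  refine (CochainComplex.isStrictlyGE_iff _ a).2 fun m hm => ?_
  refine IsZero.of_iso ?_ (PreservesCoproduct.iso (HomologicalComplex.eval (EtCoh.Ab X) (ComplexShape.up ℤ) m) K)
  rw [IsZero.iff_id_eq_zero]
  exact Sigma.hom_ext _ _ fun i => (CochainComplex.isZero_of_isStrictlyGE (K i) a m hm).eq_of_src _ _

end Groth.Agent.EtPBCq
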