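import Groth.Agent.EtBCQ.DerivedLocal
import Groth.Agent.TriCat.RightDerivedBridge
import Groth.Prelude.Def_DEt2

/-!
# The derived direct image of a sheaf in degree zero
-/

set_option autoImplicit false
set_option linter.style.haveILetI false
set_option backward.isDefEq.respectTransparency false
set_option backward.isDefEq.respectTransparency.types false
set_option maxHeartbeats 1000000

universe u

open CategoryTheory CategoryTheory.Limits AlgebraicGeometry

attribute [local instance] HasDerivedCategory.standard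

namespace Groth.Agent.EtPBCq

variable {X Y : Scheme.{u}} (f : X ⟶ Y) [DCoh.HasRpushEt X f] (F : EtCoh.Ab X)

theorem nonempty_RpushEt_single :
    ∃ R : InjectiveResolution F, ∀ i : ℤ, Nonempty
      (DCoh.HDEt ((DCoh.RpushEt X f).obj ((DerivedCategory.singleFunctor (EtCoh.Ab X) 0).obj F)) i ≅
        (((EtCoh.push f).mapHomologicalComplex (ComplexShape.up ℤ)).obj R.cochainComplex).homology i) := by
  let R := injectiveResolution F
  haveI : ∀ i : ℤ, Injective (R.cochainComplex.X i) := fun i => inferInstance
  haveI : R.cochainComplex.IsKInjective := CochainComplex.isKInjective_of_injective _ 0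
  haveI := S4329.Aux.isIso_unit f R.cochainComplex
  refine ⟨R, fun i => ⟨(DerivedCategory.homologyFunctor (EtCoh.Ab Y) i).mapIso ?_ ≪≫
    (DerivedCategory.homologyFunctorFactors (EtCoh.Ab Y) i).app
      (((EtCoh.push f).mapHomologicalComplex (ComplexShape.up ℤ)).obj R.cochainComplex)⟩⟩
  let e : DerivedCategory.Qh.obj ((HomotopyCategory.quotient _ _).obj R.cochainComplex) ≅
      (DerivedCategory.singleFunctor (EtCoh.Ab X) 0).obj F :=
    (DerivedCategory.quotientCompQhIso _).app R.cochainComplex ≪≫ (asIso (DerivedCategory.Q.map R.ι')).symm ≪≫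
      ((DerivedCategory.singleFunctorIsoCompQ (EtCoh.Ab X) 0).app F).symm
  exact (DCoh.RpushEt X f).mapIso e.symm ≪≫
    (asIso (((DCoh.pushEtKh X f).totalRightDerivedUnit DerivedCategory.Qh
      (HomotopyCategory.quasiIso (EtCoh.Ab X) (ComplexShape.up ℤ))).app
      ((HomotopyCategory.quotient (EtCoh.Ab X) (ComplexShape.up ℤ)).obj R.cochainComplex))).symm ≪≫
    (DerivedCategory.quotientCompQhIso _).app (((EtCoh.push f).mapHomologicalComplex (ComplexShape.up ℤ)).obj R.cochainComplex)

/-- The cohomology sheaves of the derived direct image of a sheaf. -/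
theorem nonempty_HDEt_RpushEt_single (q : ℕ) :
    Nonempty (DCoh.HDEt ((DCoh.RpushEt X f).obj ((DerivedCategory.singleFunctor (EtCoh.Ab X) 0).obj F)) (q : ℤ) ≅
      (EtCoh.Rpush f q).obj F) := by
  obtain ⟨R, h⟩ := nonempty_RpushEt_single f F
  obtain ⟨e⟩ := h (q : ℤ)
  exact ⟨e ≪≫ TriCat.homologyResIso (EtCoh.push f) R q ≪≫ (R.isoRightDerivedObj (EtCoh.push f) q).symm⟩

theorem isZero_HDEt_RpushEt_single {i : ℤ} (hi : i < 0) :
    IsZero (DCoh.HDEt ((DCoh.RpushEt X f).obj ((DerivedCategory.singleFunctor (EtCoh.Ab X) 0).obj F)) i) := by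
  obtain ⟨R, h⟩ := nonempty_RpushEt_single f F
  obtain ⟨e⟩ := h i
  refine IsZero.of_iso ?_ e
  haveI : Subsingleton (PUnit : Type) := inferInstance
  exact ((HomologicalComplex.exactAt_iff_isZero_homology _ _).1 (HomologicalComplex.exactAt_of_isSupported
    (((EtCoh.push f).mapHomologicalComplex (ComplexShape.up ℤ)).obj R.cochainComplex) (ComplexShape.embeddingUpIntGE 0) i
    (fun n hn => by simp at hn; omega)))

end Groth.Agent.EtPBCq
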