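import Groth.Agent.EtPBCq.ShriekPush
import Groth.Agent.EtFound.ExtZeroBC
import Groth.Agent.EtFound.AbRecollement
import Groth.Agent.CdDim.TorsionAll
import Groth.Agent.CdDim.PushDegree
import Groth.Agent.DimOne.Completion
import Groth.Agent.FibDim.BaseField
import Groth.Agent.SchTop.ZeroDim
import Groth.Agent.CurveCd.Classes
import Groth.Agent.S0686
import Groth.Agent.S3493
import Groth.Agent.S3519

/-!
# Cohomological dimension of extensions by zero and of compactly supported direct images
-/

set_option autoImplicit false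
set_option linter.style.haveILetI false
set_option backward.isDefEq.respectTransparency false
set_option backward.isDefEq.respectTransparency.types false
set_option maxHeartbeats 1000000

universe u

open CategoryTheory CategoryTheory.Limits AlgebraicGeometry Opposite

namespace Groth.Agent.EtPBCq

variable {Ω : Type u} [Field Ω] [IsSepClosed Ω]

/-- The cohomological dimension over a separably closed field is at most twice the dimension. -/
theorem cohDimLE_two_mul {Z : Scheme.{u}} (g : Z ⟶ Spec (CommRingCat.of Ω)) [LocallyOfFiniteType g] [QuasiCompact g]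
    (n : ℕ) (hn : 1 ≤ n) (hd : topologicalKrullDim Z ≤ n) : EtCoh.CohDimLE Z (2 * n) := by
  haveI : CompactSpace Z := QuasiCompact.compactSpace_of_compactSpace g
  haveI : IsLocallyNoetherian Z := LocallyOfFiniteType.isLocallyNoetherian g
  haveI : QuasiSeparatedSpace Z := inferInstance
  refine CdDim.cohDimLE_of_forall fun ℓ hℓ => ?_
  by_cases hk : (ℓ : Ω) = 0
  · haveI := Fact.mk hℓ
    haveI : CharP Ω ℓ := by
      haveI := ringChar.charP Ω
      have h1 := (CharP.cast_eq_zero_iff Ω (ringChar Ω) ℓ).1 hk
      rcases (Nat.dvd_prime hℓ).1 h1 with h2 | h2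
      · exact absurd h2 (CharP.ringChar_ne_one (R := Ω))
      · exact h2 ▸ ringChar.charP Ω
    exact fun F hF q hq => S3519.result Ω ℓ Z g n hd F hF q (by omega)
  · refine S3493.result Ω Z g n hd ℓ hℓ hk 0 fun F _ q hq => ?_
    exact S0171.result (Spec (CommRingCat.of Ω)) (𝟙 _) F (fun x _ => by
      have : ({x} : Set (Spec (CommRingCat.of Ω))) = Set.univ := Set.eq_univ_of_forall fun _ => Subsingleton.elim _ _
      rw [this]; exact isClosed_univ) q hq

theorem isTorsion_extZero {U P : Scheme.{u}} (j : U ⟶ P) [IsOpenImmersion j] {F : EtCoh.Ab U} (hF : EtCoh.IsTorsion F) :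
    EtCoh.IsTorsion ((EtShriek.extZero j).obj F) := by
  obtain ⟨e⟩ := ShriekLib.nonempty_extZero_iso_lowerShriek j
  exact CurveCd.isTorsion_of_mono ((e ≪≫ (ShriekLib.shriekShIso j).symm).hom.app F) (isTorsion_shriekSh j hF)

/-- Cohomology of an extension by zero vanishes above twice the dimension of the open part. -/
theorem subsingleton_H_extZero {U P : Scheme.{u}} (g : P ⟶ Spec (CommRingCat.of Ω)) [LocallyOfFiniteType g]
    [QuasiCompact g] (j : U ⟶ P) [IsOpenImmersion j] (d : ℕ) (hdim : topologicalKrullDim U ≤ d) (F : EtCoh.Ab U)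
    (hF : EtCoh.IsTorsion F) (i : ℕ) (hi : 2 * d < i) :
    Subsingleton (EtCoh.H P ((EtShriek.extZero j).obj F) i) := by
  haveI : IsLocallyNoetherian P := LocallyOfFiniteType.isLocallyNoetherian g
  haveI : CompactSpace P := QuasiCompact.compactSpace_of_compactSpace g
  haveI : IsNoetherian P := { }
  haveI : QuasiCompact j := inferInstance
  rcases Nat.eq_zero_or_pos d with rfl | hd
  · refine S0171.result P g _ (fun x hx => ?_) i (by omega)
    obtain ⟨Ω', _, _, ζ, hζ, hne⟩ := hx
    have hmem : ζ.base default ∈ Set.range j.base := by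
      by_contra h
      exact hne (EtFound.isZero_stalk_extZero j ζ h F)
    obtain ⟨v, hv⟩ := hmem
    haveI : JacobsonSpace P := LocallyOfFiniteType.jacobsonSpace g
    have hvc : IsClosed ({v} : Set U) := SchTop.isClosed_singleton_of_dim_le_zero (by exact_mod_cast hdim) v
    have := j.closePoints_subset_preimage_closedPoints (show v ∈ closedPoints U from hvc)
    rw [Set.mem_preimage, hv, show ζ.base default = x from hζ.subset ⟨_, rfl⟩] at this
    exact this
  let j₁ := j.toImage
  let c := j.imageι
  have hjc : j₁ ≫ c = j := j.toImage_imageι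
  haveI : IsProper c := inferInstance
  obtain ⟨e₁⟩ := S0686.result j₁ c j hjc.symm
  obtain ⟨e₂⟩ := ShriekLib.nonempty_extZero_iso_lowerShriek j
  let E := (EtShriek.extZero j₁).obj F
  have hE : EtCoh.IsTorsion E := isTorsion_extZero j₁ hF
  refine CdDim.subsingleton_H_of_iso' ((e₂ ≪≫ e₁).app F).symm i ?_
  obtain ⟨n, rfl⟩ : ∃ n, i = n + 1 := ⟨i - 1, by omega⟩
  haveI : IsLocallyNoetherian j.image := LocallyOfFiniteType.isLocallyNoetherian (c ≫ g)
  haveI : CompactSpace j.image := QuasiCompact.compactSpace_of_compactSpace (c ≫ g)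
  haveI : IsNoetherian j.image := { }
  refine CdDim.subsingleton_H_push c n E ?_ fun b m hb _ => ?_
  · have hdense : Dense (Set.range j₁) := j₁.denseRange
    have hZ : topologicalKrullDim j.image ≤ d := (DimOne.topologicalKrullDim_le_of_dense Ω (c ≫ g) j₁ hdense).trans hdim
    exact cohDimLE_two_mul (c ≫ g) d hd hZ E hE (n + 1) hi
  · exact AddCommGrpCat.subsingleton_of_isZero ((EtCoh.HF P m).map_isZero (S0071.result c E b hb))

/-- Vanishing of compactified higher direct images above twice the fibre dimension. -/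
theorem isZero_Rpush_extZero {X P S : Scheme.{u}} (j : X ⟶ P) [IsOpenImmersion j] (p : P ⟶ S) [IsProper p] (d : ℕ)
    (hdim : ∀ s : S, topologicalKrullDim ((j ≫ p).fiber s) ≤ d) (F : EtCoh.Ab X) (hF : EtCoh.IsTorsion F) (i : ℕ)
    (hi : 2 * d < i) : IsZero ((EtCoh.Rpush p i).obj ((EtShriek.extZero j).obj F)) := by
  refine (EtFound.isZero_iff_stalks _).2 fun Ω' _ _ ξ => ?_
  obtain ⟨e⟩ := S0156.result p ξ _ (isTorsion_extZero j hF) i
  refine IsZero.of_iso ?_ e
  let q : pullback (j ≫ p) ξ ⟶ pullback p ξ := pullback.lift (pullback.fst _ _ ≫ j) (pullback.snd _ _)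
    (by rw [Category.assoc]; exact pullback.condition)
  have hq : IsPullback q (pullback.fst (j ≫ p) ξ) (pullback.fst p ξ) j :=
    (IsPullback.of_bot (by
      rw [pullback.lift_snd]; exact IsPullback.of_hasPullback (j ≫ p) ξ)
      (pullback.lift_fst _ _ _).symm (IsPullback.of_hasPullback p ξ)).flip
  haveI : IsOpenImmersion q := MorphismProperty.of_isPullback hq.flip ‹IsOpenImmersion j›
  obtain ⟨e₁⟩ := EtFound.nonempty_pull_extZero_iso j (pullback.fst p ξ) q (pullback.fst (j ≫ p) ξ) hq
  suffices Subsingleton (EtCoh.H (pullback p ξ) ((EtCoh.pull (pullback.fst p ξ)).obj ((EtShriek.extZero j).obj F)) i) from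
    AddCommGrpCat.isZero_of_subsingleton _
  refine CdDim.subsingleton_H_of_iso' (e₁.app F) i (subsingleton_H_extZero (pullback.snd p ξ) q d ?_ _
    (GalTorLib.isTorsion_pull _ F hF) i hi)
  let s := ξ (IsLocalRing.closedPoint Ω')
  let τ := Spec.map (S.descResidueField (Scheme.stalkClosedPointTo ξ))
  have hτ : τ ≫ S.fromSpecResidueField s = ξ := Scheme.descResidueField_stalkClosedPointTo_fromSpecResidueField Ω' S ξ
  let m : pullback (j ≫ p) ξ ⟶ (j ≫ p).fiber s := pullback.lift (pullback.fst _ _) (pullback.snd _ _ ≫ τ)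
    (by rw [Category.assoc, hτ]; exact pullback.condition)
  have hm : IsPullback m (pullback.snd (j ≫ p) ξ) ((j ≫ p).fiberToSpecResidueField s) τ :=
    IsPullback.of_right (by rw [pullback.lift_fst, hτ]; exact IsPullback.of_hasPullback (j ≫ p) ξ)
      (pullback.lift_snd _ _ _) (IsPullback.of_hasPullback (j ≫ p) (S.fromSpecResidueField s))
  haveI : LocallyOfFiniteType ((j ≫ p).fiberToSpecResidueField s) :=
    inferInstanceAs (LocallyOfFiniteType (pullback.snd (j ≫ p) (S.fromSpecResidueField s)))
  rw [FibDim.topologicalKrullDim_baseChange hm]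
  exact hdim s

end Groth.Agent.EtPBCq
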