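import Groth.Agent.EtPBCq.RshriekIndep
import Groth.Agent.EtPBCq.ShriekCd
import Groth.Agent.EtPBCq.ProperBC
import Groth.Agent.EtLeray.CompN
import Groth.Agent.EtBCQ.Sq

/-!
# Base change for direct images with proper support
-/

set_option autoImplicit false
set_option linter.style.haveILetI false
set_option backward.isDefEq.respectTransparency false
set_option backward.isDefEq.respectTransparency.types false
set_option maxHeartbeats 1000000

universe u

open CategoryTheory CategoryTheory.Limits AlgebraicGeometry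

attribute [local instance] HasDerivedCategory.standard

namespace Groth.Agent.EtPBCq

theorem nonempty_pullD_Rpush_iso {P Y W Y' : Scheme.{u}} (p : P ⟶ Y) [IsProper p] (g : Y' ⟶ Y) (p' : W ⟶ Y') (g₁ : W ⟶ P)
    (h : IsPullback g₁ p' p g) [PreservesFiniteLimits (EtCoh.pull g)] [PreservesFiniteLimits (EtCoh.pull g₁)]
    [DCoh.HasRpushEt P p] [DCoh.HasRpushEt W p'] (L : DCoh.DEt P) (a : ℤ)
    (hb : ∀ n : ℤ, n < a → IsZero (DCoh.HDEt L n)) (ht : ∀ n : ℤ, EtCoh.IsTorsion (DCoh.HDEt L n)) :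
    Nonempty (((EtCoh.pull g).mapDerivedCategory).obj ((DCoh.RpushEt P p).obj L) ≅
      (DCoh.RpushEt W p').obj (((EtCoh.pull g₁).mapDerivedCategory).obj L)) := by
  obtain ⟨T, hT, htT, hac, ⟨eT⟩⟩ := exists_torsion_rep L a hb ht
  haveI := hT
  haveI hbc : ∀ (n : ℤ) (q : ℕ), IsIso (EtBC.bcQ p g p' g₁ h.w q (T.X n)) := fun n q =>
    isIso_bcQ_proper p g p' g₁ h (T.X n) (htT n) q
  haveI : ∀ n : ℤ, IsIso (EtCoh.baseChange0 p g p' g₁ h.w (T.X n)) := fun n => by
    haveI := hbc n 0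
    exact EtLeray.isIso_baseChange0_of_bcQ g p g₁ p' h.w (T.X n) (hbc n 0)
  obtain ⟨e₁⟩ := nonempty_RpushEt_Q_iso p T a (fun n q => hac n p q)
  obtain ⟨e₂⟩ := nonempty_RpushEt_Q_iso p' (((EtCoh.pull g₁).mapHomologicalComplex (ComplexShape.up ℤ)).obj T) a
    (fun n q => ((EtCoh.pull g).map_isZero (hac n p q)).of_iso (haveI := hbc n (q + 1); (asIso (EtBC.bcQ p g p' g₁ h.w (q + 1) (T.X n))).symm))
  exact ⟨((EtCoh.pull g).mapDerivedCategory).mapIso ((DCoh.RpushEt P p).mapIso eT.symm ≪≫ e₁) ≪≫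
    (EtCoh.pull g).mapDerivedCategoryFactors.app _ ≪≫
    DerivedCategory.Q.mapIso (HomologicalComplex.Hom.isoOfComponents
      (C₁ := ((EtCoh.pull g).mapHomologicalComplex (ComplexShape.up ℤ)).obj
        (((EtCoh.push p).mapHomologicalComplex (ComplexShape.up ℤ)).obj T))
      (C₂ := ((EtCoh.push p').mapHomologicalComplex (ComplexShape.up ℤ)).obj
        (((EtCoh.pull g₁).mapHomologicalComplex (ComplexShape.up ℤ)).obj T))
      (fun n => asIso (EtCoh.baseChange0 p g p' g₁ h.w (T.X n)))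
      (fun n m _ => (EtBCQ.baseChange0_naturality p g p' g₁ h.w (T.d n m)).symm)) ≪≫
    e₂.symm ≪≫ (DCoh.RpushEt W p').mapIso
      (((EtCoh.pull g₁).mapDerivedCategoryFactors.app T).symm ≪≫ ((EtCoh.pull g₁).mapDerivedCategory).mapIso eT)⟩

theorem nonempty_Rshriek_baseChange_iso {X Y X' Y' : Scheme.{u}} [CompactSpace ↥X] [QuasiSeparatedSpace ↥X]
    [CompactSpace ↥Y] [QuasiSeparatedSpace ↥Y] [CompactSpace ↥X'] [QuasiSeparatedSpace ↥X'] [CompactSpace ↥Y']
    [QuasiSeparatedSpace ↥Y'] {f : X ⟶ Y} {g : Y' ⟶ Y} {f' : X' ⟶ Y'} {g' : X' ⟶ X} (hc : IsPullback g' f' f g)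
    (c : DEt.Compactification f) [PreservesFiniteLimits (EtShriek.extZero c.j)] [DCoh.HasRpushEt c.Xbar c.fbar]
    (c' : DEt.Compactification f') [PreservesFiniteLimits (EtShriek.extZero c'.j)]
    [DCoh.HasRpushEt c'.Xbar c'.fbar] [PreservesFiniteLimits (EtCoh.pull g)]
    [PreservesFiniteLimits (EtCoh.pull g')] (K : DCoh.DEt X) (a : ℤ)
    (hb : ∀ n : ℤ, n < a → IsZero (DCoh.HDEt K n)) (ht : ∀ n : ℤ, EtCoh.IsTorsion (DCoh.HDEt K n)) :
    Nonempty (((EtCoh.pull g).mapDerivedCategory).obj ((DEt.Rshriek c).obj K) ≅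
      (DEt.Rshriek c').obj (((EtCoh.pull g').mapDerivedCategory).obj K)) := by
  let g₁ := pullback.fst c.fbar g
  let j' : X' ⟶ pullback c.fbar g := pullback.lift (g' ≫ c.j) f' (by rw [Category.assoc, c.fac]; exact hc.w)
  have hq : IsPullback j' g' g₁ c.j :=
    (IsPullback.of_bot (by rw [pullback.lift_snd, c.fac]; exact hc) (pullback.lift_fst _ _ _).symm
      (IsPullback.of_hasPullback c.fbar g)).flip
  haveI : IsOpenImmersion j' := MorphismProperty.of_isPullback hq.flip c.isOpenImmersion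
  let d : DEt.Compactification f' :=
    ⟨pullback c.fbar g, j', pullback.snd c.fbar g, inferInstance, inferInstance, pullback.lift_snd _ _ _⟩
  haveI : PreservesFiniteLimits (EtShriek.extZero d.j) := EtFound.extZero_preservesFiniteLimits j'
  haveI : DCoh.HasRpushEt d.Xbar d.fbar := hasRpushEt (pullback.snd c.fbar g)
  haveI := EtFound.pull_preservesFiniteLimits g₁
  have hL : ∀ n : ℤ, Nonempty (DCoh.HDEt ((DEt.extZeroD c.j).obj K) n ≅ (EtShriek.extZero c.j).obj (DCoh.HDEt K n)) :=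
    fun n => nonempty_homology_mapDerivedCategory (EtShriek.extZero c.j) K n
  obtain ⟨e₁⟩ := nonempty_pullD_Rpush_iso c.fbar g (pullback.snd c.fbar g) g₁ (IsPullback.of_hasPullback c.fbar g)
    ((DEt.extZeroD c.j).obj K) a
    (fun n hn => ((EtShriek.extZero c.j).map_isZero (hb n hn)).of_iso (hL n).some)
    (fun n => isTorsion_of_iso (hL n).some.symm (isTorsion_extZero c.j (ht n)))
  have hK : ∀ n : ℤ, Nonempty (DCoh.HDEt (((EtCoh.pull g').mapDerivedCategory).obj K) n ≅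
      (EtCoh.pull g').obj (DCoh.HDEt K n)) :=
    fun n => nonempty_homology_mapDerivedCategory (EtCoh.pull g') K n
  obtain ⟨e₂⟩ := nonempty_Rshriek_iso d c' (((EtCoh.pull g').mapDerivedCategory).obj K) a
    (fun n hn => ((EtCoh.pull g').map_isZero (hb n hn)).of_iso (hK n).some)
    (fun n => isTorsion_of_iso (hK n).some.symm (GalTorLib.isTorsion_pull g' _ (ht n)))
  obtain ⟨e₃⟩ := EtFound.nonempty_pull_extZero_iso c.j g₁ j' g' hq
  let L := (DerivedCategory.Q (C := EtCoh.Ab X)).objPreimage K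
  let eL : DerivedCategory.Q.obj L ≅ K := (DerivedCategory.Q (C := EtCoh.Ab X)).objObjPreimageIso K
  let e₄ : ((EtCoh.pull g₁).mapDerivedCategory).obj ((DEt.extZeroD c.j).obj K) ≅
      (DEt.extZeroD j').obj (((EtCoh.pull g').mapDerivedCategory).obj K) :=
    ((EtCoh.pull g₁).mapDerivedCategory).mapIso ((DEt.extZeroD c.j).mapIso eL.symm ≪≫
      (EtShriek.extZero c.j).mapDerivedCategoryFactors.app L) ≪≫
    (EtCoh.pull g₁).mapDerivedCategoryFactors.app _ ≪≫
    DerivedCategory.Q.mapIso (HomologicalComplex.Hom.isoOfComponents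
      (C₁ := ((EtCoh.pull g₁).mapHomologicalComplex (ComplexShape.up ℤ)).obj
        (((EtShriek.extZero c.j).mapHomologicalComplex (ComplexShape.up ℤ)).obj L))
      (C₂ := ((EtShriek.extZero j').mapHomologicalComplex (ComplexShape.up ℤ)).obj
        (((EtCoh.pull g').mapHomologicalComplex (ComplexShape.up ℤ)).obj L))
      (fun n => (e₃.app (L.X n)).symm) (fun n m _ => (e₃.inv.naturality (L.d n m)).symm)) ≪≫
    ((EtShriek.extZero j').mapDerivedCategoryFactors.app _).symm ≪≫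
    (DEt.extZeroD j').mapIso (((EtCoh.pull g').mapDerivedCategoryFactors.app L).symm ≪≫
      ((EtCoh.pull g').mapDerivedCategory).mapIso eL)
  exact ⟨e₁ ≪≫ (DCoh.RpushEt d.Xbar d.fbar).mapIso e₄ ≪≫ e₂⟩

end Groth.Agent.EtPBCq
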