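import Groth.Agent.S0156
import Groth.Agent.S0171
import Groth.Agent.ShriekLib.LqfExact
import Groth.Agent.ShriekLib.Compact

/-!
# Direct images with proper support along locally quasi-finite morphisms followed by proper morphisms
-/

set_option autoImplicit false
set_option linter.style.haveILetI false
set_option backward.isDefEq.respectTransparency false
set_option backward.isDefEq.respectTransparency.types false
set_option maxHeartbeats 1000000

universe u

open CategoryTheory CategoryTheory.Limits AlgebraicGeometry Opposite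

namespace Groth.Agent.EtPBCq

variable {X Y Z : Scheme.{u}}

theorem isOfFinAddOrder_stalk {F : EtCoh.Ab X} (hF : EtCoh.IsTorsion F) {Ω : Type u} [Field Ω] [IsSepClosed Ω]
    (ξ : Spec (CommRingCat.of Ω) ⟶ X) (c : (EtCoh.stalk ξ).obj F) : IsOfFinAddOrder c := by
  obtain ⟨U, u, s, rfl⟩ := (Scheme.pointSmallEtale ξ).toPresheafFiber_jointly_surjective (P := F.obj) c
  obtain ⟨W, g, ⟨w, hw⟩, h⟩ := hF U s (EtFound.ptOf u)
  obtain ⟨u', hu', -⟩ := EtFound.exists_lift_point g u w hw
  rw [← hu', ← (Scheme.pointSmallEtale ξ).toPresheafFiber_w_apply]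
  exact ((Scheme.pointSmallEtale ξ).toPresheafFiber W u' F.obj).hom.isOfFinAddOrder h

variable (f : X ⟶ Y) [IsSeparated f] [LocallyOfFiniteType f] [LocallyQuasiFinite f]

/-- The direct image with proper support of a torsion sheaf is torsion. -/
theorem isTorsion_shriekSh {F : EtCoh.Ab X} (hF : EtCoh.IsTorsion F) : EtCoh.IsTorsion ((ShriekLib.shriekSh f).obj F) := by
  classical
  intro V s x
  obtain ⟨Ω, _, _, η, v, rfl⟩ := EtFound.exists_algClosed_point V x
  let c := (Scheme.pointSmallEtale η).toPresheafFiber V v ((ShriekLib.shriekSh f).obj F).obj s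
  let T := (ShriekLib.finite_lqfProj f F c).toFinset
  let n := ∏ z ∈ T, addOrderOf (ShriekLib.lqfProj f z F c)
  have hn : n • c = 0 := ShriekLib.injective_lqfProj f F _ fun z => by
    rw [map_nsmul]
    by_cases hz : z ∈ T
    · exact addOrderOf_dvd_iff_nsmul_eq_zero.1 (Finset.dvd_prod_of_mem (fun z => addOrderOf (ShriekLib.lqfProj f z F c)) hz)
    · have h0 : ShriekLib.lqfProj f z F c = 0 := by
        by_contra hne
        exact hz ((Set.Finite.mem_toFinset _).2 hne)
      rw [h0, nsmul_zero]
  have hpos : 0 < n := Finset.prod_pos fun z _ => (isOfFinAddOrder_stalk hF z.1 _).addOrderOf_pos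
  have hn' : (Scheme.pointSmallEtale η).toPresheafFiber V v ((ShriekLib.shriekSh f).obj F).obj (n • s) =
      (Scheme.pointSmallEtale η).toPresheafFiber V v ((ShriekLib.shriekSh f).obj F).obj 0 := by
    rw [map_nsmul, map_zero]; exact hn
  obtain ⟨W, g, v', hv, hs⟩ := ((Scheme.pointSmallEtale η).toPresheafFiber_eq_iff' V v _ _).1 hn'
  refine ⟨W, g, ⟨EtFound.ptOf v', by subst hv; exact (EtFound.ptOf_map g v').symm⟩,
    isOfFinAddOrder_iff_nsmul_eq_zero.2 ⟨n, hpos, ?_⟩⟩
  exact (map_nsmul (((ShriekLib.shriekSh f).obj F).obj.map g.op).hom n s).symm.trans (hs.trans (map_zero _))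

/-- A nonzero stalk of a direct image with proper support lies over a point of the source. -/
theorem exists_lift_of_stalk_ne_zero {F : EtCoh.Ab X} {Ω : Type u} [Field Ω] [IsAlgClosed Ω]
    (η : Spec (CommRingCat.of Ω) ⟶ Y) (h : ¬ IsZero ((EtCoh.stalk η).obj ((ShriekLib.shriekSh f).obj F))) :
    ∃ ξ : Spec (CommRingCat.of Ω) ⟶ X, ξ ≫ f = η := by
  by_contra hne
  haveI : Subsingleton ((EtCoh.stalk η).obj ((ShriekLib.shriekSh f).obj F)) :=
    subsingleton_of_forall_eq 0 fun c => ShriekLib.injective_lqfProj f F c fun z => absurd ⟨z.1, z.2⟩ hne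
  exact h (AddCommGrpCat.isZero_of_subsingleton _)

variable (h : Y ⟶ Z) (g : X ⟶ Z) (w : g = f ≫ h) [LocallyQuasiFinite g] [IsProper h]

include w in
/-- Higher direct images along proper morphisms of direct images with proper support vanish. -/
theorem isZero_Rpush_shriekSh {F : EtCoh.Ab X} (hF : EtCoh.IsTorsion F) (q : ℕ) :
    IsZero ((EtCoh.Rpush h (q + 1)).obj ((ShriekLib.shriekSh f).obj F)) := by
  refine (EtFound.isZero_iff_stalks _).2 fun Ω _ _ ξ => ?_
  obtain ⟨e⟩ := S0156.result h ξ _ (isTorsion_shriekSh f hF) (q + 1)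
  refine IsZero.of_iso ?_ e
  suffices Subsingleton (EtCoh.H (pullback h ξ) ((EtCoh.pull (pullback.fst h ξ)).obj ((ShriekLib.shriekSh f).obj F)) (q + 1)) from
    AddCommGrpCat.isZero_of_subsingleton _
  refine S0171.result (pullback h ξ) (pullback.snd h ξ) _ (fun x hx => ?_) (q + 1) q.succ_pos
  obtain ⟨Ω', _, _, ζ, hζ, hne⟩ := hx
  let k := AlgebraicClosure Ω'
  let l : Spec (CommRingCat.of k) ⟶ Spec (CommRingCat.of Ω') := Spec.map (CommRingCat.ofHom (algebraMap Ω' k))
  obtain ⟨z, hz⟩ := exists_lift_of_stalk_ne_zero f (l ≫ ζ ≫ pullback.fst h ξ) (F := F) fun h0 => hne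
    ((h0.of_iso ((EtFound.stalkExtIso AddCommGrpCat.{u + 1} (ζ ≫ pullback.fst h ξ) l).app
      ((ShriekLib.shriekSh f).obj F))).of_iso ((EtFound.stalkPullIso (pullback.fst h ξ) ζ).app _))
  let pt : Spec (CommRingCat.of k) ⟶ pullback g ξ := pullback.lift z (l ≫ ζ ≫ pullback.snd h ξ) (by
    rw [w, ← Category.assoc, hz]
    simp only [Category.assoc, pullback.condition])
  let m : pullback g ξ ⟶ pullback h ξ := pullback.lift (pullback.fst g ξ ≫ f) (pullback.snd g ξ) (by
    rw [Category.assoc, ← w, pullback.condition])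
  have hm : pt ≫ m = l ≫ ζ := pullback.hom_ext
    (by simp only [pt, m, Category.assoc, pullback.lift_fst, pullback.lift_fst_assoc]; exact hz)
    (by simp only [pt, m, Category.assoc, pullback.lift_snd])
  haveI : LocallyOfFiniteType g := w ▸ inferInstance
  haveI : LocallyOfFiniteType (m ≫ pullback.snd h ξ) := by
    rw [pullback.lift_snd]; infer_instance
  haveI : LocallyOfFiniteType m := locallyOfFiniteType_of_comp m (pullback.snd h ξ)
  haveI : LocallyQuasiFinite (pullback.snd g ξ) := inferInstance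
  haveI : JacobsonSpace ↥(pullback h ξ) := LocallyOfFiniteType.jacobsonSpace (pullback.snd h ξ)
  haveI : DiscreteTopology ↥(pullback g ξ) := isDiscrete_univ_iff.1 (by
    have h1 := (pullback.snd g ξ).isDiscrete_preimage_singleton (default : Spec (CommRingCat.of Ω))
    have h2 : (pullback.snd g ξ) ⁻¹' {(default : Spec (CommRingCat.of Ω))} = Set.univ :=
      Set.eq_univ_of_forall fun _ => Subsingleton.elim _ _
    rwa [h2] at h1)
  have hcl := m.closePoints_subset_preimage_closedPoints
    (show pt.base default ∈ closedPoints ↥(pullback g ξ) from isClosed_discrete _)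
  have e₁ : m.base (pt.base default) = ζ.base (l.base default) :=
    (Scheme.Hom.comp_apply pt m _).symm.trans ((congrArg (fun p : Spec (CommRingCat.of k) ⟶ pullback h ξ => p.base default) hm).trans
      (Scheme.Hom.comp_apply l ζ _))
  have e₂ : ζ.base (l.base default) = x := hζ.subset ⟨_, rfl⟩
  have := (show m.base (pt.base default) ∈ closedPoints ↥(pullback h ξ) from hcl)
  rw [e₁, e₂] at this
  exact this

end Groth.Agent.EtPBCq
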