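import Groth.Agent.EtPBCq.RshriekTools
import Groth.Agent.EtPBCq.ShriekPush
import Groth.Agent.S0686
import Groth.Agent.S8603

/-!
# Independence of the compactification
-/

set_option autoImplicit false
set_option linter.style.haveILetI false
set_option backward.isDefEq.respectTransparency false
set_option backward.isDefEq.respectTransparency.types false
set_option maxHeartbeats 1000000

universe u

open CategoryTheory CategoryTheory.Limits AlgebraicGeometry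

attribute [local instance] HasDerivedCategory.standard

namespace Groth.Agent.EtPBCq

/-- Direct image with proper support does not change along a proper morphism of compactifications. -/
theorem nonempty_Rpush_extZeroD_iso {X P P₁ Y : Scheme.{u}} (j : X ⟶ P) [IsOpenImmersion j] (p : P ⟶ P₁) [IsProper p]
    (j₁ : X ⟶ P₁) [IsOpenImmersion j₁] (w : j ≫ p = j₁) (b : P₁ ⟶ Y) (b₀ : P ⟶ Y) (w₀ : p ≫ b = b₀)
    [PreservesFiniteLimits (EtShriek.extZero j)] [PreservesFiniteLimits (EtShriek.extZero j₁)]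
    [DCoh.HasRpushEt P b₀] [DCoh.HasRpushEt P₁ b] (K : DCoh.DEt X) (a : ℤ)
    (hb : ∀ n : ℤ, n < a → IsZero (DCoh.HDEt K n)) (ht : ∀ n : ℤ, EtCoh.IsTorsion (DCoh.HDEt K n)) :
    Nonempty ((DCoh.RpushEt P b₀).obj ((DEt.extZeroD j).obj K) ≅
      (DCoh.RpushEt P₁ b).obj ((DEt.extZeroD j₁).obj K)) := by
  subst w₀
  haveI := hasRpushEt p
  obtain ⟨T, hT, htT, -, ⟨eT⟩⟩ := exists_torsion_rep K a hb ht
  haveI := hT
  obtain ⟨e₂⟩ := Groth.Agent.S0686.result j p j₁ w.symm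
  obtain ⟨e₃⟩ := ShriekLib.nonempty_extZero_iso_lowerShriek j₁
  obtain ⟨e₄⟩ := ShriekLib.nonempty_extZero_iso_lowerShriek j
  let e' := e₄ ≪≫ (ShriekLib.shriekShIso j).symm
  haveI : LocallyQuasiFinite (j ≫ p) := by rw [w]; infer_instance
  obtain ⟨e⟩ := nonempty_RpushEt_mapD_iso p (EtShriek.extZero j) (EtShriek.extZero j₁) (e₃ ≪≫ e₂).symm T a
    (fun n q => (isZero_Rpush_shriekSh j p (j ≫ p) rfl (htT n) q).of_iso
      ((EtCoh.Rpush p (q + 1)).mapIso (e'.app (T.X n))))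
  haveI := S4329.result p b
  exact ⟨(DCoh.RpushEt P (p ≫ b)).mapIso ((DEt.extZeroD j).mapIso eT.symm) ≪≫
    (asIso (EtSix.compMap p b)).app _ ≪≫
    (DCoh.RpushEt P₁ b).mapIso (e ≪≫ ((EtShriek.extZero j₁).mapDerivedCategoryFactors.app T).symm ≪≫
      (DEt.extZeroD j₁).mapIso eT)⟩

theorem nonempty_Rshriek_iso {X Y : Scheme.{u}} [CompactSpace ↥X] [QuasiSeparatedSpace ↥X] [CompactSpace ↥Y] [QuasiSeparatedSpace ↥Y]
    {f : X ⟶ Y} (c c' : DEt.Compactification f) [PreservesFiniteLimits (EtShriek.extZero c.j)]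
    [DCoh.HasRpushEt c.Xbar c.fbar] [PreservesFiniteLimits (EtShriek.extZero c'.j)]
    [DCoh.HasRpushEt c'.Xbar c'.fbar] (K : DCoh.DEt X) (a : ℤ)
    (hb : ∀ n : ℤ, n < a → IsZero (DCoh.HDEt K n)) (ht : ∀ n : ℤ, EtCoh.IsTorsion (DCoh.HDEt K n)) :
    Nonempty ((DEt.Rshriek c).obj K ≅ (DEt.Rshriek c').obj K) := by
  obtain ⟨d, p₁, p₂, _, _, h₁, h₂, h₁', h₂'⟩ := Groth.Agent.S8603.result c c'
  haveI := EtFound.extZero_preservesFiniteLimits d.j
  haveI := hasRpushEt d.fbar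
  obtain ⟨e₁⟩ := nonempty_Rpush_extZeroD_iso d.j p₁ c.j h₁ c.fbar d.fbar h₁' K a hb ht
  obtain ⟨e₂⟩ := nonempty_Rpush_extZeroD_iso d.j p₂ c'.j h₂ c'.fbar d.fbar h₂' K a hb ht
  exact ⟨e₁.symm ≪≫ e₂⟩

end Groth.Agent.EtPBCq
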