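import Groth.Agent.EtPBCq.ShriekSquare
import Groth.Agent.EtPBCq.RshriekIndep
import Groth.Agent.S0384
import Groth.Agent.S4329

/-!
# Composition of direct images with proper support
-/

set_option autoImplicit false
set_option linter.style.haveILetI false
set_option backward.isDefEq.respectTransparency false
set_option backward.isDefEq.respectTransparency.types false
set_option maxHeartbeats 1000000

universe u

open CategoryTheory CategoryTheory.Limits AlgebraicGeometry

attribute [local instance] HasDerivedCategory.standard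

namespace Groth.Agent.EtPBCq

theorem nonempty_extZeroD_comp {A B C : Scheme.{u}} (i : A ⟶ B) (k : B ⟶ C) [IsOpenImmersion i] [IsOpenImmersion k]
    [PreservesFiniteLimits (EtShriek.extZero i)] [PreservesFiniteLimits (EtShriek.extZero k)]
    [PreservesFiniteLimits (EtShriek.extZero (i ≫ k))] (K : DCoh.DEt A) :
    Nonempty ((DEt.extZeroD k).obj ((DEt.extZeroD i).obj K) ≅ (DEt.extZeroD (i ≫ k)).obj K) := by
  obtain ⟨e₁⟩ := ShriekLib.nonempty_extZero_iso_lowerShriek i
  obtain ⟨e₂⟩ := ShriekLib.nonempty_extZero_iso_lowerShriek k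
  obtain ⟨e₃⟩ := ShriekLib.nonempty_extZero_iso_lowerShriek (i ≫ k)
  obtain ⟨e₄⟩ := Groth.Agent.S0685.result i k
  let e : EtShriek.extZero i ⋙ EtShriek.extZero k ≅ EtShriek.extZero (i ≫ k) :=
    Functor.isoWhiskerRight e₁ _ ≪≫ Functor.isoWhiskerLeft _ e₂ ≪≫ e₄.symm ≪≫ e₃.symm
  let L := (DerivedCategory.Q (C := EtCoh.Ab A)).objPreimage K
  let eL : DerivedCategory.Q.obj L ≅ K := (DerivedCategory.Q (C := EtCoh.Ab A)).objObjPreimageIso K
  exact ⟨(DEt.extZeroD k).mapIso ((DEt.extZeroD i).mapIso eL.symm ≪≫ (EtShriek.extZero i).mapDerivedCategoryFactors.app L) ≪≫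
    (EtShriek.extZero k).mapDerivedCategoryFactors.app _ ≪≫
    DerivedCategory.Q.mapIso (HomologicalComplex.Hom.isoOfComponents
      (C₁ := ((EtShriek.extZero k).mapHomologicalComplex (ComplexShape.up ℤ)).obj
        (((EtShriek.extZero i).mapHomologicalComplex (ComplexShape.up ℤ)).obj L))
      (C₂ := ((EtShriek.extZero (i ≫ k)).mapHomologicalComplex (ComplexShape.up ℤ)).obj L)
      (fun n => e.app (L.X n)) (fun n m _ => (e.hom.naturality (L.d n m)).symm)) ≪≫
    ((EtShriek.extZero (i ≫ k)).mapDerivedCategoryFactors.app L).symm ≪≫ (DEt.extZeroD (i ≫ k)).mapIso eL⟩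

theorem nonempty_Rshriek_comp_iso {X Y Z : Scheme.{u}} [CompactSpace ↥X] [QuasiSeparatedSpace ↥X] [CompactSpace ↥Y]
    [QuasiSeparatedSpace ↥Y] [CompactSpace ↥Z] [QuasiSeparatedSpace ↥Z]
    {f : X ⟶ Y} {g : Y ⟶ Z} (c : DEt.Compactification f)
    [PreservesFiniteLimits (EtShriek.extZero c.j)] [DCoh.HasRpushEt c.Xbar c.fbar]
    (d : DEt.Compactification g) [PreservesFiniteLimits (EtShriek.extZero d.j)] [DCoh.HasRpushEt d.Xbar d.fbar]
    (e : DEt.Compactification (f ≫ g)) [PreservesFiniteLimits (EtShriek.extZero e.j)]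
    [DCoh.HasRpushEt e.Xbar e.fbar] (K : DCoh.DEt X) (a : ℤ)
    (hb : ∀ n : ℤ, n < a → IsZero (DCoh.HDEt K n)) (ht : ∀ n : ℤ, EtCoh.IsTorsion (DCoh.HDEt K n)) :
    Nonempty ((DEt.Rshriek d).obj ((DEt.Rshriek c).obj K) ≅ (DEt.Rshriek e).obj K) := by
  haveI : CompactSpace ↥d.Xbar := QuasiCompact.compactSpace_of_compactSpace d.fbar
  haveI : QuasiSeparatedSpace ↥d.Xbar := quasiSeparatedSpace_of_quasiSeparated d.fbar
  haveI : CompactSpace ↥c.Xbar := QuasiCompact.compactSpace_of_compactSpace c.fbar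
  haveI : QuasiCompact d.j := inferInstance
  obtain ⟨W, j', g', _, _, _, w⟩ := Groth.Agent.S0384.result (c.fbar ≫ d.j)
  haveI := EtFound.extZero_preservesFiniteLimits j'
  haveI := EtFound.extZero_preservesFiniteLimits (c.j ≫ j')
  haveI := hasRpushEt g'
  haveI := hasRpushEt (g' ≫ d.fbar)
  let L := (DEt.extZeroD c.j).obj K
  have hL : ∀ n : ℤ, Nonempty (DCoh.HDEt L n ≅ (EtShriek.extZero c.j).obj (DCoh.HDEt K n)) := fun n =>
    nonempty_homology_mapDerivedCategory (EtShriek.extZero c.j) K n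
  obtain ⟨e₁⟩ := nonempty_extZeroD_Rpush_iso j' d.j c.fbar g' w L a
    (fun n hn => ((EtShriek.extZero c.j).map_isZero (hb n hn)).of_iso (hL n).some)
    (fun n => isTorsion_of_iso (hL n).some.symm (isTorsion_extZero c.j (ht n)))
  obtain ⟨e₂⟩ := nonempty_extZeroD_comp c.j j' K
  haveI := S4329.result g' d.fbar
  let e' : DEt.Compactification (f ≫ g) :=
    ⟨W, c.j ≫ j', g' ≫ d.fbar, inferInstance, inferInstance, by
      rw [Category.assoc, ← Category.assoc j', w, Category.assoc, d.fac, ← Category.assoc, c.fac]⟩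
  haveI : PreservesFiniteLimits (EtShriek.extZero e'.j) := inferInstanceAs (PreservesFiniteLimits (EtShriek.extZero (c.j ≫ j')))
  haveI : DCoh.HasRpushEt e'.Xbar e'.fbar := inferInstanceAs (DCoh.HasRpushEt W (g' ≫ d.fbar))
  obtain ⟨e₃⟩ := nonempty_Rshriek_iso e' e K a hb ht
  exact ⟨(DCoh.RpushEt d.Xbar d.fbar).mapIso e₁.symm ≪≫ ((asIso (EtSix.compMap g' d.fbar)).app _).symm ≪≫
    (DCoh.RpushEt W (g' ≫ d.fbar)).mapIso e₂ ≪≫ e₃⟩

end Groth.Agent.EtPBCq
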