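import Groth.Agent.EtPBCq.RpushCoprod
import Groth.Agent.EtPBCq.ShriekCd

/-!
# Direct images with proper support and direct sums
-/

set_option autoImplicit false
set_option linter.style.haveILetI false
set_option backward.isDefEq.respectTransparency false
set_option backward.isDefEq.respectTransparency.types false
set_option maxHeartbeats 1000000

universe t v u w

open CategoryTheory CategoryTheory.Limits AlgebraicGeometry

attribute [local instance] HasDerivedCategory.standard

namespace Groth.Agent.EtPBCq

/-- Coproducts indexed by a type and by its universe lift. -/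
theorem preservesColimit_of_ulift {C : Type*} [Category C] {D : Type*} [Category D] (F : C ⥤ D) {ι : Type t}
    (K : ι → C) [PreservesColimit (Discrete.functor fun i : ULift.{w} ι => K i.down) F] :
    PreservesColimit (Discrete.functor K) F := by
  let e : Discrete (ULift.{w} ι) ≌ Discrete ι := Discrete.equivalence Equiv.ulift
  refine ⟨fun {c} hc => ⟨(IsColimit.whiskerEquivalenceEquiv e).symm ?_⟩⟩
  haveI : PreservesColimit (e.functor ⋙ Discrete.functor K) F :=
    preservesColimit_of_iso_diagram F (Discrete.natIso fun i => Iso.refl _ :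
      Discrete.functor (fun i : ULift.{w} ι => K i.down) ≅ e.functor ⋙ Discrete.functor K)
  exact isColimitOfPreserves F ((IsColimit.whiskerEquivalenceEquiv e) hc)

variable {U X Y : Scheme.{u}}

/-- An exact functor commuting with direct sums induces such a functor on derived categories. -/
theorem preservesColimit_mapDerivedCategory (E : EtCoh.Ab U ⥤ EtCoh.Ab X) [E.Additive]
    [PreservesFiniteLimits E] [PreservesFiniteColimits E] {J : Type (u + 1)}
    [PreservesColimitsOfShape (Discrete J) E] (C : J → DCoh.DEt U) :
    PreservesColimit (Discrete.functor C) E.mapDerivedCategory := by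
  haveI := IsGrothendieckAbelian.hasColimits (EtCoh.Ab U)
  haveI := IsGrothendieckAbelian.hasColimits (EtCoh.Ab X)
  haveI : PreservesColimitsOfShape (Discrete J) (E.mapHomologicalComplex (ComplexShape.up ℤ)) :=
    ⟨fun {K} => ⟨fun {c} hc => ⟨HomologicalComplex.isColimitOfEval _ _ fun m =>
      isColimitOfPreserves (HomologicalComplex.eval (EtCoh.Ab U) (ComplexShape.up ℤ) m ⋙ E) hc⟩⟩⟩
  haveI : HasColimitsOfShape (Discrete J) (DCoh.DEt U) := TriCat.hasColimitsOfShape_derivedCategory
  haveI : HasColimitsOfShape (Discrete J) (DCoh.DEt X) := TriCat.hasColimitsOfShape_derivedCategory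
  let K := fun j => (DerivedCategory.Q (C := EtCoh.Ab U)).objPreimage (C j)
  haveI : IsIso (sigmaComparison E.mapDerivedCategory C) :=
    KFlatLib.isIso_sigmaDesc' E.mapDerivedCategory _ E.mapDerivedCategoryFactors.inv C K
      (fun j => (DerivedCategory.Q (C := EtCoh.Ab U)).objObjPreimageIso (C j)) (fun j => inferInstance) inferInstance
  exact PreservesCoproduct.of_iso_comparison E.mapDerivedCategory C

/-- `Rfbar_* ∘ j_!` commutes with uniformly bounded below direct sums with torsion cohomology. -/
theorem preservesColimit_Rpush_extZeroD (j : U ⟶ X) [IsOpenImmersion j] [PreservesFiniteLimits (EtShriek.extZero j)]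
    (p : X ⟶ Y) [QuasiCompact p] [QuasiSeparated p] [DCoh.HasRpushEt X p] {J : Type (u + 1)} (K : J → DCoh.DEt U)
    (a : ℤ) (hb : ∀ i, ∀ n : ℤ, n < a → IsZero (DCoh.HDEt (K i) n))
    (ht : ∀ i, ∀ n : ℤ, EtCoh.IsTorsion (DCoh.HDEt (K i) n)) :
    PreservesColimit (Discrete.functor K) (DEt.extZeroD j ⋙ DCoh.RpushEt X p) := by
  haveI := IsGrothendieckAbelian.hasColimits (EtCoh.Ab U)
  haveI := IsGrothendieckAbelian.hasColimits (EtCoh.Ab X)
  haveI : (EtShriek.extZero j).IsLeftAdjoint := (EtShriek.extZeroAdj j).isLeftAdjoint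
  haveI : PreservesColimitsOfShape (Discrete J) (EtShriek.extZero j) :=
    haveI := (EtShriek.extZeroAdj j).leftAdjoint_preservesColimits
    inferInstance
  haveI := preservesColimit_mapDerivedCategory (EtShriek.extZero j) K
  have h : ∀ i, ∃ T : CochainComplex (EtCoh.Ab X) ℤ, T.IsStrictlyGE a ∧
      (∀ (n : ℤ) (q : ℕ), IsZero ((EtCoh.Rpush p (q + 1)).obj (T.X n))) ∧
      Nonempty (DerivedCategory.Q.obj T ≅ (DEt.extZeroD j).obj (K i)) := fun i => by
    have hL := nonempty_homology_mapDerivedCategory (EtShriek.extZero j) (K i)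
    obtain ⟨T, hT, -, hac, e⟩ := exists_torsion_rep ((DEt.extZeroD j).obj (K i)) a
      (fun n hn => ((EtShriek.extZero j).map_isZero (hb i n hn)).of_iso (hL n).some)
      (fun n => isTorsion_of_iso (hL n).some.symm (isTorsion_extZero j (ht i n)))
    exact ⟨T, hT, fun n q => hac n p q, e⟩
  choose T hT hac e using h
  haveI := hT
  haveI := isStrictlyGE_sigma T a hT
  haveI : PreservesColimit (Discrete.functor fun i => (DEt.extZeroD j).obj (K i)) (DCoh.RpushEt X p) := by
    refine preservesColimit_RpushEt p _ T (fun i => (e i).some)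
      (fun i => isIso_rpushUnitEt_of_acyclic p (T i) a (hac i))
      (isIso_rpushUnitEt_of_acyclic p (∐ T) a fun n q => ?_)
    exact (isZero_Rpush_sigma p (fun i => (T i).X n) (q + 1) fun i => hac i n q).of_iso
      ((EtCoh.Rpush p (q + 1)).mapIso (PreservesCoproduct.iso (HomologicalComplex.eval (EtCoh.Ab X) (ComplexShape.up ℤ) n) T))
  haveI : PreservesColimit (Discrete.functor K ⋙ DEt.extZeroD j) (DCoh.RpushEt X p) :=
    preservesColimit_of_iso_diagram (DCoh.RpushEt X p) (Discrete.natIso fun i => Iso.refl _ :
      Discrete.functor (fun i => (DEt.extZeroD j).obj (K i)) ≅ Discrete.functor K ⋙ DEt.extZeroD j)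
  exact Limits.comp_preservesColimit _ _

end Groth.Agent.EtPBCq
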