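import Groth.Agent.EtPBCq.AcyclicComplex
import Groth.Agent.EtFound.ExtZeroExact
import Groth.Agent.ShriekLib.Compact
import Groth.Prelude.Def_DEt2

/-!
# Tools for derived direct images with proper support
-/

set_option autoImplicit false
set_option linter.style.haveILetI false
set_option backward.isDefEq.respectTransparency false
set_option backward.isDefEq.respectTransparency.types false
set_option maxHeartbeats 1000000

universe u v₁ u₁ v₂ u₂ w₁ w₂

open CategoryTheory CategoryTheory.Limits AlgebraicGeometry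

attribute [local instance] HasDerivedCategory.standard

namespace Groth.Agent.EtPBCq

section MapD

variable {A : Type u₁} [Category.{v₁} A] [Abelian A] [HasDerivedCategory.{w₁} A]
  {B : Type u₂} [Category.{v₂} B] [Abelian B] [HasDerivedCategory.{w₂} B]

/-- The homology of the image of an object under an exact functor. -/
theorem nonempty_homology_mapDerivedCategory (F : A ⥤ B) [F.Additive] [PreservesFiniteLimits F]
    [PreservesFiniteColimits F] (K : DerivedCategory A) (n : ℤ) :
    Nonempty ((DerivedCategory.homologyFunctor B n).obj (F.mapDerivedCategory.obj K) ≅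
      F.obj ((DerivedCategory.homologyFunctor A n).obj K)) := by
  let L := (DerivedCategory.Q (C := A)).objPreimage K
  let e : DerivedCategory.Q.obj L ≅ K := (DerivedCategory.Q (C := A)).objObjPreimageIso K
  exact ⟨(DerivedCategory.homologyFunctor B n).mapIso (F.mapDerivedCategory.mapIso e.symm ≪≫
      F.mapDerivedCategoryFactors.app L) ≪≫
    (DerivedCategory.homologyFunctorFactors B n).app _ ≪≫
    ShortComplex.mapHomologyIso (L.sc n) F ≪≫
    F.mapIso (((DerivedCategory.homologyFunctorFactors A n).app L).symm ≪≫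
      (DerivedCategory.homologyFunctor A n).mapIso e)⟩

/-- The map of complexes induced by a natural isomorphism. -/
noncomputable def cxIsoOfNatIso {C : Type*} [Category C] [Preadditive C] {D : Type*} [Category D] [Preadditive D]
    {F G : C ⥤ D} [F.PreservesZeroMorphisms] [G.PreservesZeroMorphisms] (e : F ≅ G) (L : CochainComplex C ℤ) :
    (F.mapHomologicalComplex (ComplexShape.up ℤ)).obj L ≅ (G.mapHomologicalComplex (ComplexShape.up ℤ)).obj L :=
  HomologicalComplex.Hom.isoOfComponents (fun i => e.app (L.X i)) (fun i k _ => (e.hom.naturality (L.d i k)).symm)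

end MapD

variable {U X Y : Scheme.{u}}

theorem hasRpushEt (f : X ⟶ Y) : DCoh.HasRpushEt X f := by
  haveI := Groth.Agent.TriCat.qh_isLeftAdjoint_of_exists_resolution (S4329.Aux.exists_kInj X)
  let adjQ := Adjunction.ofIsLeftAdjoint (DerivedCategory.Qh (C := EtCoh.Ab X))
  haveI : ((DerivedCategory.Qh (C := EtCoh.Ab X)).rightAdjoint ⋙ DCoh.pushEtKh X f).IsRightDerivedFunctor
      (Functor.whiskerRight adjQ.unit (DCoh.pushEtKh X f))
      (HomotopyCategory.quasiIso (EtCoh.Ab X) (ComplexShape.up ℤ)) :=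
    TriCat.isRightDerivedFunctor_of_adjunction adjQ _ (DCoh.pushEtKh X f)
  exact Functor.HasRightDerivedFunctor.mk' (L := DerivedCategory.Qh)
    (W := HomotopyCategory.quasiIso (EtCoh.Ab X) (ComplexShape.up ℤ))
    ((DerivedCategory.Qh (C := EtCoh.Ab X)).rightAdjoint ⋙ DCoh.pushEtKh X f)
    ((Functor.whiskerRight adjQ.unit (DCoh.pushEtKh X f) :) : DCoh.pushEtKh X f ⟶
      DerivedCategory.Qh ⋙ DerivedCategory.Qh.rightAdjoint ⋙ DCoh.pushEtKh X f)

/-- For a proper morphism, direct image with proper support is the direct image. -/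
theorem nonempty_lowerShriek_iso_push (f : X ⟶ Y) [IsProper f] :
    Nonempty (EtShriek.lowerShriek f ≅ EtCoh.push f) := by
  haveI : ∀ F, IsIso ((ShriekLib.shriekShι f).app F) := ShriekLib.isIso_shriekShι_of_isProper f
  haveI := NatIso.isIso_of_isIso_app (ShriekLib.shriekShι f)
  exact ⟨(ShriekLib.shriekShIso f).symm ≪≫ asIso (ShriekLib.shriekShι f)⟩

/-- The derived direct image of the image of a torsion representative. -/
theorem nonempty_RpushEt_mapD_iso (f : X ⟶ Y) [DCoh.HasRpushEt X f] (E : EtCoh.Ab U ⥤ EtCoh.Ab X) [E.Additive]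
    [PreservesFiniteLimits E] [PreservesFiniteColimits E] (Φ : EtCoh.Ab U ⥤ EtCoh.Ab Y) [Φ.Additive]
    (e : E ⋙ EtCoh.push f ≅ Φ) (T : CochainComplex (EtCoh.Ab U) ℤ) (a : ℤ) [T.IsStrictlyGE a]
    (hac : ∀ (n : ℤ) (q : ℕ), IsZero ((EtCoh.Rpush f (q + 1)).obj (E.obj (T.X n)))) :
    Nonempty ((DCoh.RpushEt X f).obj (E.mapDerivedCategory.obj (DerivedCategory.Q.obj T)) ≅
      DerivedCategory.Q.obj ((Φ.mapHomologicalComplex (ComplexShape.up ℤ)).obj T)) := by
  obtain ⟨e₁⟩ := nonempty_RpushEt_Q_iso f ((E.mapHomologicalComplex (ComplexShape.up ℤ)).obj T) a hac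
  exact ⟨(DCoh.RpushEt X f).mapIso (E.mapDerivedCategoryFactors.app T) ≪≫ e₁ ≪≫
    DerivedCategory.Q.mapIso (HomologicalComplex.Hom.isoOfComponents (fun i => e.app (T.X i))
      (fun i k _ => (e.hom.naturality (T.d i k)).symm))⟩

theorem isTorsion_of_iso {A B : EtCoh.Ab X} (e : A ≅ B) (h : EtCoh.IsTorsion A) : EtCoh.IsTorsion B :=
  CurveCd.isTorsion_of_mono e.inv h

end Groth.Agent.EtPBCq
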