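import Groth.Agent.EtPBCq.FieldStep
import Groth.Agent.EtContLib.PullSys
import Groth.Agent.S0646
import Mathlib.RingTheory.FiniteType
import Mathlib.CategoryTheory.Comma.Over.Pullback

/-!
# Proper schemes under extensions of separably closed fields
-/

set_option autoImplicit false
set_option linter.style.haveILetI false
set_option backward.isDefEq.respectTransparency false
set_option backward.isDefEq.respectTransparency.types false
set_option maxHeartbeats 1000000

universe u

open CategoryTheory CategoryTheory.Limits AlgebraicGeometry Opposite TopologicalSpace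

namespace Groth.Agent.EtPBCq

open EtContLib in
theorem HpullVia_trans {A B C D : Scheme.{u}} (u : A ⟶ B) (v : B ⟶ C) (uv : A ⟶ C) (huv : u ≫ v = uv)
    (t : C ⟶ D) (vt : B ⟶ D) (hvt : v ≫ t = vt) (r : A ⟶ D) (hu : u ≫ vt = r) (huvt : uv ≫ t = r)
    [PreservesFiniteLimits (EtCoh.pull u)] [PreservesFiniteLimits (EtCoh.pull v)]
    [PreservesFiniteLimits (EtCoh.pull uv)] (G : EtCoh.Ab D) (q : ℕ) (ξ : EtCoh.H C ((EtCoh.pull t).obj G) q) :
    EtCore.HpullVia u vt r hu G q (EtCore.HpullVia v t vt hvt G q ξ) = EtCore.HpullVia uv t r huvt G q ξ := by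
  have h := HpullThen_comp u v uv huv (pullVia v t vt hvt G).hom (pullVia u vt r hu G).hom q ξ
  refine h.trans ?_
  refine congrArg (fun a => EtLim.HpullThen uv _ a q ξ) ?_
  refine comp2_id_injective uv t r huvt ?_
  refine Eq.trans ?_ (comp2_id_pullVia _ _ _ _ G).symm
  refine (comp2_assoc u v t uv vt r huv hvt hu huvt _ _ _).symm.trans ?_
  exact (congrArg (fun a => comp2 _ _ _ _ a _) (comp2_id_pullVia _ _ _ _ G)).trans (comp2_id_pullVia _ _ _ _ G)

open EtContLib in
theorem HpullVia_Hpull {A B C : Scheme.{u}} (u : A ⟶ B) (t : B ⟶ C) (r : A ⟶ C) (w : u ≫ t = r)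
    [PreservesFiniteLimits (EtCoh.pull u)] [PreservesFiniteLimits (EtCoh.pull t)]
    [PreservesFiniteLimits (EtCoh.pull r)] (G : EtCoh.Ab C) (q : ℕ) (z : EtCoh.H C G q) :
    EtCore.HpullVia u t r w G q (EtCore.Hpull t G q z) = EtCore.Hpull r G q z := by
  have hid : ∀ {X Z : Scheme.{u}} (f : X ⟶ Z) [PreservesFiniteLimits (EtCoh.pull f)] (H : EtCoh.Ab Z) (e),
      EtLim.HpullThen f H (𝟙 ((EtCoh.pull f).obj H)) q e = EtCore.Hpull f H q e := fun f _ H e => by
    show (EtCoh.HF _ q).map (𝟙 _) (EtCore.Hpull f H q e) = _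
    rw [CategoryTheory.Functor.map_id]
    rfl
  rw [← hid t, ← hid r]
  exact (HpullThen_comp u t r w (𝟙 _) (pullVia u t r w G).hom q z).trans
    (congrArg (fun a => EtLim.HpullThen r G a q z) (comp2_id_pullVia _ _ _ _ G))

section FG

variable {k : Type u} [Field k] (K : Type u) [Field K] [Algebra k K]

/-- The spectra of the finitely generated subalgebras. -/
noncomputable def fgStages : ({T : Subalgebra k K // T.FG})ᵒᵖ ⥤ Over (Spec (CommRingCat.of k)) where
  obj T := Over.mk (Spec.map (CommRingCat.ofHom (algebraMap k T.unop.1)))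
  map h := Over.homMk (Spec.map (CommRingCat.ofHom (Subalgebra.inclusion (show (_ : Subalgebra k K) ≤ _ from leOfHom h.unop)).toRingHom)) (by
    dsimp
    rw [← Spec.map_comp]
    exact congrArg Spec.map (CommRingCat.hom_ext (RingHom.ext fun _ => rfl)))
  map_id T := Over.OverMorphism.ext (by
    dsimp
    rw [← Spec.map_id]
    exact congrArg Spec.map (CommRingCat.hom_ext (RingHom.ext fun _ => rfl)))
  map_comp h h' := Over.OverMorphism.ext (by
    show Spec.map _ = Spec.map _ ≫ Spec.map _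
    refine Eq.symm ((Spec.map_comp _ _).symm.trans ?_)
    exact congrArg Spec.map (CommRingCat.hom_ext (RingHom.ext fun _ => rfl)))

/-- The cone with vertex the field. -/
noncomputable def fgCone : Cone (fgStages (k := k) K) where
  pt := Over.mk (Spec.map (CommRingCat.ofHom (algebraMap k K)))
  π :=
    { app := fun T => Over.homMk (Spec.map (CommRingCat.ofHom T.unop.1.val.toRingHom)) (by
        dsimp [fgStages]
        rw [← Spec.map_comp]
        exact congrArg Spec.map (CommRingCat.hom_ext (RingHom.ext fun _ => rfl)))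
      naturality := fun T T' h => Over.OverMorphism.ext (by
        refine (Category.id_comp _).trans ?_
        show Spec.map _ = Spec.map _ ≫ Spec.map _
        refine Eq.symm ((Spec.map_comp _ _).symm.trans ?_)
        exact congrArg Spec.map (CommRingCat.hom_ext (RingHom.ext fun _ => rfl))) }

/-- It is a limit. -/
theorem nonempty_isLimit_fgCone : Nonempty (IsLimit (fgCone (k := k) K)) := by
  let ι := {T : Subalgebra k K // T.FG}
  haveI : Nonempty ι := ⟨⟨⊥, Subalgebra.fg_bot⟩⟩
  haveI : IsDirectedOrder ι :=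
    ⟨fun a b => ⟨⟨a.1 ⊔ b.1, a.2.sup b.2⟩, (le_sup_left : a.1 ≤ _), (le_sup_right : b.1 ≤ _)⟩⟩
  haveI : IsFiltered ι := isFiltered_of_directed_le_nonempty _
  haveI : IsConnected ιᵒᵖ := IsCofiltered.isConnected _
  let R : ι ⥤ CommRingCat.{u} :=
    { obj := fun T => CommRingCat.of T.1
      map := fun h => CommRingCat.ofHom (Subalgebra.inclusion (leOfHom h)).toRingHom }
  let cR : Cocone R := { pt := CommRingCat.of K, ι := { app := fun T => CommRingCat.ofHom T.1.val.toRingHom } }
  haveI : ReflectsColimit R (forget CommRingCat.{u}) := reflectsColimit_of_reflectsIsomorphisms _ _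
  have hR : IsColimit cR := by
    refine isColimitOfReflects (forget CommRingCat.{u}) ?_
    refine Types.FilteredColimit.isColimitOf' _ _ (fun z => ?_) fun i a b h => ?_
    · exact ⟨⟨Algebra.adjoin k {z}, ⟨{z}, by simp⟩⟩, ⟨z, Algebra.subset_adjoin rfl⟩, rfl⟩
    · exact ⟨i, 𝟙 i, congrArg (R.map (𝟙 i)) (Subtype.ext h : a = b)⟩
  exact ⟨isLimitOfReflects (Over.forget _) (isLimitOfPreserves Scheme.Spec hR.op)⟩

end FG

/-- Extensions of separably closed fields. -/
theorem bcInv_sepClosed {k K : Type u} [Field k] [IsSepClosed k] [Field K] [IsSepClosed K] {Y : Scheme.{u}}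
    (a : Y ⟶ Spec (CommRingCat.of k)) [IsProper a] (σ : Spec (CommRingCat.of K) ⟶ Spec (CommRingCat.of k)) :
    BCInv a σ := by
  obtain ⟨i, rfl⟩ := Spec.map_surjective σ
  letI : Algebra k K := i.hom.toAlgebra
  intro P p b c _ F hF q
  let ι := {T : Subalgebra k K // T.FG}
  haveI : Nonempty ι := ⟨⟨⊥, Subalgebra.fg_bot⟩⟩
  haveI : IsDirectedOrder ι :=
    ⟨fun a b => ⟨⟨a.1 ⊔ b.1, a.2.sup b.2⟩, (le_sup_left : a.1 ≤ _), (le_sup_right : b.1 ≤ _)⟩⟩
  haveI : IsFiltered ι := isFiltered_of_directed_le_nonempty _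
  haveI : IsConnected ιᵒᵖ := IsCofiltered.isConnected _
  obtain ⟨hlim⟩ := nonempty_isLimit_fgCone (k := k) K
  let Fa := Over.pullback a
  let Xs : ιᵒᵖ ⥤ Scheme.{u} := fgStages (k := k) K ⋙ Fa ⋙ Over.forget Y
  let cn : Cone Xs := (Fa ⋙ Over.forget Y).mapCone (fgCone (k := k) K)
  haveI : Fa.IsRightAdjoint := (Over.mapPullbackAdj a).isRightAdjoint
  haveI : PreservesLimitsOfShape ιᵒᵖ Fa := inferInstance
  have hcn : IsLimit cn := isLimitOfPreserves _ hlim
  have haff : ∀ ⦃s t : ιᵒᵖ⦄ (h : s ⟶ t), IsAffineHom (Xs.map h) := fun s t h => by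
    haveI : IsAffine ((fgStages (k := k) K).obj s).left := inferInstanceAs (IsAffine (Spec _))
    haveI : IsAffine ((fgStages (k := k) K).obj t).left := inferInstanceAs (IsAffine (Spec _))
    haveI : IsAffineHom ((fgStages (k := k) K).map h).left := isAffineHom_of_isAffine _
    let St := (fgStages (k := k) K).obj t
    let Ss := (fgStages (k := k) K).obj s
    have sq : IsPullback (Xs.map h) (pullback.fst Ss.hom a) (pullback.fst St.hom a) ((fgStages (k := k) K).map h).left := by
      refine IsPullback.of_right ?_ (pullback.lift_fst _ _ _) (IsPullback.of_hasPullback St.hom a).flip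
      have e1 : Xs.map h ≫ pullback.snd St.hom a = pullback.snd Ss.hom a := pullback.lift_snd _ _ _
      rw [e1, Over.w]
      exact (IsPullback.of_hasPullback Ss.hom a).flip
    exact MorphismProperty.of_isPullback (P := @IsAffineHom) sq.flip ‹_›
  have hq : ∀ s : ιᵒᵖ, CompactSpace ↥(Xs.obj s) ∧ QuasiSeparatedSpace ↥(Xs.obj s) := fun s => by
    let Ss := (fgStages (k := k) K).obj s
    haveI : IsAffine Ss.left := inferInstanceAs (IsAffine (Spec _))
    exact ⟨QuasiCompact.compactSpace_of_compactSpace (pullback.fst Ss.hom a),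
      quasiSeparatedSpace_of_quasiSeparated (pullback.fst Ss.hom a)⟩
  haveI : ∀ s, PreservesFiniteLimits (EtCoh.pull (cn.π.app s)) := fun s => EtFound.pull_preservesFiniteLimits _
  haveI : ∀ ⦃s t : ιᵒᵖ⦄ (h : s ⟶ t), PreservesFiniteLimits (EtCoh.pull (Xs.map h)) :=
    fun s t h => EtFound.pull_preservesFiniteLimits _
  let i₀ : ι := Classical.arbitrary ι
  let qs : ∀ s, Xs.obj s ⟶ Y := fun s => pullback.snd ((fgStages (k := k) K).obj s).hom a
  have hqs : ∀ {s t : ιᵒᵖ} (h : s ⟶ t), Xs.map h ≫ qs t = qs s := fun h => pullback.lift_snd _ _ _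
  have hπq : ∀ s, cn.π.app s ≫ qs s = pullback.snd (Spec.map (CommRingCat.ofHom (algebraMap k K))) a :=
    fun s => pullback.lift_snd _ _ _
  -- every stage factors through a bijective one
  have hfac : ∀ j : ι, ∃ (Q : Scheme.{u}) (u : cn.pt ⟶ Q) (v : Q ⟶ Xs.obj (op j)), u ≫ v = cn.π.app (op j) ∧
      ∀ [PreservesFiniteLimits (EtCoh.pull (v ≫ qs (op j)))],
        Function.Bijective (EtCore.Hpull (v ≫ qs (op j)) F q) := fun j => by
    let T := Spec (CommRingCat.of j.1)
    let fT : T ⟶ Spec (CommRingCat.of k) := Spec.map (CommRingCat.ofHom (algebraMap k j.1))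
    haveI : Algebra.FiniteType k j.1 := j.1.fg_iff_finiteType.1 j.2
    haveI : LocallyOfFiniteType fT := (HasRingHomProperty.Spec_iff (P := @LocallyOfFiniteType)).2 (RingHom.finiteType_algebraMap.2 ‹_›)
    let η : Spec (CommRingCat.of K) ⟶ T := Spec.map (CommRingCat.ofHom j.1.val.toRingHom)
    obtain ⟨x, τ, hτ⟩ := EtPBC0.exists_fac_strictHenz η
    let RX := Hensel.StrictHenz (T.presheaf.stalk x)
    let g := Hens2.geomPt T x RX ≫ fT
    have hηf : η ≫ fT = Spec.map (CommRingCat.ofHom (algebraMap k K)) := by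
      rw [← Spec.map_comp]
      exact congrArg Spec.map (CommRingCat.hom_ext (RingHom.ext fun _ => rfl))
    have hg : Spec.map (CommRingCat.ofHom τ) ≫ g = Spec.map (CommRingCat.ofHom (algebraMap k K)) := by
      rw [← hηf, ← Category.assoc, hτ]
    let u : pullback (Spec.map (CommRingCat.ofHom (algebraMap k K))) a ⟶ pullback g a :=
      pullback.lift (pullback.fst _ _ ≫ Spec.map (CommRingCat.ofHom τ)) (pullback.snd _ _)
        (by rw [Category.assoc, hg, pullback.condition])
    let v : pullback g a ⟶ pullback fT a :=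
      pullback.lift (pullback.fst _ _ ≫ Hens2.geomPt T x RX) (pullback.snd _ _) (by rw [Category.assoc]; exact pullback.condition)
    refine ⟨pullback g a, u, v, ?_, ?_⟩
    · refine pullback.hom_ext ?_ ?_
      · refine (Category.assoc _ _ _).trans ((whisker_eq u (pullback.lift_fst _ _ _)).trans ?_)
        rw [← Category.assoc, pullback.lift_fst, Category.assoc, hτ]
        exact (pullback.lift_fst _ _ _).symm
      · refine (Category.assoc _ _ _).trans ((whisker_eq u (pullback.lift_snd _ _ _)).trans ?_)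
        exact (pullback.lift_snd _ _ _).trans (pullback.lift_snd _ _ _).symm
    · intro _
      have e : v ≫ qs (op j) = pullback.snd g a := pullback.lift_snd _ _ _
      exact bcInv_geomPt a fT x RX _ _ (pullback.fst g a)
        (by rw [e]; exact (IsPullback.of_hasPullback g a).flip) F hF q
  -- the limit
  let q₀ := qs (op i₀)
  let π₀ := cn.π.app (op i₀)
  haveI := EtFound.pull_preservesFiniteLimits q₀
  let G := (EtCoh.pull q₀).obj F
  have hp₀ : Function.Bijective (EtCore.Hpull π₀ G q ∘ EtCore.Hpull q₀ F q) := by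
    obtain ⟨hsurj, hinj⟩ := Groth.Agent.S0646.result Xs haff (fun s => (hq s).1) (fun s => (hq s).2) cn hcn i₀ G q
    refine ⟨(injective_iff_map_eq_zero ((EtCore.Hpull π₀ G q).comp (EtCore.Hpull q₀ F q))).2 fun η hη => ?_, fun ξ => ?_⟩
    · let t₀ := Xs.map (homOfLE (le_refl i₀)).op
      have e0 : EtCore.HpullVia π₀ t₀ π₀ (cn.w _) G q (EtCore.Hpull t₀ G q (EtCore.Hpull q₀ F q η)) = 0 :=
        (HpullVia_Hpull π₀ t₀ π₀ (cn.w _) G q _).trans hη
      obtain ⟨j, hj, hj0⟩ := hinj i₀ le_rfl _ e0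
      obtain ⟨Q, u, v, huv, hv⟩ := hfac j
      let t := Xs.map (homOfLE hj).op
      haveI := EtFound.pull_preservesFiniteLimits (t ≫ t₀)
      haveI := EtFound.pull_preservesFiniteLimits v
      haveI := EtFound.pull_preservesFiniteLimits (v ≫ t ≫ t₀)
      haveI := EtFound.pull_preservesFiniteLimits (v ≫ qs (op j))
      have e1 : EtCore.Hpull (t ≫ t₀) G q (EtCore.Hpull q₀ F q η) = 0 := by
        refine (HpullVia_Hpull t t₀ (t ≫ t₀) rfl G q _).symm.trans ?_
        show (EtCoh.HF _ q).map _ (EtCore.Hpull t _ q _) = 0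
        rw [hj0, map_zero]
      have e2 : EtCore.Hpull (v ≫ t ≫ t₀) G q (EtCore.Hpull q₀ F q η) = 0 := by
        refine (HpullVia_Hpull v (t ≫ t₀) (v ≫ t ≫ t₀) rfl G q _).symm.trans ?_
        rw [e1, map_zero]
      have hw : (v ≫ t ≫ t₀) ≫ q₀ = v ≫ qs (op j) := by
        rw [Category.assoc, Category.assoc, hqs, hqs]
      exact ((EtPBC0.AcycComp.Hpull_comp_iff (v ≫ t ≫ t₀) q₀ _ hw F q).1.1 hv).1
        ((congrArg _ (rfl : η = η)).trans (e2.trans (by simp)))
    · obtain ⟨j, hj, ξj, rfl⟩ := hsurj ξ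
      obtain ⟨Q, u, v, huv, hv⟩ := hfac j
      let t := Xs.map (homOfLE hj).op
      haveI := EtFound.pull_preservesFiniteLimits u
      haveI := EtFound.pull_preservesFiniteLimits v
      haveI := EtFound.pull_preservesFiniteLimits (v ≫ t)
      haveI := EtFound.pull_preservesFiniteLimits (v ≫ qs (op j))
      have hw : (v ≫ t) ≫ q₀ = v ≫ qs (op j) := by rw [Category.assoc, hqs]
      obtain ⟨η, hη⟩ := ((EtPBC0.AcycComp.Hpull_comp_iff (v ≫ t) q₀ _ hw F q).1.1 hv).2
        (EtCore.HpullVia v t (v ≫ t) rfl G q ξj)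
      have hu : u ≫ v ≫ t = π₀ := by rw [← Category.assoc, huv]; exact cn.w _
      refine ⟨η, ?_⟩
      refine (HpullVia_Hpull u (v ≫ t) π₀ hu G q _).symm.trans ?_
      refine (congrArg (EtCore.HpullVia u (v ≫ t) π₀ hu G q) hη).trans ?_
      exact HpullVia_trans u v _ huv t (v ≫ t) rfl π₀ hu (cn.w _) G q ξj
  let e : P ⟶ cn.pt := c.flip.isoPullback.hom
  haveI : IsIso e := inferInstanceAs (IsIso c.flip.isoPullback.hom)
  haveI := EtFound.pull_preservesFiniteLimits e
  have hr : PreservesFiniteLimits (EtCoh.pull (π₀ ≫ q₀)) := EtFound.pull_preservesFiniteLimits (π₀ ≫ q₀)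
  have hep : e ≫ π₀ ≫ q₀ = p := by
    rw [show π₀ ≫ q₀ = _ from hπq _]
    exact c.flip.isoPullback_hom_snd
  exact @bijective_Hpull_comp _ _ _ e (π₀ ≫ q₀) p hep _ hr _ _ _ (EtPBC0.AcycComp.bijective_Hpull_of_isIso e _ q)
    ((@EtPBC0.AcycComp.Hpull_comp_iff _ _ _ π₀ q₀ (π₀ ≫ q₀) rfl _ _ hr F q).1.2 hp₀)

end Groth.Agent.EtPBCq
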