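import Groth.Agent.EtPBCq.RshriekTools
import Groth.Agent.EtPBCq.ShriekCd
import Groth.Agent.S0686
import Groth.Agent.S0685
import Groth.Agent.S0156
import Groth.Agent.S0071

/-!
# Extension by zero commutes with proper direct images
-/

set_option autoImplicit false
set_option linter.style.haveILetI false
set_option backward.isDefEq.respectTransparency false
set_option backward.isDefEq.respectTransparency.types false
set_option maxHeartbeats 1000000

universe u

open CategoryTheory CategoryTheory.Limits AlgebraicGeometry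

attribute [local instance] HasDerivedCategory.standard

namespace Groth.Agent.EtPBCq

variable {U V X Y : Scheme.{u}} (j₁ : U ⟶ X) [IsOpenImmersion j₁] (j₂ : V ⟶ Y) [IsOpenImmersion j₂]
  (g : U ⟶ V) [IsProper g] (f : X ⟶ Y) [IsProper f] (w : j₁ ≫ f = g ≫ j₂)

include w

theorem nonempty_extZero_push_iso :
    Nonempty (EtShriek.extZero j₁ ⋙ EtCoh.push f ≅ EtCoh.push g ⋙ EtShriek.extZero j₂) := by
  obtain ⟨e₁⟩ := Groth.Agent.S0686.result j₁ f (g ≫ j₂) w.symm
  obtain ⟨e₂⟩ := Groth.Agent.S0685.result g j₂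
  obtain ⟨e₃⟩ := nonempty_lowerShriek_iso_push g
  obtain ⟨e₄⟩ := ShriekLib.nonempty_extZero_iso_lowerShriek j₂
  exact ⟨e₁.symm ≪≫ e₂ ≪≫ Functor.isoWhiskerRight e₃ _ ≪≫ Functor.isoWhiskerLeft _ e₄.symm⟩

theorem isZero_Rpush_extZero_square {F : EtCoh.Ab U} (hF : EtCoh.IsTorsion F) (i : ℕ)
    (hac : IsZero ((EtCoh.Rpush g (i + 1)).obj F)) :
    IsZero ((EtCoh.Rpush f (i + 1)).obj ((EtShriek.extZero j₁).obj F)) := by
  refine (EtFound.isZero_iff_stalks _).2 fun Ω _ _ ξ => ?_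
  obtain ⟨e⟩ := S0156.result f ξ _ (isTorsion_extZero j₁ hF) (i + 1)
  refine IsZero.of_iso ?_ e
  suffices Subsingleton (EtCoh.H (pullback f ξ) ((EtCoh.pull (pullback.fst f ξ)).obj ((EtShriek.extZero j₁).obj F)) (i + 1)) from
    AddCommGrpCat.isZero_of_subsingleton _
  by_cases hy : ξ.base default ∈ Set.range j₂.base
  · have hr : Set.range ξ.base ⊆ Set.range j₂.base := by
      rintro _ ⟨x, rfl⟩; rwa [Subsingleton.elim x default]
    let ξ' := IsOpenImmersion.lift j₂ ξ hr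
    have hξ : ξ' ≫ j₂ = ξ := IsOpenImmersion.lift_fac j₂ ξ hr
    have outer : IsPullback (pullback.fst g ξ') (pullback.snd g ξ') (j₁ ≫ f) ξ := by
      rw [w, ← hξ]
      exact IsPullback.of_isLimit' ⟨by rw [pullback.condition_assoc]⟩ (pullbackIsPullbackOfCompMono g ξ' j₂)
    let q : pullback g ξ' ⟶ pullback f ξ := pullback.lift (pullback.fst _ _ ≫ j₁) (pullback.snd _ _)
      (by rw [Category.assoc]; exact outer.w)
    have hq : IsPullback q (pullback.fst g ξ') (pullback.fst f ξ) j₁ :=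
      (IsPullback.of_bot (by rw [pullback.lift_snd]; exact outer)
        (pullback.lift_fst _ _ _).symm (IsPullback.of_hasPullback f ξ)).flip
    haveI : IsOpenImmersion q := MorphismProperty.of_isPullback hq.flip ‹IsOpenImmersion j₁›
    haveI : IsProper (q ≫ pullback.snd f ξ) := by rw [pullback.lift_snd]; infer_instance
    haveI : IsProper q := IsProper.of_comp q (pullback.snd f ξ)
    haveI : IsClosedImmersion q := (IsClosedImmersion.iff_isProper_and_mono q).2 ⟨inferInstance, inferInstance⟩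
    obtain ⟨e₁⟩ := EtFound.nonempty_pull_extZero_iso j₁ (pullback.fst f ξ) q (pullback.fst g ξ') hq
    obtain ⟨e₂⟩ := ShriekLib.nonempty_extZero_iso_lowerShriek q
    obtain ⟨e₃⟩ := nonempty_lowerShriek_iso_push q
    refine CdDim.subsingleton_H_of_iso' (((e₂ ≪≫ e₃).app _).symm ≪≫ e₁.app F) (i + 1)
      (CdDim.subsingleton_H_push q i _ ?_ fun b m hb _ => ?_)
    · obtain ⟨e₀⟩ := S0156.result g ξ' F hF (i + 1)
      exact AddCommGrpCat.subsingleton_of_isZero ((((EtCoh.stalk ξ').map_isZero hac)).of_iso e₀.symm)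
    · exact AddCommGrpCat.subsingleton_of_isZero ((EtCoh.HF _ m).map_isZero (S0071.result q _ b hb))
  · let q : pullback (j₁ ≫ f) ξ ⟶ pullback f ξ := pullback.lift (pullback.fst _ _ ≫ j₁) (pullback.snd _ _)
      (by rw [Category.assoc]; exact pullback.condition)
    have hq : IsPullback q (pullback.fst (j₁ ≫ f) ξ) (pullback.fst f ξ) j₁ :=
      (IsPullback.of_bot (by rw [pullback.lift_snd]; exact IsPullback.of_hasPullback (j₁ ≫ f) ξ)
        (pullback.lift_fst _ _ _).symm (IsPullback.of_hasPullback f ξ)).flip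
    haveI : IsOpenImmersion q := MorphismProperty.of_isPullback hq.flip ‹IsOpenImmersion j₁›
    obtain ⟨e₁⟩ := EtFound.nonempty_pull_extZero_iso j₁ (pullback.fst f ξ) q (pullback.fst (j₁ ≫ f) ξ) hq
    haveI : IsEmpty ↥(pullback (j₁ ≫ f) ξ) := ⟨fun z => hy (by
      have h1 := congrArg (fun m : pullback (j₁ ≫ f) ξ ⟶ Y => m.base z) (pullback.condition (f := j₁ ≫ f) (g := ξ))
      have h2 : (j₁ ≫ f).base ((pullback.fst (j₁ ≫ f) ξ).base z) = ξ.base ((pullback.snd (j₁ ≫ f) ξ).base z) := h1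
      rw [Subsingleton.elim ((pullback.snd (j₁ ≫ f) ξ).base z) default] at h2
      exact ⟨g.base ((pullback.fst (j₁ ≫ f) ξ).base z),
        (congrArg (fun m : U ⟶ Y => m.base ((pullback.fst (j₁ ≫ f) ξ).base z)) w).symm.trans h2⟩)⟩
    have hz : IsZero ((EtCoh.pull (pullback.fst (j₁ ≫ f) ξ)).obj F) :=
      (EtFound.isZero_iff_stalks _).2 fun Ω' _ _ ζ => isEmptyElim (ζ.base default)
    exact AddCommGrpCat.subsingleton_of_isZero
      ((EtCoh.HF _ (i + 1)).map_isZero (((EtShriek.extZero q).map_isZero hz).of_iso (e₁.app F).symm))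

/-- `j₂! Rg_* ≅ Rf_* j₁!` on bounded below objects with torsion cohomology. -/
theorem nonempty_extZeroD_Rpush_iso [PreservesFiniteLimits (EtShriek.extZero j₁)] [PreservesFiniteLimits (EtShriek.extZero j₂)]
    [DCoh.HasRpushEt U g] [DCoh.HasRpushEt X f] (K : DCoh.DEt U) (a : ℤ)
    (hb : ∀ n : ℤ, n < a → IsZero (DCoh.HDEt K n)) (ht : ∀ n : ℤ, EtCoh.IsTorsion (DCoh.HDEt K n)) :
    Nonempty ((DCoh.RpushEt X f).obj ((DEt.extZeroD j₁).obj K) ≅
      (DEt.extZeroD j₂).obj ((DCoh.RpushEt U g).obj K)) := by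
  obtain ⟨T, hT, htT, hac, ⟨eT⟩⟩ := exists_torsion_rep K a hb ht
  haveI := hT
  obtain ⟨e₁⟩ := nonempty_extZero_push_iso j₁ j₂ g f w
  obtain ⟨e₂⟩ := nonempty_RpushEt_mapD_iso f (EtShriek.extZero j₁) (EtCoh.push g ⋙ EtShriek.extZero j₂) e₁ T a
    (fun n q => isZero_Rpush_extZero_square j₁ j₂ g f w (htT n) q (hac n g q))
  obtain ⟨e₃⟩ := nonempty_RpushEt_Q_iso g T a (fun n q => hac n g q)
  exact ⟨(DCoh.RpushEt X f).mapIso ((DEt.extZeroD j₁).mapIso eT.symm) ≪≫ e₂ ≪≫
    DerivedCategory.Q.mapIso (HomologicalComplex.Hom.isoOfComponents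
      (C₁ := ((EtCoh.push g ⋙ EtShriek.extZero j₂).mapHomologicalComplex (ComplexShape.up ℤ)).obj T)
      (C₂ := ((EtShriek.extZero j₂).mapHomologicalComplex (ComplexShape.up ℤ)).obj
        (((EtCoh.push g).mapHomologicalComplex (ComplexShape.up ℤ)).obj T))
      (fun i => Iso.refl _) (by intro i k _; simp)) ≪≫
    ((EtShriek.extZero j₂).mapDerivedCategoryFactors.app _).symm ≪≫
    (DEt.extZeroD j₂).mapIso (e₃.symm ≪≫ (DCoh.RpushEt U g).mapIso eT)⟩

end Groth.Agent.EtPBCq
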